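/-
The Suzuki group as the stabiliser of the Suzuki-Tits ovoid: points and explicit elements.
-/
import Cfsg.Prelude.Def_LieExceptional

set_option autoImplicit false

namespace CfsgLib.Sz

open Matrix Cfsg

/-- The facts about the field and the exponents used. -/
structure Ctx (F : Type*) [Field F] (θ r : ℕ) : Prop where
  two : (2 : F) = 0
  hr : θ = 2 * r
  add : ∀ a b : F, (a + b) ^ θ = a ^ θ + b ^ θ
  sq : ∀ a : F, (a ^ θ) ^ θ = a ^ 2

section

variable {F : Type*} [Field F] {θ r : ℕ}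

/-- The function `f` of the ovoid. -/
def fo (θ : ℕ) (x y : F) : F := x * y + x ^ (θ + 2) + y ^ θ

/-- The vector of a finite point. -/
def ptv (θ : ℕ) (x y : F) : Fin 4 → F := ![fo θ x y, y, x, 1]

lemma ptv_ne (x y : F) : ptv θ x y ≠ 0 := by
  intro h
  have := congrFun h 3
  simp [ptv] at this

/-- A finite point. -/
def P (θ : ℕ) (x y : F) : Projectivization F (Fin 4 → F) := Projectivization.mk F (ptv θ x y) (ptv_ne x y)

lemma vinf_ne : (![1, 0, 0, 0] : Fin 4 → F) ≠ 0 := by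
  intro h
  have := congrFun h 0
  simp at this

lemma P_inj {x y x' y' : F} (h : P θ x y = P θ x' y') : x = x' ∧ y = y' := by
  obtain ⟨c, hc⟩ := (Projectivization.mk_eq_mk_iff' F _ _ (ptv_ne x y) (ptv_ne x' y')).1 h
  have h3 := congrFun hc 3
  simp only [ptv, Pi.smul_apply, smul_eq_mul] at h3
  have c1 : c = 1 := by simpa using h3
  subst c1
  have h1 := congrFun hc 1
  have h2 := congrFun hc 2
  simp only [ptv, Pi.smul_apply, smul_eq_mul, one_mul] at h1 h2
  exact ⟨by simpa using h2.symm, by simpa using h1.symm⟩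

lemma P_ne_inf (x y : F) : P θ x y ≠ suzukiPointInfinity F := by
  intro h
  obtain ⟨c, hc⟩ := (Projectivization.mk_eq_mk_iff' F _ _ (ptv_ne x y) vinf_ne).1 h
  have h3 := congrFun hc 3
  simp [ptv] at h3

lemma ovoid_eq (m : ℕ) : suzukiOvoid F m = {suzukiPointInfinity F} ∪ Set.range (fun p : F × F => P (2 ^ (m + 1)) p.1 p.2) := by
  ext p
  constructor
  · rintro ⟨v, hv, rfl, rfl | ⟨x, y, rfl⟩⟩
    · exact Or.inl rfl
    · exact Or.inr ⟨(x, y), rfl⟩
  · rintro (rfl | ⟨⟨x, y⟩, rfl⟩)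
    · exact ⟨_, vinf_ne, rfl, Or.inl rfl⟩
    · exact ⟨_, ptv_ne x y, rfl, Or.inr ⟨x, y, rfl⟩⟩

/-- The count of the ovoid. -/
theorem card_ovoid [Fintype F] (m : ℕ) : Nat.card (suzukiOvoid F m) = Fintype.card F ^ 2 + 1 := by
  classical
  have e : Option (F × F) ≃ suzukiOvoid F m := by
    refine Equiv.ofBijective (fun o => match o with
      | none => ⟨suzukiPointInfinity F, by rw [ovoid_eq]; exact Or.inl rfl⟩
      | some p => ⟨P (2 ^ (m + 1)) p.1 p.2, by rw [ovoid_eq]; exact Or.inr ⟨p, rfl⟩⟩) ⟨?_, ?_⟩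
    · rintro (_ | ⟨x, y⟩) (_ | ⟨x', y'⟩) h
      · rfl
      · exact absurd (congrArg Subtype.val h).symm (P_ne_inf _ _)
      · exact absurd (congrArg Subtype.val h) (P_ne_inf _ _)
      · obtain ⟨h1, h2⟩ := P_inj (congrArg Subtype.val h)
        simp only at h1 h2
        rw [h1, h2]
    · rintro ⟨p, hp⟩
      rw [ovoid_eq] at hp
      rcases hp with rfl | ⟨⟨x, y⟩, rfl⟩
      · exact ⟨none, rfl⟩
      · exact ⟨some (x, y), rfl⟩
  rw [← Nat.card_congr e, Nat.card_eq_fintype_card, Fintype.card_option, Fintype.card_prod, pow_two]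

variable (C : Ctx F θ r)

include C

lemma neg_eq (a : F) : -a = a := by
  have := C.two
  linear_combination (-a) * this

lemma add_self (a : F) : a + a = 0 := by
  have := C.two
  linear_combination a * this

/-- The identity for the function `f` under translations. -/
lemma fo_trans (a b x y : F) : fo θ (x + a) (y + a ^ θ * x + b) =
    fo θ x y + a * y + (b + a ^ (θ + 1)) * x + (a * b + a ^ (θ + 2) + b ^ θ) := by
  unfold fo
  have e1 : (x + a) ^ (θ + 2) = (x ^ θ + a ^ θ) * (x ^ 2 + a ^ 2) := by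
    rw [pow_add, C.add]
    congr 1
    have := C.two
    linear_combination (x * a) * this
  have e2 : (y + a ^ θ * x + b) ^ θ = y ^ θ + a ^ 2 * x ^ θ + b ^ θ := by
    rw [C.add, C.add, mul_pow, C.sq]
  rw [e1, e2]
  have := C.two
  have hh : ∀ u : F, u + u = 0 := add_self C
  ring_nf
  linear_combination (a ^ θ * x ^ 2 + a ^ 2 * x ^ θ) * this

/-- The identity for the function `f` under the torus. -/
lemma fo_torus (α x y : F) : fo θ (α * x) (α ^ (θ + 1) * y) = α ^ (θ + 2) * fo θ x y := by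
  unfold fo
  have e : (α ^ (θ + 1) * y) ^ θ = α ^ 2 * α ^ θ * y ^ θ := by
    rw [mul_pow, pow_succ, mul_pow, C.sq]
  rw [e, mul_pow]
  ring

/-- The identity for the function `f` under the inversion. -/
lemma fo_key (x y : F) : x * y * (fo θ x y) ^ θ + y ^ θ * y ^ 2 + x ^ θ * (fo θ x y) ^ 2 = (fo θ x y) ^ θ * fo θ x y := by
  have e1 : (fo θ x y) ^ θ = x ^ θ * y ^ θ + x ^ 2 * (x ^ θ) ^ 2 + y ^ 2 := by
    unfold fo
    rw [C.add, C.add, C.sq, mul_pow, pow_add, mul_pow, C.sq, ← pow_mul, mul_comm 2 θ, pow_mul]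
  rw [e1]
  have e2 : fo θ x y = x * y + x ^ θ * x ^ 2 + y ^ θ := by
    unfold fo
    rw [pow_add]
  rw [e2]
  generalize x ^ θ = X
  generalize y ^ θ = Y
  have := C.two
  linear_combination (X ^ 2 * x ^ 3 * y + X * x * y * Y) * this

lemma fo_inv {x y : F} (h : fo θ x y ≠ 0) : fo θ (y / fo θ x y) (x / fo θ x y) = 1 / fo θ x y := by
  have key := fo_key C x y
  set f := fo θ x y with hf
  have e0 : fo θ (y / f) (x / f) = y * x * f⁻¹ ^ 2 + y ^ θ * y ^ 2 * (f⁻¹ ^ θ * f⁻¹ ^ 2) + x ^ θ * f⁻¹ ^ θ := by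
    unfold fo
    simp only [div_eq_mul_inv]
    rw [pow_add, mul_pow, mul_pow, mul_pow]
    ring
  rw [e0, one_div]
  have hfg : f * f⁻¹ = 1 := mul_inv_cancel₀ h
  have hAB : f ^ θ * f⁻¹ ^ θ = 1 := by
    rw [← mul_pow, hfg, one_pow]
  generalize f⁻¹ = g at *
  generalize hA : f ^ θ = A at *
  generalize hB : g ^ θ = B at *
  generalize x ^ θ = X at *
  generalize y ^ θ = Y at *
  linear_combination (B * g ^ 2) * key + (f * g ^ 2 - x * y * g ^ 2) * hAB + (g - X * B * (1 + f * g)) * hfg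

/-- `f` vanishes only at the origin. -/
lemma fo_eq_zero {x y : F} (h : fo θ x y = 0) (hθ : 0 < θ) : x = 0 ∧ y = 0 := by
  have key := fo_key C x y
  rw [h] at key
  have e0 : (0 : F) ^ θ = 0 := zero_pow hθ.ne'
  simp only [e0, mul_zero, zero_add, ne_eq, OfNat.ofNat_ne_zero, not_false_eq_true, zero_pow, add_zero] at key
  have hy : y = 0 := by
    have h1 : y ^ (θ + 2) = 0 := by
      rw [pow_add]
      exact key
    exact pow_eq_zero_iff (by omega) |>.1 h1
  subst hy
  unfold fo at h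
  simp only [mul_zero, zero_add, e0, add_zero] at h
  exact ⟨pow_eq_zero_iff (by omega) |>.1 h, rfl⟩

end

section elements

variable {F : Type*} [Field F] {θ r : ℕ}

/-- The matrix of a translation. -/
def smat (θ : ℕ) (a b : F) : Matrix (Fin 4) (Fin 4) F :=
  !![1, a, b + a ^ (θ + 1), a * b + a ^ (θ + 2) + b ^ θ; 0, 1, a ^ θ, b; 0, 0, 1, a; 0, 0, 0, 1]

lemma smat_det (a b : F) : (smat θ a b).det = 1 := by
  rw [Matrix.det_of_isUpperTriangular]
  · simp [smat, Fin.prod_univ_four]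
  · intro i j hij
    fin_cases i <;> fin_cases j <;> first | (exact absurd hij (by decide)) | simp [smat]

/-- The translation as an element of `SL₄`. -/
def S (θ : ℕ) (a b : F) : Matrix.SpecialLinearGroup (Fin 4) F := ⟨smat θ a b, smat_det a b⟩

/-- The torus element as a matrix. -/
def mmat (r : ℕ) (α : Fˣ) : Matrix (Fin 4) (Fin 4) F :=
  Matrix.diagonal ![(α : F) ^ (r + 1), (α : F) ^ r, ((α⁻¹ : Fˣ) : F) ^ r, ((α⁻¹ : Fˣ) : F) ^ (r + 1)]

lemma mmat_det (α : Fˣ) : (mmat r α).det = 1 := by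
  have h : (α : F) * ((α⁻¹ : Fˣ) : F) = 1 := by simp
  rw [mmat, Matrix.det_diagonal, Fin.prod_univ_four]
  simp only [Matrix.cons_val_zero, Matrix.cons_val_one, Matrix.cons_val]
  have h2 : (α : F) ^ r * ((α⁻¹ : Fˣ) : F) ^ r = 1 := by
    rw [← mul_pow, h, one_pow]
  have h3 : (α : F) ^ (r + 1) * ((α⁻¹ : Fˣ) : F) ^ (r + 1) = 1 := by
    rw [← mul_pow, h, one_pow]
  calc (α : F) ^ (r + 1) * (α : F) ^ r * ((α⁻¹ : Fˣ) : F) ^ r * ((α⁻¹ : Fˣ) : F) ^ (r + 1)
      = ((α : F) ^ (r + 1) * ((α⁻¹ : Fˣ) : F) ^ (r + 1)) * ((α : F) ^ r * ((α⁻¹ : Fˣ) : F) ^ r) := by ring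
    _ = 1 := by rw [h2, h3, one_mul]

/-- The torus element in `SL₄`. -/
def M (r : ℕ) (α : Fˣ) : Matrix.SpecialLinearGroup (Fin 4) F := ⟨mmat r α, mmat_det α⟩

lemma tmat_det : (suzukiForm F).det = 1 := by
  simp [suzukiForm, Matrix.det_succ_row_zero, Fin.sum_univ_succ, Fin.succAbove]
  norm_num

/-- The inversion in `SL₄`. -/
def T (F : Type*) [Field F] : Matrix.SpecialLinearGroup (Fin 4) F := ⟨suzukiForm F, tmat_det⟩

lemma smul_def (g : Matrix.SpecialLinearGroup (Fin 4) F) (v : Fin 4 → F) : g • v = (g : Matrix (Fin 4) (Fin 4) F) *ᵥ v := rfl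

lemma pt_eq {v w : Fin 4 → F} (hv : v ≠ 0) (hw : w ≠ 0) (c : F) (h : c • w = v) : Projectivization.mk F v hv = Projectivization.mk F w hw :=
  (Projectivization.mk_eq_mk_iff' F _ _ hv hw).2 ⟨c, h⟩

variable (C : Ctx F θ r)

include C

lemma S_inf (a b : F) : S θ a b • suzukiPointInfinity F = suzukiPointInfinity F := by
  unfold suzukiPointInfinity
  rw [Projectivization.smul_mk]
  refine pt_eq _ _ 1 ?_
  rw [smul_def]
  ext i
  fin_cases i <;> simp [S, smat, Matrix.mulVec, dotProduct, Fin.sum_univ_four]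

lemma S_P (a b x y : F) : S θ a b • P θ x y = P θ (x + a) (y + a ^ θ * x + b) := by
  unfold P
  rw [Projectivization.smul_mk]
  refine pt_eq _ _ 1 ?_
  rw [smul_def]
  have h1 := fo_trans C a b x y
  ext i
  fin_cases i
  · simp [S, smat, Matrix.mulVec, dotProduct, Fin.sum_univ_four, ptv]
    rw [h1]
  · simp [S, smat, Matrix.mulVec, dotProduct, Fin.sum_univ_four, ptv]
  · simp [S, smat, Matrix.mulVec, dotProduct, Fin.sum_univ_four, ptv]
  · simp [S, smat, Matrix.mulVec, dotProduct, Fin.sum_univ_four, ptv]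

lemma M_inf (α : Fˣ) : M r α • suzukiPointInfinity F = suzukiPointInfinity F := by
  unfold suzukiPointInfinity
  rw [Projectivization.smul_mk]
  refine pt_eq _ _ ((α : F) ^ (r + 1)) ?_
  rw [smul_def]
  ext i
  fin_cases i <;> simp [M, mmat, Matrix.mulVec, dotProduct, Fin.sum_univ_four, Matrix.diagonal_apply]

lemma M_P (α : Fˣ) (x y : F) : M r α • P θ x y = P θ (α * x) ((α : F) ^ (θ + 1) * y) := by
  unfold P
  rw [Projectivization.smul_mk]
  have h0 : (α : F) ≠ 0 := α.ne_zero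
  have hi : ((α⁻¹ : Fˣ) : F) = (α : F)⁻¹ := by simp
  refine pt_eq _ _ (((α : F)⁻¹) ^ (r + 1)) ?_
  rw [smul_def]
  have h1 := fo_torus C (α : F) x y
  have hθ := C.hr
  have e1 : (α : F) ^ (θ + 2) * ((α : F) ^ (r + 1))⁻¹ = (α : F) ^ (r + 1) := by
    subst hθ
    have : 2 * r + 2 = (r + 1) + (r + 1) := by ring
    rw [this, pow_add, mul_assoc, mul_inv_cancel₀ (pow_ne_zero _ h0), mul_one]
  have e2 : (α : F) ^ (θ + 1) * ((α : F) ^ (r + 1))⁻¹ = (α : F) ^ r := by
    subst hθ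
    have : 2 * r + 1 = r + (r + 1) := by ring
    rw [this, pow_add, mul_assoc, mul_inv_cancel₀ (pow_ne_zero _ h0), mul_one]
  have e3 : (α : F) * ((α : F) ^ (r + 1))⁻¹ = ((α : F) ^ r)⁻¹ := by
    rw [pow_succ]
    field_simp
  ext i
  fin_cases i
  · simp [M, mmat, Matrix.mulVec, dotProduct, Fin.sum_univ_four, ptv, Matrix.diagonal_apply]
    rw [h1]
    linear_combination (fo θ x y) * e1
  · simp [M, mmat, Matrix.mulVec, dotProduct, Fin.sum_univ_four, ptv, Matrix.diagonal_apply]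
    linear_combination y * e2
  · simp [M, mmat, Matrix.mulVec, dotProduct, Fin.sum_univ_four, ptv, Matrix.diagonal_apply]
    linear_combination x * e3
  · simp [M, mmat, Matrix.mulVec, dotProduct, Fin.sum_univ_four, ptv, Matrix.diagonal_apply]

lemma T_inf (hθ : 0 < θ) : T F • suzukiPointInfinity F = P θ 0 0 := by
  unfold suzukiPointInfinity P
  rw [Projectivization.smul_mk]
  refine pt_eq _ _ 1 ?_
  rw [smul_def]
  have e0 : (0 : F) ^ θ = 0 := zero_pow hθ.ne'
  ext i
  fin_cases i <;> simp [T, suzukiForm, Matrix.mulVec, dotProduct, Fin.sum_univ_four, ptv, fo, e0]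

lemma T_P0 (hθ : 0 < θ) : T F • P θ (0 : F) 0 = suzukiPointInfinity F := by
  unfold suzukiPointInfinity P
  rw [Projectivization.smul_mk]
  refine pt_eq _ _ 1 ?_
  rw [smul_def]
  have e0 : (0 : F) ^ θ = 0 := zero_pow hθ.ne'
  ext i
  fin_cases i <;> simp [T, suzukiForm, Matrix.mulVec, dotProduct, Fin.sum_univ_four, ptv, fo, e0]

lemma T_P {x y : F} (h : fo θ x y ≠ 0) : T F • P θ x y = P θ (y / fo θ x y) (x / fo θ x y) := by
  unfold P
  rw [Projectivization.smul_mk]
  refine pt_eq _ _ (fo θ x y) ?_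
  rw [smul_def]
  have h1 := fo_inv C h
  ext i
  fin_cases i
  · simp [T, suzukiForm, Matrix.mulVec, dotProduct, Fin.sum_univ_four, ptv]
    rw [h1]
    field_simp
  · simp [T, suzukiForm, Matrix.mulVec, dotProduct, Fin.sum_univ_four, ptv]
    field_simp
  · simp [T, suzukiForm, Matrix.mulVec, dotProduct, Fin.sum_univ_four, ptv]
    field_simp
  · simp [T, suzukiForm, Matrix.mulVec, dotProduct, Fin.sum_univ_four, ptv]

end elements

end CfsgLib.Sz
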