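/-
The structure of the Suzuki group: stabilisers of points.
-/
import Cfsg.Agent.Lib.Sz.Basic

set_option autoImplicit false

namespace CfsgLib.Sz

open Matrix Cfsg
open scoped Pointwise

section field

variable {F : Type*} [Field F] [Fintype F] {m : ℕ}

lemma charTwo_of_card (hF : Fintype.card F = 2 ^ (2 * m + 1)) : (2 : F) = 0 := by
  have h1 : ((Fintype.card F : ℕ) : F) = 0 := Nat.cast_card_eq_zero F
  rw [hF, Nat.cast_pow] at h1
  have h2 := pow_eq_zero_iff (by omega) |>.1 h1
  exact_mod_cast h2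

lemma ctx_of_card (hF : Fintype.card F = 2 ^ (2 * m + 1)) : Ctx F (2 ^ (m + 1)) (2 ^ m) := by
  have h2 := charTwo_of_card hF
  haveI : CharP F 2 := CharTwo.of_one_ne_zero_of_two_eq_zero one_ne_zero h2
  haveI : Fact (Nat.Prime 2) := ⟨Nat.prime_two⟩
  refine ⟨h2, by ring, fun a b => add_pow_char_pow a b 2 (m + 1), fun a => ?_⟩
  have e : (2 ^ (m + 1)) * (2 ^ (m + 1)) = Fintype.card F * 2 := by
    rw [hF]
    ring
  rw [← pow_mul, e, pow_mul, FiniteField.pow_card]

end field

section action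

variable {F : Type*} [Field F] [Fintype F] {m : ℕ}

local notation "SL4" => Matrix.SpecialLinearGroup (Fin 4) F

local notation "θm" => (2 ^ (m + 1) : ℕ)

lemma inf_mem : suzukiPointInfinity F ∈ suzukiOvoid F m := by
  rw [ovoid_eq]
  exact Or.inl rfl

lemma P_mem (x y : F) : P θm x y ∈ suzukiOvoid F m := by
  rw [ovoid_eq]
  exact Or.inr ⟨(x, y), rfl⟩

lemma ovoid_cases {p : Projectivization F (Fin 4 → F)} (hp : p ∈ suzukiOvoid F m) : p = suzukiPointInfinity F ∨ ∃ x y : F, p = P θm x y := by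
  rw [ovoid_eq] at hp
  rcases hp with rfl | ⟨⟨x, y⟩, rfl⟩
  · exact Or.inl rfl
  · exact Or.inr ⟨x, y, rfl⟩

lemma ovoid_finite : (suzukiOvoid F m).Finite := by
  rw [ovoid_eq]
  exact (Set.finite_singleton _).union (Set.finite_range _)

/-- Membership in the Suzuki group from the action on points. -/
lemma mem_Sz {g : SL4} (h1 : g • suzukiPointInfinity F ∈ suzukiOvoid F m) (h2 : ∀ x y : F, g • P θm x y ∈ suzukiOvoid F m) : g ∈ Sz F m := by
  rw [MulAction.mem_stabilizer_iff]
  refine Set.eq_of_subset_of_ncard_le ?_ ?_ ovoid_finite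
  · rintro _ ⟨p, hp, rfl⟩
    rcases ovoid_cases hp with rfl | ⟨x, y, rfl⟩
    · exact h1
    · exact h2 x y
  · have : (g • suzukiOvoid F m).ncard = (suzukiOvoid F m).ncard := by
      rw [← Set.image_smul]
      exact Set.ncard_image_of_injective _ (MulAction.injective g)
    rw [this]

lemma smul_mem_O {g : SL4} (hg : g ∈ Sz F m) {p : Projectivization F (Fin 4 → F)} (hp : p ∈ suzukiOvoid F m) : g • p ∈ suzukiOvoid F m := by
  have h := MulAction.mem_stabilizer_iff.1 hg
  rw [← h]
  exact Set.smul_mem_smul_set hp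

variable (hF : Fintype.card F = 2 ^ (2 * m + 1))

include hF

lemma S_mem (a b : F) : S θm a b ∈ Sz F m := by
  have C := ctx_of_card hF
  apply mem_Sz
  · rw [S_inf C]
    exact inf_mem
  · intro x y
    rw [S_P C]
    exact P_mem _ _

lemma M_mem (α : Fˣ) : M (2 ^ m) α ∈ Sz F m := by
  have C := ctx_of_card hF
  apply mem_Sz
  · rw [M_inf C]
    exact inf_mem
  · intro x y
    rw [M_P C]
    exact P_mem _ _

lemma T_mem : T F ∈ Sz F m := by
  have C := ctx_of_card hF
  have h0 : 0 < (2 ^ (m + 1) : ℕ) := by positivity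
  apply mem_Sz
  · rw [T_inf C h0]
    exact P_mem _ _
  · intro x y
    by_cases h : fo θm x y = 0
    · obtain ⟨rfl, rfl⟩ := fo_eq_zero C h h0
      rw [T_P0 C h0]
      exact inf_mem
    · rw [T_P C h]
      exact P_mem _ _

/-- Vanishing of functions of a small degree. -/
lemma coef_zero {θ : ℕ} (h3 : 3 ≤ θ) (hlt : θ + 2 < Fintype.card F) {a b c e : F} (h : ∀ y : F, a * y ^ (θ + 2) + b * y ^ θ + c * y ^ 2 + e * y = 0) :
    a = 0 ∧ b = 0 ∧ c = 0 ∧ e = 0 := by
  classical
  set p : Polynomial F := Polynomial.C a * Polynomial.X ^ (θ + 2) + Polynomial.C b * Polynomial.X ^ θ + Polynomial.C c * Polynomial.X ^ 2 + Polynomial.C e * Polynomial.X with hp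
  have hdeg : p.natDegree ≤ θ + 2 := by
    rw [hp]
    compute_degree
  have hz : p = 0 := by
    refine Polynomial.eq_zero_of_natDegree_lt_card_of_eval_eq_zero p (f := fun x : F => x) (fun _ _ h => h) ?_ ?_
    · intro x
      simp only [hp, Polynomial.eval_add, Polynomial.eval_mul, Polynomial.eval_C, Polynomial.eval_pow, Polynomial.eval_X]
      exact h x
    · omega
  have c1 := congrArg (fun q => Polynomial.coeff q (θ + 2)) hz
  have c2 := congrArg (fun q => Polynomial.coeff q θ) hz
  have c3 := congrArg (fun q => Polynomial.coeff q 2) hz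
  have c4 := congrArg (fun q => Polynomial.coeff q 1) hz
  simp only [hp, Polynomial.coeff_add, Polynomial.coeff_C_mul, Polynomial.coeff_X_pow, Polynomial.coeff_X, Polynomial.coeff_zero] at c1 c2 c3 c4
  refine ⟨?_, ?_, ?_, ?_⟩
  · rw [if_pos trivial, if_neg (by omega), if_neg (by omega), if_neg (by omega)] at c1
    simpa using c1
  · rw [if_neg (by omega), if_pos trivial, if_neg (by omega), if_neg (by omega)] at c2
    simpa using c2
  · rw [if_neg (by omega), if_neg (by omega), if_pos trivial, if_neg (by omega)] at c3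
    simpa using c3
  · rw [if_neg (by omega), if_neg (by omega), if_neg (by omega), if_pos trivial] at c4
    simpa using c4

/-- The exponents are small. -/
lemma exp_small (hm : 1 ≤ m) : 3 ≤ (2 ^ (m + 1) : ℕ) ∧ (2 ^ (m + 1) : ℕ) + 2 < Fintype.card F := by
  have h1 : (2 : ℕ) ^ 1 ≤ 2 ^ m := Nat.pow_le_pow_right (by norm_num) hm
  have e1 : (2 : ℕ) ^ (m + 1) = 2 * 2 ^ m := by ring
  have e2 : (2 : ℕ) ^ (2 * m + 1) = 2 * (2 ^ m) ^ 2 := by ring
  rw [hF, e1, e2]
  generalize (2 : ℕ) ^ m = r at *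
  constructor
  · omega
  · nlinarith

lemma T_sq : T F * T F = 1 := by
  have h2 := charTwo_of_card hF
  apply Subtype.ext
  show suzukiForm F * suzukiForm F = 1
  ext i j
  fin_cases i <;> fin_cases j <;> simp [suzukiForm, Matrix.mul_apply, Fin.sum_univ_four]

/-- The stabiliser of two points. -/
theorem two_pt (hm : 1 ≤ m) {g : SL4} (hg : g ∈ Sz F m) (h1 : g • suzukiPointInfinity F = suzukiPointInfinity F) (h0 : g • P θm (0 : F) 0 = P θm 0 0) :
    ∃ α : Fˣ, g = M (2 ^ m) α := by
  have C := ctx_of_card hF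
  have h20 := C.two
  obtain ⟨h3, hlt⟩ := exp_small hF hm
  have hθ0 : (0 : F) ^ (2 ^ (m + 1)) = 0 := zero_pow (by positivity)
  have hθ2 : (0 : F) ^ (2 ^ (m + 1) + 2) = 0 := zero_pow (by positivity)
  set A : Matrix (Fin 4) (Fin 4) F := (g : Matrix (Fin 4) (Fin 4) F) with hA
  have hdet : A.det = 1 := g.2
  have hmul : ∀ v, g • v = A *ᵥ v := fun v => rfl
  -- the first column
  obtain ⟨c, hc⟩ : ∃ c : F, c • (![1, 0, 0, 0] : Fin 4 → F) = A *ᵥ ![1, 0, 0, 0] := by
    unfold suzukiPointInfinity at h1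
    rw [Projectivization.smul_mk] at h1
    obtain ⟨c, hc⟩ := (Projectivization.mk_eq_mk_iff' F _ _ _ vinf_ne).1 h1
    exact ⟨c, hc⟩
  obtain ⟨d, hd⟩ : ∃ d : F, d • (ptv θm (0 : F) 0) = A *ᵥ (ptv θm (0 : F) 0) := by
    unfold P at h0
    rw [Projectivization.smul_mk] at h0
    obtain ⟨c, hc⟩ := (Projectivization.mk_eq_mk_iff' F _ _ _ (ptv_ne _ _)).1 h0
    exact ⟨c, hc⟩
  have c0 : A 0 0 = c := by simpa [Matrix.mulVec, dotProduct, Fin.sum_univ_four] using (congrFun hc 0).symm
  have c1 : A 1 0 = 0 := by simpa [Matrix.mulVec, dotProduct, Fin.sum_univ_four] using (congrFun hc 1).symm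
  have c2 : A 2 0 = 0 := by simpa [Matrix.mulVec, dotProduct, Fin.sum_univ_four] using (congrFun hc 2).symm
  have c3 : A 3 0 = 0 := by simpa [Matrix.mulVec, dotProduct, Fin.sum_univ_four] using (congrFun hc 3).symm
  have d0 : A 0 3 = 0 := by simpa [Matrix.mulVec, dotProduct, Fin.sum_univ_four, ptv, fo, hθ0, hθ2] using (congrFun hd 0).symm
  have d1 : A 1 3 = 0 := by simpa [Matrix.mulVec, dotProduct, Fin.sum_univ_four, ptv, fo, hθ0, hθ2] using (congrFun hd 1).symm
  have d2 : A 2 3 = 0 := by simpa [Matrix.mulVec, dotProduct, Fin.sum_univ_four, ptv, fo, hθ0, hθ2] using (congrFun hd 2).symm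
  have d3 : A 3 3 = d := by simpa [Matrix.mulVec, dotProduct, Fin.sum_univ_four, ptv, fo, hθ0, hθ2] using (congrFun hd 3).symm
  have hinj : ∀ v : Fin 4 → F, A *ᵥ v = 0 → v = 0 := by
    intro v hv
    exact Matrix.eq_zero_of_mulVec_eq_zero (by rw [hdet]; exact one_ne_zero) hv
  have hc0 : c ≠ 0 := by
    rintro rfl
    have := hinj _ (by rw [← hc, zero_smul])
    exact vinf_ne this
  -- the images of the points
  have hkey : ∀ x y : F, ∃ x' y' w : F, w ≠ 0 ∧ c * fo θm x y + A 0 1 * y + A 0 2 * x = w * fo θm x' y' ∧ A 1 1 * y + A 1 2 * x = w * y' ∧ A 2 1 * y + A 2 2 * x = w * x' ∧ A 3 1 * y + A 3 2 * x + d = w := by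
    intro x y
    rcases ovoid_cases (smul_mem_O hg (P_mem (m := m) x y)) with h | ⟨x', y', h⟩
    · exfalso
      rw [← h1] at h
      exact P_ne_inf x y (MulAction.injective g h)
    · unfold P at h
      rw [Projectivization.smul_mk] at h
      obtain ⟨w, hw⟩ := (Projectivization.mk_eq_mk_iff' F _ _ _ (ptv_ne _ _)).1 h
      rw [hmul] at hw
      have e0 := congrFun hw 0
      have e1 := congrFun hw 1
      have e2 := congrFun hw 2
      have e3 := congrFun hw 3
      simp only [Pi.smul_apply, smul_eq_mul, ptv, Matrix.mulVec, dotProduct, Fin.sum_univ_four] at e0 e1 e2 e3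
      simp only [Matrix.cons_val_zero, Matrix.cons_val_one, Matrix.cons_val, mul_one] at e0 e1 e2 e3
      rw [c0, d0] at e0
      rw [c1, d1] at e1
      rw [c2, d2] at e2
      rw [c3, d3] at e3
      refine ⟨x', y', w, ?_, ?_, ?_, ?_, ?_⟩
      · rintro rfl
        apply ptv_ne (θ := θm) x y
        apply hinj
        rw [← hw, zero_smul]
      · rw [e0]
        ring
      · rw [e1]
        ring
      · rw [e2]
        ring
      · rw [e3]
        ring
  have hd0 : d ≠ 0 := by
    obtain ⟨x', y', w, hw, -, -, -, e⟩ := hkey 0 0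
    simp only [mul_zero, zero_add] at e
    rwa [e]
  have h31 : A 3 1 = 0 := by
    by_contra hne
    obtain ⟨x', y', w, hw, -, -, -, e⟩ := hkey 0 (d / A 3 1)
    apply hw
    rw [← e, mul_zero, add_zero, mul_div_cancel₀ _ hne]
    linear_combination d * h20
  have h32 : A 3 2 = 0 := by
    by_contra hne
    obtain ⟨x', y', w, hw, -, -, -, e⟩ := hkey (d / A 3 2) 0
    apply hw
    rw [← e, mul_zero, zero_add, mul_div_cancel₀ _ hne]
    linear_combination d * h20
  -- the rest of the entries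
  have hkey2 : ∀ x y : F, c * fo θm x y + A 0 1 * y + A 0 2 * x = d * fo θm ((A 2 1 * y + A 2 2 * x) / d) ((A 1 1 * y + A 1 2 * x) / d) := by
    intro x y
    obtain ⟨x', y', w, hw, e0, e1, e2, e3⟩ := hkey x y
    rw [h31, h32] at e3
    have hw' : w = d := by
      rw [← e3]
      ring
    subst hw'
    rw [e1, e2, mul_div_cancel_left₀ _ hw, mul_div_cancel_left₀ _ hw]
    exact e0
  set β := A 2 1 / d with hβ
  set α := A 2 2 / d with hα
  set δ := A 1 1 / d with hδ
  set γ := A 1 2 / d with hγ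
  have hkey3 : ∀ x y : F, c * fo θm x y + A 0 1 * y + A 0 2 * x = d * fo θm (β * y + α * x) (δ * y + γ * x) := by
    intro x y
    rw [hkey2]
    congr 2
    · rw [hβ, hα]
      field_simp
    · rw [hδ, hγ]
      field_simp
  clear_value α β γ δ
  have hneg : ∀ t : F, -t = t := neg_eq C
  obtain ⟨a1, a2, a3, a4⟩ := coef_zero hF h3 hlt (a := d * β ^ (2 ^ (m + 1) + 2)) (b := d * δ ^ (2 ^ (m + 1)) + c) (c := d * (β * δ)) (e := A 0 1) (fun y => by
    have e := hkey3 0 y
    unfold fo at e
    simp only [zero_mul, zero_add, mul_zero, add_zero, hθ2] at e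
    simp only [mul_pow] at e
    linear_combination (-1 : F) * e + (c * y ^ (2 ^ (m + 1)) + A 0 1 * y) * h20)
  have hβ0 : β = 0 := by
    have := (mul_eq_zero.1 a1).resolve_left hd0
    exact pow_eq_zero_iff (by positivity) |>.1 this
  obtain ⟨b1, b2, b3, b4⟩ := coef_zero hF h3 hlt (a := d * α ^ (2 ^ (m + 1) + 2) + c) (b := d * γ ^ (2 ^ (m + 1))) (c := d * (α * γ)) (e := A 0 2) (fun x => by
    have e := hkey3 x 0
    unfold fo at e
    simp only [zero_mul, zero_add, mul_zero, add_zero, hθ0] at e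
    simp only [mul_pow] at e
    linear_combination (-1 : F) * e + (c * x ^ (2 ^ (m + 1) + 2) + A 0 2 * x) * h20)
  have hγ0 : γ = 0 := by
    have := (mul_eq_zero.1 b2).resolve_left hd0
    exact pow_eq_zero_iff (by positivity) |>.1 this
  have hdα : d * α ^ (2 ^ (m + 1) + 2) = c := by
    linear_combination b1 - c * h20
  have hdδ : d * δ ^ (2 ^ (m + 1)) = c := by
    linear_combination a2 - c * h20
  have hαδ : d * (α * δ) = c := by
    have e := hkey3 1 1
    unfold fo at e
    rw [hβ0, hγ0] at e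
    simp only [mul_one, one_pow, zero_add, add_zero, a4, b4, zero_mul] at e
    linear_combination (-1 : F) * e - hdα - hdδ
  have hα0 : α ≠ 0 := by
    rintro e
    rw [e, zero_mul, mul_zero] at hαδ
    exact hc0 hαδ.symm
  have hδe : δ = α ^ (2 ^ (m + 1) + 1) := by
    have e1 : d * α * δ = d * α * α ^ (2 ^ (m + 1) + 1) := by
      have e2 : d * α * α ^ (2 ^ (m + 1) + 1) = d * α ^ (2 ^ (m + 1) + 2) := by ring
      rw [e2, hdα, ← hαδ]
      ring
    exact mul_left_cancel₀ (mul_ne_zero hd0 hα0) e1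
  have e11 : A 1 1 = d * δ := by
    rw [hδ]
    field_simp
  have e22 : A 2 2 = d * α := by
    rw [hα]
    field_simp
  have e12 : A 1 2 = 0 := by
    have : A 1 2 = d * γ := by
      rw [hγ]
      field_simp
    rw [this, hγ0, mul_zero]
  have e21 : A 2 1 = 0 := by
    have : A 2 1 = d * β := by
      rw [hβ]
      field_simp
    rw [this, hβ0, mul_zero]
  have hdiag : A = Matrix.diagonal ![c, d * δ, d * α, d] := by
    ext i j
    fin_cases i <;> fin_cases j
    all_goals
      simp [Matrix.diagonal_apply]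
      first
        | assumption
        | skip
  have hdet2 : c * (d * δ) * (d * α) * d = 1 := by
    have := hdet
    rw [hdiag, Matrix.det_diagonal, Fin.prod_univ_four] at this
    simpa using this
  have er : (2 ^ (m + 1) : ℕ) = 2 * 2 ^ m := by ring
  set r : ℕ := 2 ^ m with hr
  rw [er] at hdα hδe
  have ht : d * α ^ (r + 1) = 1 := by
    have e4 : (d * α ^ (r + 1)) ^ 4 = 1 := by
      rw [← hdα, hδe] at hdet2
      rw [← hdet2]
      ring
    have e5 : (d * α ^ (r + 1) + 1) ^ 4 = 0 := by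
      generalize d * α ^ (r + 1) = t at *
      linear_combination e4 + (2 * t ^ 3 + 3 * t ^ 2 + 2 * t + 1) * h20
    have e6 := pow_eq_zero_iff (by norm_num) |>.1 e5
    linear_combination e6 - h20
  have hdval : d = (α ^ (r + 1))⁻¹ := eq_inv_of_mul_eq_one_left ht
  have hα1 : α ^ (r + 1) ≠ 0 := pow_ne_zero _ hα0
  refine ⟨Units.mk0 α hα0, ?_⟩
  apply Subtype.ext
  show A = mmat r (Units.mk0 α hα0)
  rw [hdiag, mmat]
  congr 1
  have hi : (((Units.mk0 α hα0)⁻¹ : Fˣ) : F) = α⁻¹ := by simp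
  rw [hi]
  simp only [Units.val_mk0]
  ext i
  fin_cases i
  · simp only [Fin.zero_eta, Matrix.cons_val_zero]
    rw [← hdα, hdval]
    have : 2 * r + 2 = (r + 1) + (r + 1) := by ring
    rw [this, pow_add]
    field_simp
    ring
  · simp only [Fin.mk_one, Matrix.cons_val_one, Matrix.cons_val_zero]
    rw [hδe, hdval]
    have : 2 * r + 1 = r + (r + 1) := by ring
    rw [this, pow_add]
    field_simp
    ring
  · simp only [Fin.reduceFinMk, Matrix.cons_val]
    rw [hdval, pow_succ]
    field_simp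
    rw [one_div, inv_pow, mul_inv_cancel₀ (pow_ne_zero _ hα0)]
  · simp only [Fin.reduceFinMk, Matrix.cons_val]
    rw [hdval, inv_pow]

end action

end CfsgLib.Sz
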