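/-
The Suzuki group: multiplication laws, one- and two-point stabilisers, transitivity.
-/
import Cfsg.Agent.Lib.Sz.Group

set_option autoImplicit false

namespace CfsgLib.Sz

open Matrix Cfsg
open scoped Pointwise

section

variable {F : Type*} [Field F] [Fintype F] {m : ℕ}

local notation "SL4" => Matrix.SpecialLinearGroup (Fin 4) F

local notation "θm" => (2 ^ (m + 1) : ℕ)

local notation "∞'" => suzukiPointInfinity F

variable (hF : Fintype.card F = 2 ^ (2 * m + 1)) (hm : 1 ≤ m)

include hF hm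

/-- An element of the Suzuki group fixing all points of the ovoid is trivial. -/
theorem eq_one_of_fix {g : SL4} (hg : g ∈ Sz F m) (h1 : g • ∞' = ∞') (h2 : ∀ x y : F, g • P θm x y = P θm x y) : g = 1 := by
  have C := ctx_of_card hF
  obtain ⟨α, rfl⟩ := two_pt hF hm hg h1 (h2 0 0)
  have e := h2 1 0
  rw [M_P C] at e
  have hα := (P_inj e).1
  have hα1 : α = 1 := by
    apply Units.ext
    simpa using hα
  subst hα1
  apply Subtype.ext
  show mmat (2 ^ m) 1 = 1
  rw [mmat]
  simp only [Units.val_one, one_pow, inv_one]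
  ext i j
  fin_cases i <;> fin_cases j <;> simp [Matrix.diagonal_apply]

/-- Elements of the Suzuki group are determined by their action on the ovoid. -/
theorem Sz_ext {g h : SL4} (hg : g ∈ Sz F m) (hh : h ∈ Sz F m) (h1 : g • ∞' = h • ∞') (h2 : ∀ x y : F, g • P θm x y = h • P θm x y) : g = h := by
  have e : h⁻¹ * g = 1 := by
    apply eq_one_of_fix hF hm ((Sz F m).mul_mem ((Sz F m).inv_mem hh) hg)
    · rw [mul_smul, h1, inv_smul_smul]
    · intro x y
      rw [mul_smul, h2, inv_smul_smul]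
  exact (inv_mul_eq_one.1 e).symm

theorem S_mul (a b c d : F) : S θm a b * S θm c d = S θm (a + c) (b + d + a ^ θm * c) := by
  have C := ctx_of_card hF
  apply Sz_ext hF hm ((Sz F m).mul_mem (S_mem hF _ _) (S_mem hF _ _)) (S_mem hF _ _)
  · rw [mul_smul, S_inf C, S_inf C, S_inf C]
  · intro x y
    rw [mul_smul, S_P C, S_P C, S_P C, C.add]
    congr 1
    · ring
    · ring

theorem S_zero : S θm (0 : F) 0 = 1 := by
  have C := ctx_of_card hF
  apply Sz_ext hF hm (S_mem hF _ _) (Sz F m).one_mem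
  · rw [S_inf C, one_smul]
  · intro x y
    rw [S_P C, one_smul]
    congr 1
    · ring
    · rw [zero_pow (by positivity)]
      ring

theorem S_inv (a b : F) : (S θm a b)⁻¹ = S θm a (b + a ^ (θm + 1)) := by
  have C := ctx_of_card hF
  have h20 := C.two
  rw [inv_eq_iff_mul_eq_one, S_mul hF hm, ← S_zero hF hm (F := F)]
  congr 1
  · linear_combination a * h20
  · rw [pow_succ]
    linear_combination (b + a ^ (2 ^ (m + 1)) * a) * h20

theorem M_one : M (2 ^ m) (1 : Fˣ) = 1 := by
  have C := ctx_of_card hF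
  apply Sz_ext hF hm (M_mem hF _) (Sz F m).one_mem
  · rw [M_inf C, one_smul]
  · intro x y
    rw [M_P C, one_smul]
    simp

theorem M_mul (α β : Fˣ) : M (2 ^ m) α * M (2 ^ m) β = M (2 ^ m) (α * β) := by
  have C := ctx_of_card hF
  apply Sz_ext hF hm ((Sz F m).mul_mem (M_mem hF _) (M_mem hF _)) (M_mem hF _)
  · rw [mul_smul, M_inf C, M_inf C, M_inf C]
  · intro x y
    rw [mul_smul, M_P C, M_P C, M_P C]
    congr 1
    · simp only [Units.val_mul]
      ring
    · simp only [Units.val_mul]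
      ring

theorem M_inv (α : Fˣ) : (M (2 ^ m) α)⁻¹ = M (2 ^ m) α⁻¹ := by
  rw [inv_eq_iff_mul_eq_one, M_mul hF hm, mul_inv_cancel, M_one hF hm]

theorem M_S (α : Fˣ) (a b : F) : M (2 ^ m) α * S θm a b = S θm (α * a) ((α : F) ^ (θm + 1) * b) * M (2 ^ m) α := by
  have C := ctx_of_card hF
  apply Sz_ext hF hm ((Sz F m).mul_mem (M_mem hF _) (S_mem hF _ _)) ((Sz F m).mul_mem (S_mem hF _ _) (M_mem hF _))
  · rw [mul_smul, mul_smul, S_inf C, M_inf C, S_inf C]
  · intro x y
    rw [mul_smul, mul_smul, S_P C, M_P C, M_P C, S_P C]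
    congr 1
    · ring
    · rw [mul_pow]
      ring

theorem M_conj (α : Fˣ) (a b : F) : M (2 ^ m) α * S θm a b * (M (2 ^ m) α)⁻¹ = S θm (α * a) ((α : F) ^ (θm + 1) * b) := by
  rw [M_S hF hm, mul_inv_cancel_right]

omit hm in
theorem T_M (α : Fˣ) : T F * M (2 ^ m) α = M (2 ^ m) α⁻¹ * T F := by
  apply Subtype.ext
  show suzukiForm F * mmat (2 ^ m) α = mmat (2 ^ m) α⁻¹ * suzukiForm F
  rw [mmat, mmat, inv_inv]
  ext i j
  fin_cases i <;> fin_cases j <;> simp [suzukiForm, Matrix.mul_apply, Fin.sum_univ_four, Matrix.diagonal_apply]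

/-- The stabiliser of the point at infinity. -/
theorem one_pt {g : SL4} (hg : g ∈ Sz F m) (h1 : g • ∞' = ∞') : ∃ (a b : F) (α : Fˣ), g = S θm a b * M (2 ^ m) α := by
  have C := ctx_of_card hF
  rcases ovoid_cases (smul_mem_O hg (P_mem (m := m) (0 : F) 0)) with h | ⟨a, b, h⟩
  · exfalso
    rw [← h1] at h
    exact P_ne_inf _ _ (MulAction.injective g h)
  · have hm' : (S θm a b)⁻¹ * g ∈ Sz F m := (Sz F m).mul_mem ((Sz F m).inv_mem (S_mem hF _ _)) hg
    have hS : S θm a b • P θm (0 : F) 0 = P θm a b := by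
      rw [S_P C]
      congr 1
      · ring
      · ring
    obtain ⟨α, hα⟩ := two_pt hF hm hm' (by
        rw [mul_smul, h1, inv_smul_eq_iff, S_inf C]) (by
        rw [mul_smul, h, inv_smul_eq_iff, hS])
    exact ⟨a, b, α, by rw [← hα, mul_inv_cancel_left]⟩

/-- Moving the point at infinity to any point. -/
theorem exists_move {p : Projectivization F (Fin 4 → F)} (hp : p ∈ suzukiOvoid F m) : ∃ g ∈ Sz F m, g • ∞' = p := by
  have C := ctx_of_card hF
  rcases ovoid_cases hp with rfl | ⟨a, b, rfl⟩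
  · exact ⟨1, (Sz F m).one_mem, one_smul _ _⟩
  · refine ⟨S θm a b * T F, (Sz F m).mul_mem (S_mem hF _ _) (T_mem hF), ?_⟩
    rw [mul_smul, T_inf C (by positivity), S_P C]
    congr 1
    · ring
    · ring

/-- Double transitivity. -/
theorem exists_move2 {p p' : Projectivization F (Fin 4 → F)} (hp : p ∈ suzukiOvoid F m) (hp' : p' ∈ suzukiOvoid F m) (hne : p ≠ p') :
    ∃ g ∈ Sz F m, g • ∞' = p ∧ g • P θm (0 : F) 0 = p' := by
  have C := ctx_of_card hF
  obtain ⟨g, hg, rfl⟩ := exists_move hF hm hp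
  have h2 : g⁻¹ • p' ∈ suzukiOvoid F m := smul_mem_O ((Sz F m).inv_mem hg) hp'
  rcases ovoid_cases h2 with h | ⟨a, b, h⟩
  · exfalso
    apply hne
    rw [inv_smul_eq_iff] at h
    exact h.symm
  · refine ⟨g * S θm a b, (Sz F m).mul_mem hg (S_mem hF _ _), ?_, ?_⟩
    · rw [mul_smul, S_inf C]
    · rw [mul_smul, S_P C]
      have : P θm (0 + a) (0 + a ^ θm * 0 + b) = g⁻¹ • p' := by
        rw [h]
        congr 1
        · ring
        · ring
      rw [this, smul_inv_smul]

/-- Points are moved by an element of the Suzuki group. -/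
theorem exists_moved {g : SL4} (hg : g ∈ Sz F m) (hne : g ≠ 1) : ∃ p ∈ suzukiOvoid F m, g • p ≠ p := by
  by_contra hcon
  push Not at hcon
  apply hne
  exact eq_one_of_fix hF hm hg (hcon _ inf_mem) (fun x y => hcon _ (P_mem x y))

/-- The point zero. -/
theorem zero_eq : suzukiPointZero F = P θm (0 : F) 0 := by
  have C := ctx_of_card hF
  unfold suzukiPointZero P
  refine pt_eq _ _ 1 ?_
  rw [one_smul]
  have e0 : (0 : F) ^ θm = 0 := zero_pow (by positivity)
  have e1 : (0 : F) ^ (θm + 2) = 0 := zero_pow (by positivity)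
  ext i
  fin_cases i <;> simp [ptv, fo, e0, e1]

end

end CfsgLib.Sz
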