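/-
The Suzuki group: orders, the form, independence of the points of the ovoid.
-/
import Cfsg.Agent.Lib.Sz.Structure

set_option autoImplicit false

namespace CfsgLib.Sz

open Matrix Cfsg
open scoped Pointwise

section

variable {F : Type*} [Field F] [Fintype F] {m : ℕ}

local notation "SL4" => Matrix.SpecialLinearGroup (Fin 4) F

local notation "θm" => (2 ^ (m + 1) : ℕ)

local notation "∞'" => suzukiPointInfinity F

variable (hF : Fintype.card F = 2 ^ (2 * m + 1)) (hm : 1 ≤ m)

include hF hm

/-- The element `S a b * M α` in the one-point stabiliser. -/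
lemma SM_mem (a b : F) (α : Fˣ) : S θm a b * M (2 ^ m) α ∈ Sz F m :=
  (Sz F m).mul_mem (S_mem hF _ _) (M_mem hF _)

lemma SM_inf (a b : F) (α : Fˣ) : (S θm a b * M (2 ^ m) α) • ∞' = ∞' := by
  have C := ctx_of_card hF
  rw [mul_smul, M_inf C, S_inf C]

lemma SM_inj {a b a' b' : F} {α α' : Fˣ} (h : S θm a b * M (2 ^ m) α = S θm a' b' * M (2 ^ m) α') : a = a' ∧ b = b' ∧ α = α' := by
  have C := ctx_of_card hF
  have e0 := congrArg (fun g => g • P θm (0 : F) 0) h
  simp only [mul_smul, M_P C, S_P C] at e0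
  simp only [mul_zero, zero_add, add_zero] at e0
  obtain ⟨rfl, rfl⟩ := P_inj e0
  refine ⟨rfl, rfl, ?_⟩
  have e1 := mul_left_cancel h
  have e2 := congrArg (fun g => g • P θm (1 : F) 0) e1
  simp only [M_P C] at e2
  have := (P_inj e2).1
  apply Units.ext
  simpa using this

/-- The bijection between parameters and the one-point stabiliser. -/
noncomputable def stabEquiv : F × F × Fˣ ≃ MulAction.stabilizer (Sz F m) ∞' :=
  Equiv.ofBijective (fun t => ⟨⟨S θm t.1 t.2.1 * M (2 ^ m) t.2.2, SM_mem hF hm _ _ _⟩, SM_inf hF hm _ _ _⟩) (by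
    constructor
    · rintro ⟨a, b, α⟩ ⟨a', b', α'⟩ h
      have h' : S θm a b * M (2 ^ m) α = S θm a' b' * M (2 ^ m) α' := congrArg (fun x : MulAction.stabilizer (Sz F m) ∞' => ((x : Sz F m) : SL4)) h
      obtain ⟨rfl, rfl, rfl⟩ := SM_inj hF hm h'
      rfl
    · rintro ⟨⟨g, hg⟩, hg2⟩
      obtain ⟨a, b, α, rfl⟩ := one_pt hF hm hg hg2
      exact ⟨(a, b, α), rfl⟩)

/-- The order of the one-point stabiliser. -/
theorem card_stab_inf : Nat.card (MulAction.stabilizer (Sz F m) ∞') = (2 ^ (2 * m + 1)) ^ 2 * (2 ^ (2 * m + 1) - 1) := by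
  classical
  rw [← Nat.card_congr (stabEquiv hF hm), Nat.card_prod, Nat.card_prod, Nat.card_eq_fintype_card, Nat.card_eq_fintype_card, Fintype.card_units, hF]
  ring

theorem orbit_inf : MulAction.orbit (Sz F m) ∞' = suzukiOvoid F m := by
  ext p
  constructor
  · rintro ⟨g, rfl⟩
    exact smul_mem_O g.2 inf_mem
  · intro hp
    obtain ⟨g, hg, rfl⟩ := exists_move hF hm hp
    exact ⟨⟨g, hg⟩, rfl⟩

/-- The order of the Suzuki group. -/
theorem card_Sz : Nat.card (Sz F m) = (2 ^ (2 * m + 1)) ^ 2 * ((2 ^ (2 * m + 1)) ^ 2 + 1) * (2 ^ (2 * m + 1) - 1) := by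
  have e := Nat.card_congr (MulAction.orbitProdStabilizerEquivGroup (Sz F m) ∞')
  rw [Nat.card_prod, card_stab_inf hF hm] at e
  have e2 : Nat.card (MulAction.orbit (Sz F m) ∞') = (2 ^ (2 * m + 1)) ^ 2 + 1 := by
    have := card_ovoid (F := F) m
    rw [hF] at this
    rw [← this, orbit_inf hF hm]
  rw [e2] at e
  rw [← e]
  ring

/-- The two-point stabiliser. -/
theorem two_pt_iso : Nonempty (↥(MulAction.stabilizer (Sz F m) ∞' ⊓ MulAction.stabilizer (Sz F m) (suzukiPointZero F)) ≃* Fˣ) := by
  have C := ctx_of_card hF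
  rw [zero_eq hF hm]
  have e0 : (0 : F) ^ (θm + 1) = 0 := zero_pow (by positivity)
  have hmem : ∀ α : Fˣ, (⟨M (2 ^ m) α, M_mem hF α⟩ : Sz F m) ∈ MulAction.stabilizer (Sz F m) ∞' ⊓ MulAction.stabilizer (Sz F m) (P θm (0 : F) 0) := by
    intro α
    refine Subgroup.mem_inf.2 ⟨M_inf C α, ?_⟩
    show M (2 ^ m) α • P θm (0 : F) 0 = P θm (0 : F) 0
    rw [M_P C]
    simp
  let φ : Fˣ →* ↥(MulAction.stabilizer (Sz F m) ∞' ⊓ MulAction.stabilizer (Sz F m) (P θm (0 : F) 0)) :=
    { toFun := fun α => ⟨⟨M (2 ^ m) α, M_mem hF α⟩, hmem α⟩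
      map_one' := by
        apply Subtype.ext
        apply Subtype.ext
        exact M_one hF hm
      map_mul' := fun α β => by
        apply Subtype.ext
        apply Subtype.ext
        exact (M_mul hF hm α β).symm }
  refine ⟨(MulEquiv.ofBijective φ ⟨?_, ?_⟩).symm⟩
  · intro α β h
    have h' : M (2 ^ m) α = M (2 ^ m) β := congrArg (fun x : ↥(MulAction.stabilizer (Sz F m) ∞' ⊓ MulAction.stabilizer (Sz F m) (P θm (0 : F) 0)) => ((x : Sz F m) : SL4)) h
    have e2 := congrArg (fun g => g • P θm (1 : F) 0) h'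
    simp only [M_P C] at e2
    have := (P_inj e2).1
    apply Units.ext
    simpa using this
  · rintro ⟨⟨g, hg⟩, hg2⟩
    have h1 := (Subgroup.mem_inf.1 hg2).1
    have h2 := (Subgroup.mem_inf.1 hg2).2
    obtain ⟨α, rfl⟩ := two_pt hF hm hg h1 h2
    exact ⟨α, rfl⟩

omit hF hm in
/-- The form is preserved by a product. -/
lemma form_mul {g h : Matrix (Fin 4) (Fin 4) F} (hg : g.transpose * suzukiForm F * g = suzukiForm F) (hh : h.transpose * suzukiForm F * h = suzukiForm F) :
    (g * h).transpose * suzukiForm F * (g * h) = suzukiForm F := by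
  rw [Matrix.transpose_mul]
  calc h.transpose * g.transpose * suzukiForm F * (g * h) = h.transpose * (g.transpose * suzukiForm F * g) * h := by
        simp only [Matrix.mul_assoc]
    _ = suzukiForm F := by rw [hg, hh]

lemma form_S (a b : F) : (smat θm a b).transpose * suzukiForm F * smat θm a b = suzukiForm F := by
  have C := ctx_of_card hF
  have h20 := C.two
  ext i j
  fin_cases i <;> fin_cases j <;> simp [suzukiForm, smat, Matrix.mul_apply, Fin.sum_univ_four, Matrix.transpose_apply]
  all_goals first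
    | linear_combination a * h20
    | linear_combination (a ^ (2 ^ (m + 1))) * h20
    | linear_combination b * h20
    | linear_combination (b + a ^ (2 ^ (m + 1) + 1)) * h20
    | linear_combination (a * b + a ^ (2 ^ (m + 1) + 2) + b ^ (2 ^ (m + 1)) + a * b) * h20

omit hF hm in
lemma form_M (α : Fˣ) : (mmat (2 ^ m) α).transpose * suzukiForm F * mmat (2 ^ m) α = suzukiForm F := by
  have h1 : (α : F) ^ (2 ^ m + 1) * ((α⁻¹ : Fˣ) : F) ^ (2 ^ m + 1) = 1 := by
    rw [← mul_pow]
    simp
  have h2 : (α : F) ^ (2 ^ m) * ((α⁻¹ : Fˣ) : F) ^ (2 ^ m) = 1 := by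
    rw [← mul_pow]
    simp
  have h3 : ((α⁻¹ : Fˣ) : F) ^ (2 ^ m) * (α : F) ^ (2 ^ m) = 1 := by rw [mul_comm, h2]
  have h4 : ((α⁻¹ : Fˣ) : F) ^ (2 ^ m + 1) * (α : F) ^ (2 ^ m + 1) = 1 := by rw [mul_comm, h1]
  rw [mmat]
  ext i j
  fin_cases i <;> fin_cases j <;> simp [suzukiForm, Matrix.mul_apply, Fin.sum_univ_four, Matrix.transpose_apply, Matrix.diagonal_apply]
  all_goals first
    | exact h1
    | exact h2
    | exact h3
    | exact h4
    | skip

omit hF hm in
lemma form_T : (suzukiForm F).transpose * suzukiForm F * suzukiForm F = suzukiForm F := by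
  ext i j
  fin_cases i <;> fin_cases j <;> simp [suzukiForm, Matrix.mul_apply, Fin.sum_univ_four, Matrix.transpose_apply]

/-- Every element of the Suzuki group preserves the form. -/
theorem preserves_form {g : SL4} (hg : g ∈ Sz F m) : (g : Matrix (Fin 4) (Fin 4) F).transpose * suzukiForm F * (g : Matrix (Fin 4) (Fin 4) F) = suzukiForm F := by
  have C := ctx_of_card hF
  have key : ∀ h : SL4, h ∈ Sz F m → h • ∞' = ∞' → (h : Matrix (Fin 4) (Fin 4) F).transpose * suzukiForm F * (h : Matrix (Fin 4) (Fin 4) F) = suzukiForm F := by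
    intro h hh h1
    obtain ⟨a, b, α, rfl⟩ := one_pt hF hm hh h1
    exact form_mul (form_S hF hm a b) (form_M α)
  by_cases h1 : g • ∞' = ∞'
  · exact key g hg h1
  · rcases ovoid_cases (smul_mem_O hg (inf_mem (F := F) (m := m))) with h | ⟨a, b, h⟩
    · exact absurd h h1
    · -- `g = S a b * T * h`
      set t : SL4 := S θm a b * T F with ht
      have htm : t ∈ Sz F m := (Sz F m).mul_mem (S_mem hF _ _) (T_mem hF)
      have htp : t • ∞' = P θm a b := by
        rw [ht, mul_smul, T_inf C (by positivity), S_P C]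
        congr 1
        · ring
        · ring
      have hh : t⁻¹ * g ∈ Sz F m := (Sz F m).mul_mem ((Sz F m).inv_mem htm) hg
      have h3 := key (t⁻¹ * g) hh (by rw [mul_smul, h, inv_smul_eq_iff, htp])
      have h4 : g = S θm a b * T F * (t⁻¹ * g) := by
        rw [← ht, mul_inv_cancel_left]
      rw [h4]
      exact form_mul (form_mul (form_S hF hm a b) form_T) h3

omit hF hm [Fintype F] in
/-- Independence is preserved by `SL₄`. -/
lemma indep_of_smul {ι : Type*} (g : SL4) {f : ι → Projectivization F (Fin 4 → F)} (h : Projectivization.Independent (fun i => g • f i)) : Projectivization.Independent f := by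
  rw [Projectivization.independent_iff] at h ⊢
  let L : (Fin 4 → F) →ₗ[F] (Fin 4 → F) := Matrix.toLin' ((g⁻¹ : SL4) : Matrix (Fin 4) (Fin 4) F)
  have hLinj : Function.Injective L := by
    rw [← LinearMap.ker_eq_bot, LinearMap.ker_eq_bot']
    intro v hv
    have : v = g • (g⁻¹ • v) := (smul_inv_smul g v).symm
    rw [this]
    have h2 : g⁻¹ • v = L v := rfl
    rw [h2, hv, smul_zero]
  have hli := h.map' L (LinearMap.ker_eq_bot.2 hLinj)
  -- the vectors `L (rep (g • f i))` represent `f i`
  have hrep : ∀ i, ∃ c : Fˣ, L (Projectivization.rep (g • f i)) = c • (Projectivization.rep (f i)) := by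
    intro i
    have h1 : f i = g⁻¹ • (g • f i) := (inv_smul_smul g _).symm
    have hne : L (Projectivization.rep (g • f i)) ≠ 0 := by
      intro h0
      apply Projectivization.rep_nonzero (g • f i)
      apply hLinj
      rw [h0, map_zero]
    have h2 : Projectivization.mk F (L (Projectivization.rep (g • f i))) hne = f i := by
      conv_rhs => rw [h1]
      conv_rhs => rw [← Projectivization.mk_rep (g • f i)]
      rw [Projectivization.smul_mk]
      rfl
    have h3 := Projectivization.exists_smul_eq_mk_rep F _ hne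
    obtain ⟨c, hc⟩ := h3
    refine ⟨c⁻¹, ?_⟩
    rw [h2] at hc
    rw [← hc, inv_smul_smul]
  choose c hc using hrep
  have e1 : (fun i => c i • Projectivization.rep (f i)) = L ∘ (Projectivization.rep ∘ fun i => g • f i) := by
    ext1 i
    exact (hc i).symm
  have : LinearIndependent F (fun i => c i • Projectivization.rep (f i)) := by
    rw [e1]
    exact hli
  have h5 := this.units_smul (fun i => (c i)⁻¹)
  have e2 : (Projectivization.rep ∘ f) = (fun i => (c i)⁻¹) • (fun i => c i • Projectivization.rep (f i)) := by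
    ext1 i
    simp [Function.comp]
  rw [e2]
  exact h5

/-- The points of the ovoid are independent. -/
theorem ovoid_indep (p : Fin 3 ↪ suzukiOvoid F m) : Projectivization.Independent (fun i => (p i : Projectivization F (Fin 4 → F))) := by
  have C := ctx_of_card hF
  have hne : ∀ i j, i ≠ j → ((p i : _) : Projectivization F (Fin 4 → F)) ≠ p j := by
    intro i j hij h
    exact hij (p.injective (Subtype.ext h))
  obtain ⟨g, hg, h0, h1⟩ := exists_move2 hF hm (p 0).2 (p 1).2 (hne 0 1 (by decide))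
  apply indep_of_smul g⁻¹
  have h2 : g⁻¹ • ((p 2 : _) : Projectivization F (Fin 4 → F)) ∈ suzukiOvoid F m := smul_mem_O ((Sz F m).inv_mem hg) (p 2).2
  have h02 : g⁻¹ • ((p 2 : _) : Projectivization F (Fin 4 → F)) ≠ ∞' := by
    intro h
    rw [inv_smul_eq_iff, h0] at h
    exact hne 0 2 (by decide) h.symm
  have h12 : g⁻¹ • ((p 2 : _) : Projectivization F (Fin 4 → F)) ≠ P θm (0 : F) 0 := by
    intro h
    rw [inv_smul_eq_iff, h1] at h
    exact hne 1 2 (by decide) h.symm
  obtain ⟨x, y, hxy⟩ : ∃ x y : F, g⁻¹ • ((p 2 : _) : Projectivization F (Fin 4 → F)) = P θm x y := by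
    rcases ovoid_cases h2 with h | h
    · exact absurd h h02
    · exact h
  have hxy0 : x ≠ 0 ∨ y ≠ 0 := by
    by_contra hcon
    push Not at hcon
    apply h12
    rw [hxy, hcon.1, hcon.2]
  have e0 : g⁻¹ • ((p 0 : _) : Projectivization F (Fin 4 → F)) = ∞' := by
    rw [inv_smul_eq_iff, h0]
  have e1 : g⁻¹ • ((p 1 : _) : Projectivization F (Fin 4 → F)) = P θm (0 : F) 0 := by
    rw [inv_smul_eq_iff, h1]
  -- the vectors
  let v : Fin 3 → Fin 4 → F := ![![1, 0, 0, 0], ptv θm (0 : F) 0, ptv θm x y]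
  have hv : ∀ i, v i ≠ 0 := by
    intro i
    fin_cases i
    · exact vinf_ne
    · exact ptv_ne _ _
    · exact ptv_ne _ _
  have hfun : (fun i => g⁻¹ • ((p i : _) : Projectivization F (Fin 4 → F))) = fun i => Projectivization.mk F (v i) (hv i) := by
    ext1 i
    fin_cases i
    · exact e0
    · exact e1
    · exact hxy
  rw [hfun]
  refine Projectivization.Independent.mk v hv ?_
  rw [Fintype.linearIndependent_iff]
  intro c hc i
  have e0' : (0 : F) ^ θm = 0 := zero_pow (by positivity)
  have e1' : (0 : F) ^ (θm + 2) = 0 := zero_pow (by positivity)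
  have c1 := congrFun hc 1
  have c2 := congrFun hc 2
  have c3 := congrFun hc 3
  have c0 := congrFun hc 0
  simp [Fin.sum_univ_three, v, ptv, fo, e0', e1'] at c0 c1 c2 c3
  have h22 : c 2 = 0 := by
    rcases hxy0 with h | h
    · exact c2.resolve_right h
    · exact c1.resolve_right h
  have h21 : c 1 = 0 := by
    rw [h22] at c3
    simpa using c3
  have h20 : c 0 = 0 := by
    rw [h22] at c0
    simpa using c0
  fin_cases i
  · exact h20
  · exact h21
  · exact h22

end

end CfsgLib.Sz
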