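/-
The Suzuki group is perfect and simple, and is a Zassenhaus group on the ovoid.
-/
import Cfsg.Agent.Lib.Sz.Card

set_option autoImplicit false

namespace CfsgLib.Sz

open Matrix Cfsg
open scoped Pointwise

/-- A chain of commutator containments gives solvability. -/
lemma solvable_of_comm_chain {G : Type*} [Group G] (A B C : Subgroup G) (h1 : ∀ x ∈ A, ∀ y ∈ A, x * y * x⁻¹ * y⁻¹ ∈ B) (h2 : ∀ x ∈ B, ∀ y ∈ B, x * y * x⁻¹ * y⁻¹ ∈ C) (h3 : ∀ x ∈ C, ∀ y ∈ C, x * y * x⁻¹ * y⁻¹ = 1) : Group.IsSolvable A := by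
  have d1 : derivedSeries A 1 ≤ B.comap A.subtype := by
    rw [derivedSeries_succ, derivedSeries_zero, Subgroup.commutator_le]
    intro x _ y _
    exact h1 _ x.2 _ y.2
  have d2 : derivedSeries A 2 ≤ C.comap A.subtype := by
    rw [derivedSeries_succ, Subgroup.commutator_le]
    intro x hx y hy
    exact h2 _ (d1 hx) _ (d1 hy)
  have d3 : derivedSeries A 3 = ⊥ := by
    rw [eq_bot_iff, derivedSeries_succ, Subgroup.commutator_le]
    intro x hx y hy
    rw [Subgroup.mem_bot]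
    apply Subtype.ext
    exact h3 _ (d2 hx) _ (d2 hy)
  exact (Group.isSolvable_def _).2 ⟨3, d3⟩

/-- A perfect group acting doubly transitively and faithfully with a solvable point stabiliser is simple. -/
theorem simple_of_two_trans {G Ω : Type*} [Group G] [MulAction G Ω] [Nontrivial G] (hfaith : ∀ g : G, (∀ x : Ω, g • x = x) → g = 1)
    (h2 : ∀ {a b c d : Ω}, a ≠ b → c ≠ d → ∃ g : G, g • a = c ∧ g • b = d) (hperf : commutator G = ⊤) (x₀ : Ω) (hsolv : Group.IsSolvable (MulAction.stabilizer G x₀)) : IsSimpleGroup G := by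
  refine ⟨?_⟩
  intro N hN
  by_cases hbot : N = ⊥
  · exact Or.inl hbot
  right
  obtain ⟨n, hnN, hn1⟩ := (Subgroup.bot_or_exists_ne_one N).resolve_left hbot
  obtain ⟨p, hp⟩ : ∃ p : Ω, n • p ≠ p := by
    by_contra hcon
    push Not at hcon
    exact hn1 (hfaith n hcon)
  -- `N` is transitive
  have htrans : ∀ a b : Ω, ∃ k ∈ N, k • a = b := by
    intro a b
    by_cases hab : a = b
    · exact ⟨1, N.one_mem, by rw [one_smul, hab]⟩
    · obtain ⟨g, h1, h3⟩ := h2 (Ne.symm hp) hab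
      refine ⟨g * n * g⁻¹, hN.conj_mem n hnN g, ?_⟩
      rw [← h1, mul_smul, mul_smul, inv_smul_smul, h3]
  -- the quotient is an image of the stabiliser
  let f : MulAction.stabilizer G x₀ →* G ⧸ N := (QuotientGroup.mk' N).comp (MulAction.stabilizer G x₀).subtype
  have hf : Function.Surjective f := by
    intro y
    obtain ⟨g, rfl⟩ := QuotientGroup.mk'_surjective N y
    obtain ⟨k, hk, hk2⟩ := htrans x₀ (g • x₀)
    refine ⟨⟨k⁻¹ * g, ?_⟩, ?_⟩
    · rw [MulAction.mem_stabilizer_iff, mul_smul, ← hk2, inv_smul_smul]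
    · show ((k⁻¹ * g : G) : G ⧸ N) = (g : G ⧸ N)
      rw [QuotientGroup.eq]
      have : (k⁻¹ * g)⁻¹ * g = g⁻¹ * k * g := by group
      rw [this]
      have := hN.conj_mem k hk g⁻¹
      rwa [inv_inv] at this
  haveI : Group.IsSolvable (G ⧸ N) := Group.isSolvable_of_surjective hf
  by_contra htop
  haveI : Nontrivial (G ⧸ N) := QuotientGroup.nontrivial_iff.2 htop
  have hlt := Group.IsSolvable.commutator_lt_top_of_nontrivial (G ⧸ N)
  have hmap : commutator (G ⧸ N) = ⊤ := by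
    have e := Subgroup.map_commutator (⊤ : Subgroup G) ⊤ (QuotientGroup.mk' N)
    rw [Subgroup.map_top_of_surjective _ (QuotientGroup.mk'_surjective N)] at e
    rw [commutator_def, ← e]
    rw [commutator_def] at hperf
    rw [hperf, Subgroup.map_top_of_surjective _ (QuotientGroup.mk'_surjective N)]
  exact absurd hmap hlt.ne

section

variable {F : Type*} [Field F] [Fintype F] {m : ℕ}

local notation "SL4" => Matrix.SpecialLinearGroup (Fin 4) F

local notation "θm" => (2 ^ (m + 1) : ℕ)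

local notation "∞'" => suzukiPointInfinity F

variable (hF : Fintype.card F = 2 ^ (2 * m + 1)) (hm : 1 ≤ m)

include hF

/-- There are elements other than `1` in the field. -/
lemma exists_unit_ne_one (hm : 1 ≤ m) : ∃ α : Fˣ, α ≠ 1 := by
  classical
  by_contra hcon
  push Not at hcon
  have h1 : Fintype.card Fˣ = 1 := by
    rw [Fintype.card_eq_one_iff]
    exact ⟨1, hcon⟩
  rw [Fintype.card_units, hF] at h1
  have h2 : (2 : ℕ) ^ 3 ≤ 2 ^ (2 * m + 1) := Nat.pow_le_pow_right (by norm_num) (by omega)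
  omega

/-- The exponent `θ + 1` is injective on nonzero elements. -/
lemma pow_theta_succ_eq_one {α : F} (hα : α ≠ 0) (h : α ^ (θm + 1) = 1) : α = 1 := by
  have C := ctx_of_card hF
  have e1 : α ^ θm = α⁻¹ := by
    rw [pow_succ] at h
    exact eq_inv_of_mul_eq_one_left h
  have e2 := C.sq α
  rw [e1, inv_pow, e1, inv_inv, pow_two] at e2
  exact (mul_left_cancel₀ hα (by rw [mul_one]; exact e2.symm) : α = 1)

include hm

theorem SM_mul (a b c d : F) (α β : Fˣ) : (S θm a b * M (2 ^ m) α) * (S θm c d * M (2 ^ m) β) = S θm (a + α * c) (b + (α : F) ^ (θm + 1) * d + a ^ θm * (α * c)) * M (2 ^ m) (α * β) := by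
  rw [← M_mul hF hm, ← S_mul hF hm]
  have := M_S hF hm α c d
  calc S θm a b * M (2 ^ m) α * (S θm c d * M (2 ^ m) β) = S θm a b * (M (2 ^ m) α * S θm c d) * M (2 ^ m) β := by group
    _ = _ := by rw [this]; group

theorem SM_comm (a b c d : F) (α β : Fˣ) : ∃ e f : F, (S θm a b * M (2 ^ m) α) * (S θm c d * M (2 ^ m) β) * (S θm a b * M (2 ^ m) α)⁻¹ * (S θm c d * M (2 ^ m) β)⁻¹ = S θm e f := by
  have h1 := SM_mul hF hm a b c d α β
  have h2 := SM_mul hF hm c d a b β α
  rw [mul_comm β α] at h2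
  set x := S θm a b * M (2 ^ m) α
  set y := S θm c d * M (2 ^ m) β
  have e : x * y * x⁻¹ * y⁻¹ = (x * y) * (y * x)⁻¹ := by group
  rw [e, h1, h2]
  have key : ∀ (A B C' D' : F) (γ : Fˣ), (S θm A B * M (2 ^ m) γ) * (S θm C' D' * M (2 ^ m) γ)⁻¹ = S θm (A + C') (B + (D' + C' ^ (θm + 1)) + A ^ θm * C') := by
    intro A B C' D' γ
    rw [_root_.mul_inv_rev, mul_assoc, mul_inv_cancel_left, S_inv hF hm, S_mul hF hm]
  exact ⟨_, _, key _ _ _ _ _⟩

theorem S_comm (a b c d : F) : S θm a b * S θm c d * (S θm a b)⁻¹ * (S θm c d)⁻¹ = S θm 0 (a ^ θm * c + c ^ θm * a) := by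
  have C := ctx_of_card hF
  have h20 := C.two
  have e : S θm a b * S θm c d * (S θm a b)⁻¹ * (S θm c d)⁻¹ = (S θm a b * S θm c d) * (S θm c d * S θm a b)⁻¹ := by group
  rw [e, S_mul hF hm, S_mul hF hm, S_inv hF hm, S_mul hF hm]
  congr 1
  · linear_combination (a + c) * h20
  · have e1 : (c + a) ^ (θm + 1) = (c + a) ^ θm * (c + a) := pow_succ _ _
    have e2 : (a + c) = c + a := add_comm _ _
    rw [e1, e2]
    linear_combination (b + d + (c + a) ^ θm * (c + a)) * h20

theorem comm_M_S (α : Fˣ) (a b : F) : M (2 ^ m) α * S θm a b * (M (2 ^ m) α)⁻¹ * (S θm a b)⁻¹ = S θm (α * a + a) ((α : F) ^ (θm + 1) * b + b + a ^ (θm + 1) + (α * a) ^ θm * a) := by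
  rw [M_conj hF hm, S_inv hF hm, S_mul hF hm]
  congr 1
  ring

/-- The group of translations. -/
def Usub : Subgroup (Sz F m) where
  carrier := {g | ∃ a b : F, (g : SL4) = S θm a b}
  mul_mem' := by
    rintro _ _ ⟨a, b, h⟩ ⟨c, d, h'⟩
    exact ⟨_, _, by rw [Subgroup.coe_mul, h, h', S_mul hF hm]⟩
  one_mem' := ⟨0, 0, (S_zero hF hm).symm⟩
  inv_mem' := by
    rintro _ ⟨a, b, h⟩
    exact ⟨_, _, by rw [Subgroup.coe_inv, h, S_inv hF hm]⟩

/-- The centre of the group of translations. -/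
def Zsub : Subgroup (Sz F m) where
  carrier := {g | ∃ b : F, (g : SL4) = S θm 0 b}
  mul_mem' := by
    rintro _ _ ⟨b, h⟩ ⟨d, h'⟩
    refine ⟨b + d, ?_⟩
    rw [Subgroup.coe_mul, h, h', S_mul hF hm]
    congr 1
    · ring
    · ring
  one_mem' := ⟨0, (S_zero hF hm).symm⟩
  inv_mem' := by
    rintro _ ⟨b, h⟩
    refine ⟨b, ?_⟩
    have h0 : (0 : F) ^ (θm + 1) = 0 := zero_pow (by positivity)
    rw [Subgroup.coe_inv, h, S_inv hF hm, h0, add_zero]

/-- The Suzuki group is perfect. -/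
theorem perfect : commutator (Sz F m) = ⊤ := by
  have C := ctx_of_card hF
  have h20 := C.two
  set D := commutator (Sz F m) with hD
  have hcomm : ∀ x y : Sz F m, x * y * x⁻¹ * y⁻¹ ∈ D := fun x y =>
    Subgroup.commutator_mem_commutator (Subgroup.mem_top x) (Subgroup.mem_top y)
  haveI hDn : D.Normal := by
    rw [hD]
    infer_instance
  let iS : F → F → Sz F m := fun a b => ⟨S θm a b, S_mem hF a b⟩
  let iM : Fˣ → Sz F m := fun α => ⟨M (2 ^ m) α, M_mem hF α⟩
  let iT : Sz F m := ⟨T F, T_mem hF⟩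
  obtain ⟨α, hα⟩ := exists_unit_ne_one hF hm
  have hα1 : (α : F) + 1 ≠ 0 := by
    intro h
    apply hα
    apply Units.ext
    rw [Units.val_one]
    linear_combination h - h20
  have hαθ : (α : F) ^ (θm + 1) + 1 ≠ 0 := by
    intro h
    apply hα
    apply Units.ext
    rw [Units.val_one]
    apply pow_theta_succ_eq_one hF α.ne_zero
    linear_combination h - h20
  have h0θ : (0 : F) ^ (θm + 1) = 0 := zero_pow (by positivity)
  have h0θ' : (0 : F) ^ θm = 0 := zero_pow (by positivity)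
  -- the centre of the translations
  have hZ : ∀ b : F, iS 0 b ∈ D := by
    intro b
    have := hcomm (iM α) (iS 0 (b / ((α : F) ^ (θm + 1) + 1)))
    convert this using 1
    apply Subtype.ext
    show S θm 0 b = M (2 ^ m) α * S θm 0 (b / ((α : F) ^ (θm + 1) + 1)) * (M (2 ^ m) α)⁻¹ * (S θm 0 (b / ((α : F) ^ (θm + 1) + 1)))⁻¹
    rw [comm_M_S hF hm]
    congr 1
    · ring
    · rw [h0θ, mul_zero]
      field_simp
      ring
  -- all the translations
  have hU : ∀ c e : F, iS c e ∈ D := by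
    intro c e
    have := hcomm (iM α) (iS (c / ((α : F) + 1)) 0)
    set e₀ : F := (α : F) ^ (θm + 1) * 0 + 0 + (c / ((α : F) + 1)) ^ (θm + 1) + ((α : F) * (c / ((α : F) + 1))) ^ θm * (c / ((α : F) + 1)) with he₀
    have h2 : M (2 ^ m) α * S θm (c / ((α : F) + 1)) 0 * (M (2 ^ m) α)⁻¹ * (S θm (c / ((α : F) + 1)) 0)⁻¹ = S θm c e₀ := by
      rw [comm_M_S hF hm]
      have : (α : F) * (c / ((α : F) + 1)) + c / ((α : F) + 1) = c := by
        field_simp
      rw [this]
    have h3 : iS c e = iS c e₀ * iS 0 (e + e₀) := by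
      apply Subtype.ext
      show S θm c e = S θm c e₀ * S θm 0 (e + e₀)
      rw [S_mul hF hm]
      congr 1
      · ring
      · linear_combination (-e₀) * h20
    rw [h3]
    refine D.mul_mem ?_ (hZ _)
    convert this using 1
    apply Subtype.ext
    exact h2.symm
  -- the torus
  have hTT : iT⁻¹ = iT := by
    apply Subtype.ext
    exact inv_eq_of_mul_eq_one_left (T_sq hF)
  have hH : ∀ γ : Fˣ, iM γ ∈ D := by
    intro γ
    set β : Fˣ := γ ^ (2 ^ (2 * m)) with hβ
    have hββ : β * β = γ := by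
      rw [hβ, ← pow_add]
      have : 2 ^ (2 * m) + 2 ^ (2 * m) = 2 ^ (2 * m + 1) := by ring
      rw [this, ← hF]
      apply Units.ext
      rw [Units.val_pow_eq_pow_val, FiniteField.pow_card]
    have := hcomm iT (iM β⁻¹)
    convert this using 1
    apply Subtype.ext
    show M (2 ^ m) γ = T F * M (2 ^ m) β⁻¹ * ((⟨T F, T_mem hF⟩ : Sz F m)⁻¹ : Sz F m) * (M (2 ^ m) β⁻¹)⁻¹
    have h4 : ((⟨T F, T_mem hF⟩ : Sz F m)⁻¹ : Sz F m) = ⟨T F, T_mem hF⟩ := hTT
    rw [h4]
    show M (2 ^ m) γ = T F * M (2 ^ m) β⁻¹ * T F * (M (2 ^ m) β⁻¹)⁻¹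
    rw [T_M hF, inv_inv, mul_assoc (M (2 ^ m) β), T_sq hF, mul_one, M_inv hF hm, inv_inv, M_mul hF hm, hββ]
  -- the stabiliser
  have hStab : ∀ g : Sz F m, (g : SL4) • ∞' = ∞' → g ∈ D := by
    intro g hg
    obtain ⟨a, b, γ, hγ⟩ := one_pt hF hm g.2 hg
    have : g = iS a b * iM γ := Subtype.ext hγ
    rw [this]
    exact D.mul_mem (hU _ _) (hH _)
  -- the inversion
  have hT : iT ∈ D := by
    have hK : iT * iS 0 1 * iT⁻¹ ∈ D := hDn.conj_mem _ (hZ 1) iT
    set k : Sz F m := (iS 1 0)⁻¹ * (iT * iS 0 1 * iT⁻¹) with hk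
    have hkD : k ∈ D := D.mul_mem (D.inv_mem (hU _ _)) hK
    have hkinf : (k : SL4) • ∞' = P θm (0 : F) 0 := by
      rw [hTT] at hk
      have e : (k : SL4) = (S θm 1 0)⁻¹ * (T F * S θm 0 1 * T F) := by
        rw [hk]
        rfl
      rw [e, mul_smul, inv_smul_eq_iff, mul_smul, mul_smul, T_inf C (by positivity), S_P C, S_P C]
      have hfo : fo θm (0 + 0 : F) (0 + 0 ^ θm * 0 + 1) = 1 := by
        simp [fo]
      rw [T_P C (by rw [hfo]; exact one_ne_zero), hfo]
      congr 1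
      · simp
      · simp
    have hfix : (iT⁻¹ * k : Sz F m) ∈ D := by
      apply hStab
      rw [hTT]
      show (T F * (k : SL4)) • ∞' = ∞'
      rw [mul_smul, hkinf, T_P0 C (by positivity)]
    have e : iT = k * (iT⁻¹ * k)⁻¹ := by group
    rw [e]
    exact D.mul_mem hkD (D.inv_mem hfix)
  rw [eq_top_iff]
  intro g _
  rcases ovoid_cases (smul_mem_O g.2 (inf_mem (F := F) (m := m))) with h | ⟨a, b, h⟩
  · exact hStab g h
  · have h1 : (iS a b * iT)⁻¹ * g ∈ D := by
      apply hStab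
      show ((iS a b * iT)⁻¹ * g : Sz F m).1 • ∞' = ∞'
      have e : ((iS a b * iT)⁻¹ * g : Sz F m).1 = (S θm a b * T F)⁻¹ * g.1 := rfl
      rw [e, mul_smul, h, inv_smul_eq_iff, mul_smul, T_inf C (by positivity), S_P C]
      congr 1
      · ring
      · ring
    have e : g = (iS a b * iT) * ((iS a b * iT)⁻¹ * g) := by group
    rw [e]
    exact D.mul_mem (D.mul_mem (hU _ _) hT) h1

/-- The stabiliser of a point of the ovoid is solvable. -/
theorem stab_solvable : Group.IsSolvable (MulAction.stabilizer (Sz F m) (⟨∞', inf_mem⟩ : suzukiOvoid F m)) := by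
  have C := ctx_of_card hF
  have h0θ' : (0 : F) ^ θm = 0 := zero_pow (by positivity)
  apply solvable_of_comm_chain _ (Usub hF hm) (Zsub hF hm)
  · intro x hx y hy
    have hx' : (x : SL4) • ∞' = ∞' := congrArg Subtype.val hx
    have hy' : (y : SL4) • ∞' = ∞' := congrArg Subtype.val hy
    obtain ⟨a, b, α, ha⟩ := one_pt hF hm x.2 hx'
    obtain ⟨c, d, β, hc⟩ := one_pt hF hm y.2 hy'
    obtain ⟨e, f, h⟩ := SM_comm hF hm a b c d α β
    refine ⟨e, f, ?_⟩
    rw [← h, ← ha, ← hc]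
    rfl
  · rintro x ⟨a, b, ha⟩ y ⟨c, d, hc⟩
    refine ⟨a ^ θm * c + c ^ θm * a, ?_⟩
    show (x : SL4) * y * (x : SL4)⁻¹ * (y : SL4)⁻¹ = _
    rw [ha, hc, S_comm hF hm]
  · rintro x ⟨a, ha⟩ y ⟨c, hc⟩
    apply Subtype.ext
    show (x : SL4) * y * (x : SL4)⁻¹ * (y : SL4)⁻¹ = 1
    rw [ha, hc, S_comm hF hm, h0θ', zero_mul, add_zero, S_zero hF hm]

/-- Elements of the Suzuki group other than the identity. -/
lemma S_ne_one : S θm (0 : F) 1 ≠ 1 := by
  have C := ctx_of_card hF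
  intro h
  have e := congrArg (fun g => g • P θm (0 : F) 0) h
  simp only [S_P C, one_smul] at e
  have := (P_inj e).2
  simp at this

/-- The action on the ovoid is doubly transitive. -/
theorem two_trans {a b c d : suzukiOvoid F m} (hab : a ≠ b) (hcd : c ≠ d) : ∃ g : Sz F m, g • a = c ∧ g • b = d := by
  obtain ⟨g₁, hg₁, h1, h2⟩ := exists_move2 hF hm a.2 b.2 (fun h => hab (Subtype.ext h))
  obtain ⟨g₂, hg₂, h3, h4⟩ := exists_move2 hF hm c.2 d.2 (fun h => hcd (Subtype.ext h))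
  refine ⟨⟨g₂, hg₂⟩ * ⟨g₁, hg₁⟩⁻¹, ?_, ?_⟩
  · apply Subtype.ext
    show (g₂ * g₁⁻¹) • (a : Projectivization F (Fin 4 → F)) = c
    rw [mul_smul, ← h1, inv_smul_smul, h3]
  · apply Subtype.ext
    show (g₂ * g₁⁻¹) • (b : Projectivization F (Fin 4 → F)) = d
    rw [mul_smul, ← h2, inv_smul_smul, h4]

/-- Elements acting trivially on the ovoid are trivial. -/
theorem faithful_O (g : Sz F m) (h : ∀ x : suzukiOvoid F m, g • x = x) : g = 1 := by
  apply Subtype.ext
  apply eq_one_of_fix hF hm g.2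
  · exact congrArg Subtype.val (h ⟨_, inf_mem⟩)
  · intro x y
    exact congrArg Subtype.val (h ⟨_, P_mem x y⟩)

/-- The Suzuki group is simple. -/
theorem simple : IsSimpleGroup (Sz F m) := by
  haveI : Nontrivial (Sz F m) := ⟨⟨⟨S θm 0 1, S_mem hF _ _⟩, 1, fun h => S_ne_one hF hm (congrArg Subtype.val h)⟩⟩
  haveI := stab_solvable hF hm
  exact simple_of_two_trans (Ω := suzukiOvoid F m) (faithful_O hF hm) (two_trans hF hm) (perfect hF hm) ⟨∞', inf_mem⟩ (stab_solvable hF hm)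

/-- Fixing three points is trivial. -/
theorem three_pt {g : SL4} (hg : g ∈ Sz F m) {a b c : Projectivization F (Fin 4 → F)} (ha : a ∈ suzukiOvoid F m) (hb : b ∈ suzukiOvoid F m) (hc : c ∈ suzukiOvoid F m)
    (hab : a ≠ b) (hbc : b ≠ c) (hac : a ≠ c) (h1 : g • a = a) (h2 : g • b = b) (h3 : g • c = c) : g = 1 := by
  have C := ctx_of_card hF
  obtain ⟨t, ht, e1, e2⟩ := exists_move2 hF hm ha hb hab
  set g' := t⁻¹ * g * t with hg'
  have hg'm : g' ∈ Sz F m := (Sz F m).mul_mem ((Sz F m).mul_mem ((Sz F m).inv_mem ht) hg) ht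
  have f1 : g' • ∞' = ∞' := by
    rw [hg', mul_smul, mul_smul, e1, h1, ← e1, inv_smul_smul]
  have f2 : g' • P θm (0 : F) 0 = P θm (0 : F) 0 := by
    rw [hg', mul_smul, mul_smul, e2, h2, ← e2, inv_smul_smul]
  obtain ⟨α, hα⟩ := two_pt hF hm hg'm f1 f2
  have hc' : t⁻¹ • c ∈ suzukiOvoid F m := smul_mem_O ((Sz F m).inv_mem ht) hc
  have f3 : g' • (t⁻¹ • c) = t⁻¹ • c := by
    rw [hg', mul_smul, mul_smul, smul_inv_smul, h3]
  rcases ovoid_cases hc' with h | ⟨x, y, h⟩
  · exfalso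
    rw [inv_smul_eq_iff, e1] at h
    exact hac h.symm
  · have hxy : x ≠ 0 ∨ y ≠ 0 := by
      by_contra hcon
      push Not at hcon
      rw [inv_smul_eq_iff, hcon.1, hcon.2, e2] at h
      exact hbc h.symm
    rw [h, hα, M_P C] at f3
    obtain ⟨e3, e4⟩ := P_inj f3
    have hα1 : α = 1 := by
      apply Units.ext
      rw [Units.val_one]
      rcases hxy with hx | hy
      · exact mul_right_cancel₀ hx (by rw [e3, one_mul])
      · apply pow_theta_succ_eq_one hF α.ne_zero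
        exact mul_right_cancel₀ hy (by rw [e4, one_mul])
    have e5 : g' = 1 := by
      rw [hα, hα1, M_one hF hm]
    rw [hg'] at e5
    have e6 : g = t * (t⁻¹ * g * t) * t⁻¹ := by group
    rw [e6, e5]
    group

/-- The Suzuki group is a Zassenhaus group. -/
theorem zassenhaus : IsZassenhausGroup (Sz F m) (suzukiOvoid F m) := by
  have C := ctx_of_card hF
  refine ⟨⟨?_⟩, ?_, ?_, ?_, ?_⟩
  · intro g h k
    have : h⁻¹ * g = 1 := by
      apply faithful_O hF hm
      intro x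
      rw [mul_smul, k, inv_smul_smul]
    exact (inv_mul_eq_one.1 this).symm
  · rw [MulAction.is_two_pretransitive_iff]
    intro a b c d hab hcd
    exact two_trans hF hm hab hcd
  · intro g a b c hab hbc hac h1 h2 h3
    apply Subtype.ext
    exact three_pt hF hm g.2 a.2 b.2 c.2 (fun h => hab (Subtype.ext h)) (fun h => hbc (Subtype.ext h)) (fun h => hac (Subtype.ext h))
      (congrArg Subtype.val h1) (congrArg Subtype.val h2) (congrArg Subtype.val h3)
  · obtain ⟨α, hα⟩ := exists_unit_ne_one hF hm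
    refine ⟨⟨M (2 ^ m) α, M_mem hF α⟩, ?_, ⟨∞', inf_mem⟩, ⟨P θm (0 : F) 0, P_mem _ _⟩, ?_, ?_, ?_⟩
    · intro h
      have h' : M (2 ^ m) α = 1 := congrArg Subtype.val h
      have e := congrArg (fun g => g • P θm (1 : F) 0) h'
      simp only [M_P C, one_smul] at e
      apply hα
      apply Units.ext
      simpa using (P_inj e).1
    · intro h
      exact P_ne_inf _ _ (congrArg Subtype.val h).symm
    · exact Subtype.ext (M_inf C α)
    · apply Subtype.ext
      show M (2 ^ m) α • P θm (0 : F) 0 = P θm (0 : F) 0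
      rw [M_P C]
      simp
  · intro N hN htr
    haveI := simple hF hm
    rcases hN.eq_bot_or_eq_top with h | h
    · exfalso
      obtain ⟨g, hg⟩ := MulAction.exists_smul_eq N (⟨∞', inf_mem⟩ : suzukiOvoid F m) ⟨P θm (0 : F) 0, P_mem _ _⟩
      have : g = 1 := by
        have h5 : (g : Sz F m) ∈ (⊥ : Subgroup (Sz F m)) := h.le g.2
        exact Subtype.ext (Subgroup.mem_bot.1 h5)
      rw [this, one_smul] at hg
      exact P_ne_inf _ _ (congrArg Subtype.val hg).symm
    · refine ⟨⟨∞', inf_mem⟩, ?_⟩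
      intro hbot
      have hmem : (⟨⟨S θm 0 1, S_mem hF _ _⟩, by rw [h]; exact Subgroup.mem_top _⟩ : N) ∈ MulAction.stabilizer N (⟨∞', inf_mem⟩ : suzukiOvoid F m) := by
        apply Subtype.ext
        exact S_inf C 0 1
      rw [hbot, Subgroup.mem_bot] at hmem
      exact S_ne_one hF hm (congrArg (fun x : N => ((x : Sz F m) : SL4)) hmem)

end

end CfsgLib.Sz
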