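/-
The Sylow 2-subgroups of the Suzuki group.
-/
import Cfsg.Agent.Lib.Sz.Simple

set_option autoImplicit false

namespace CfsgLib.Sz

open Matrix Cfsg
open scoped Pointwise

/-- Transporting centre and derived subgroup across an isomorphism. -/
lemma center_eq_comm_of_equiv {A B : Type*} [Group A] [Group B] (φ : A ≃* B) (h : Subgroup.center B = commutator B) :
    Subgroup.center A = commutator A := by
  have hc : (commutator A).map φ.toMonoidHom = commutator B := by
    rw [commutator_def, commutator_def, Subgroup.map_commutator]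
    have : (⊤ : Subgroup A).map φ.toMonoidHom = ⊤ := Subgroup.map_top_of_surjective _ φ.surjective
    rw [this]
  ext x
  have h1 : x ∈ Subgroup.center A ↔ φ x ∈ Subgroup.center B := by
    rw [Subgroup.mem_center_iff, Subgroup.mem_center_iff]
    constructor
    · intro hx g
      obtain ⟨g', rfl⟩ := φ.surjective g
      rw [← map_mul, ← map_mul, hx]
    · intro hx g
      apply φ.injective
      rw [map_mul, map_mul, hx]
  rw [h1, h, ← hc]
  constructor
  · rintro ⟨y, hy, e⟩
    have : y = x := φ.injective e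
    rwa [← this]
  · intro hx
    exact ⟨x, hx, rfl⟩

section

variable {F : Type*} [Field F] [Fintype F] {m : ℕ}

local notation "SL4" => Matrix.SpecialLinearGroup (Fin 4) F

local notation "θm" => (2 ^ (m + 1) : ℕ)

local notation "∞'" => suzukiPointInfinity F

instance finite_Sz : Finite (Sz F m) := by
  haveI : Finite SL4 := inferInstanceAs (Finite {A : Matrix (Fin 4) (Fin 4) F // A.det = 1})
  infer_instance

variable (hF : Fintype.card F = 2 ^ (2 * m + 1)) (hm : 1 ≤ m)

include hF hm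

lemma S_inj {a b a' b' : F} (h : S θm a b = S θm a' b') : a = a' ∧ b = b' := by
  have C := ctx_of_card hF
  have e0 := congrArg (fun g => g • P θm (0 : F) 0) h
  simp only [S_P C] at e0
  simp only [mul_zero, zero_add, add_zero] at e0
  exact P_inj e0

/-- Parameters of `U`. -/
noncomputable def uEquiv : F × F ≃ Usub hF hm :=
  Equiv.ofBijective (fun t => ⟨⟨S θm t.1 t.2, S_mem hF _ _⟩, ⟨_, _, rfl⟩⟩) (by
    constructor
    · rintro ⟨a, b⟩ ⟨a', b'⟩ h
      have h' : S θm a b = S θm a' b' := congrArg (fun x : Usub hF hm => ((x : Sz F m) : SL4)) h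
      obtain ⟨rfl, rfl⟩ := S_inj hF hm h'
      rfl
    · rintro ⟨⟨g, hg⟩, a, b, hab⟩
      refine ⟨(a, b), ?_⟩
      apply Subtype.ext
      apply Subtype.ext
      exact hab.symm)

theorem card_U : Nat.card (Usub hF hm) = (2 ^ (2 * m + 1)) ^ 2 := by
  rw [← Nat.card_congr (uEquiv hF hm), Nat.card_prod, Nat.card_eq_fintype_card, hF]
  ring

/-- The order is odd apart from `q²`. -/
lemma odd_part : ¬ 2 ∣ (((2 ^ (2 * m + 1)) ^ 2 + 1) * (2 ^ (2 * m + 1) - 1) : ℕ) := by
  have h1 : 2 ∣ (2 ^ (2 * m + 1) : ℕ) := dvd_pow_self 2 (by omega)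
  have h2 : 1 ≤ (2 ^ (2 * m + 1) : ℕ) := Nat.one_le_two_pow
  intro h
  rcases (Nat.prime_two.dvd_mul).1 h with h | h
  · have h3 : 2 ∣ ((2 ^ (2 * m + 1)) ^ 2 : ℕ) := dvd_pow h1 (by norm_num)
    have := (Nat.dvd_add_right h3).1 h
    omega
  · have h3 := Nat.dvd_sub h1 h
    have h4 : (2 ^ (2 * m + 1) : ℕ) - (2 ^ (2 * m + 1) - 1) = 1 := by omega
    rw [h4] at h3
    omega

/-- `U` as a Sylow subgroup. -/
noncomputable def uSylow : Sylow 2 (Sz F m) := by
  haveI : Fact (Nat.Prime 2) := ⟨Nat.prime_two⟩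
  refine Sylow.ofCard (Usub hF hm) ?_
  rw [card_U hF hm, card_Sz hF hm]
  have e : ((2 ^ (2 * m + 1)) ^ 2 * ((2 ^ (2 * m + 1)) ^ 2 + 1) * (2 ^ (2 * m + 1) - 1) : ℕ) = 2 ^ (2 * (2 * m + 1)) * (((2 ^ (2 * m + 1)) ^ 2 + 1) * (2 ^ (2 * m + 1) - 1)) := by
    rw [mul_assoc, pow_mul' 2 2 (2 * m + 1)]
  have hne : (((2 ^ (2 * m + 1)) ^ 2 + 1) * (2 ^ (2 * m + 1) - 1) : ℕ) ≠ 0 := by
    intro h
    exact odd_part hF hm (h ▸ dvd_zero 2)
  rw [e, Nat.factorization_mul (by positivity) hne]
  simp [Nat.Prime.factorization_pow Nat.prime_two, Nat.factorization_eq_zero_of_not_dvd (odd_part hF hm)]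
  ring

lemma uSylow_coe : ((uSylow hF hm : Sylow 2 (Sz F m)) : Subgroup (Sz F m)) = Usub hF hm := rfl

/-- The `θ + 1` power map is surjective. -/
lemma pow_succ_surj : Function.Surjective (fun a : F => a ^ (θm + 1)) := by
  apply Finite.surjective_of_injective
  intro a b h
  simp only at h
  by_cases hb : b = 0
  · subst hb
    rw [zero_pow (by positivity)] at h
    exact pow_eq_zero_iff (by positivity) |>.1 h
  · have ha : a ≠ 0 := by
      rintro rfl
      rw [zero_pow (by positivity)] at h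
      exact hb (pow_eq_zero_iff (by positivity) |>.1 h.symm)
    have h1 : (a / b) ^ (θm + 1) = 1 := by
      rw [div_pow, h, div_self (pow_ne_zero _ hb)]
    have h2 := pow_theta_succ_eq_one hF (div_ne_zero ha hb) h1
    exact (div_eq_one_iff_eq hb).1 h2

/-- Some element is not fixed by `θ`. -/
lemma exists_pow_ne : ∃ t : F, t ^ θm ≠ t := by
  have C := ctx_of_card hF
  obtain ⟨α, hα⟩ := exists_unit_ne_one hF hm
  refine ⟨α, ?_⟩
  intro h
  have e := C.sq (α : F)
  rw [h, h, pow_two] at e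
  apply hα
  apply Units.ext
  rw [Units.val_one]
  exact (mul_left_cancel₀ α.ne_zero (by rw [mul_one]; exact e.symm) : (α : F) = 1)

/-- An element of `U`. -/
def uS (a b : F) : Usub hF hm := ⟨⟨S θm a b, S_mem hF _ _⟩, ⟨_, _, rfl⟩⟩

lemma uS_mul (a b c d : F) : uS hF hm a b * uS hF hm c d = uS hF hm (a + c) (b + d + a ^ θm * c) := by
  apply Subtype.ext
  apply Subtype.ext
  exact S_mul hF hm a b c d

lemma uS_surj (x : Usub hF hm) : ∃ a b : F, x = uS hF hm a b := by
  obtain ⟨⟨g, hg⟩, a, b, hab⟩ := x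
  refine ⟨a, b, ?_⟩
  apply Subtype.ext
  apply Subtype.ext
  exact hab

lemma uS_inj {a b a' b' : F} (h : uS hF hm a b = uS hF hm a' b') : a = a' ∧ b = b' :=
  S_inj hF hm (congrArg (fun x : Usub hF hm => ((x : Sz F m) : SL4)) h)

lemma uS_zero : uS hF hm (0 : F) 0 = 1 := by
  apply Subtype.ext
  apply Subtype.ext
  exact S_zero hF hm

lemma uS_comm (a b c d : F) : uS hF hm a b * uS hF hm c d * (uS hF hm a b)⁻¹ * (uS hF hm c d)⁻¹ = uS hF hm 0 (a ^ θm * c + c ^ θm * a) := by
  apply Subtype.ext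
  apply Subtype.ext
  exact S_comm hF hm a b c d

/-- The centre of `U`. -/
theorem mem_center_U (x : Usub hF hm) : x ∈ Subgroup.center (Usub hF hm) ↔ ∃ b : F, x = uS hF hm 0 b := by
  have C := ctx_of_card hF
  have h20 := C.two
  have h0θ : (0 : F) ^ θm = 0 := zero_pow (by positivity)
  constructor
  · intro hx
    obtain ⟨a, b, rfl⟩ := uS_surj hF hm x
    refine ⟨b, ?_⟩
    have ha : a = 0 := by
      by_contra ha
      obtain ⟨t, ht⟩ := exists_pow_ne hF hm
      have h1 := (Subgroup.mem_center_iff.1 hx) (uS hF hm (a * t) 0)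
      rw [uS_mul, uS_mul] at h1
      have h2 := (uS_inj hF hm h1).2
      have h3 : (a * t) ^ θm * a = a ^ θm * (a * t) := by
        linear_combination h2
      rw [mul_pow] at h3
      have h4 : a ^ θm * a * (t ^ θm - t) = 0 := by
        linear_combination h3
      have h5 : a ^ θm * a ≠ 0 := mul_ne_zero (pow_ne_zero _ ha) ha
      exact ht (sub_eq_zero.1 ((mul_eq_zero.1 h4).resolve_left h5))
    rw [ha]
  · rintro ⟨b, rfl⟩
    rw [Subgroup.mem_center_iff]
    intro y
    obtain ⟨c, d, rfl⟩ := uS_surj hF hm y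
    rw [uS_mul, uS_mul]
    congr 1
    · ring
    · rw [h0θ]
      have : c ^ θm * (0 : F) = 0 := mul_zero _
      rw [this]
      ring

/-- The derived subgroup of `U`. -/
theorem center_eq_comm_U : Subgroup.center (Usub hF hm) = commutator (Usub hF hm) := by
  have C := ctx_of_card hF
  apply le_antisymm
  · intro x hx
    obtain ⟨e, rfl⟩ := (mem_center_U hF hm x).1 hx
    obtain ⟨t, ht⟩ := exists_pow_ne hF hm
    have ht' : t + t ^ θm ≠ 0 := by
      intro h
      apply ht
      have h20 := C.two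
      linear_combination h - t * h20
    obtain ⟨a, ha⟩ := pow_succ_surj hF hm (e / (t + t ^ θm))
    simp only at ha
    have h1 : uS hF hm 0 e = uS hF hm a 0 * uS hF hm (a * t) 0 * (uS hF hm a 0)⁻¹ * (uS hF hm (a * t) 0)⁻¹ := by
      rw [uS_comm]
      congr 1
      rw [mul_pow]
      have : a ^ θm * a = e / (t + t ^ θm) := by
        rw [← ha]
        exact (pow_succ _ _).symm
      have h2 : e = (a ^ θm * a) * (t + t ^ θm) := by
        rw [this]
        field_simp
      rw [h2]
      ring_nf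
    rw [h1]
    exact Subgroup.commutator_mem_commutator (Subgroup.mem_top _) (Subgroup.mem_top _)
  · rw [commutator_def, Subgroup.commutator_le]
    intro x _ y _
    obtain ⟨a, b, rfl⟩ := uS_surj hF hm x
    obtain ⟨c, d, rfl⟩ := uS_surj hF hm y
    rw [commutatorElement_def, uS_comm]
    exact (mem_center_U hF hm _).2 ⟨_, rfl⟩

theorem card_center_U : Nat.card (Subgroup.center (Usub hF hm)) = 2 ^ (2 * m + 1) := by
  have e : F ≃ Subgroup.center (Usub hF hm) :=
    Equiv.ofBijective (fun b => ⟨uS hF hm 0 b, (mem_center_U hF hm _).2 ⟨b, rfl⟩⟩) (by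
      constructor
      · intro b b' h
        exact (uS_inj hF hm (congrArg Subtype.val h)).2
      · rintro ⟨x, hx⟩
        obtain ⟨b, rfl⟩ := (mem_center_U hF hm x).1 hx
        exact ⟨b, rfl⟩)
  rw [← Nat.card_congr e, Nat.card_eq_fintype_card, hF]

theorem exponent_U : Monoid.exponent (Usub hF hm) = 4 := by
  have C := ctx_of_card hF
  have h20 := C.two
  have h0θ : (0 : F) ^ θm = 0 := zero_pow (by positivity)
  have hsq : ∀ a b : F, uS hF hm a b ^ 2 = uS hF hm 0 (a ^ (θm + 1)) := by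
    intro a b
    rw [pow_two, uS_mul]
    congr 1
    · linear_combination a * h20
    · rw [pow_succ]
      linear_combination b * h20
  have h4 : ∀ x : Usub hF hm, x ^ 4 = 1 := by
    intro x
    obtain ⟨a, b, rfl⟩ := uS_surj hF hm x
    have e : uS hF hm a b ^ 4 = (uS hF hm a b ^ 2) ^ 2 := by rw [← pow_mul]
    rw [e, hsq, hsq, ← uS_zero hF hm]
    congr 1
    exact zero_pow (by positivity)
  have hd : Monoid.exponent (Usub hF hm) ∣ 2 ^ 2 := Monoid.exponent_dvd_of_forall_pow_eq_one h4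
  obtain ⟨k, hk, e⟩ := (Nat.dvd_prime_pow Nat.prime_two).1 hd
  have hk2 : k = 2 := by
    by_contra hne
    have hk1 : k ≤ 1 := by omega
    have h5 : Monoid.exponent (Usub hF hm) ∣ 2 := by
      rw [e]
      exact pow_dvd_pow 2 hk1 |>.trans (by norm_num)
    have h6 := (Monoid.exponent_dvd_iff_forall_pow_eq_one.1 h5) (uS hF hm 1 0)
    rw [hsq, one_pow, ← uS_zero hF hm] at h6
    have := (uS_inj hF hm h6).2
    exact one_ne_zero this
  rw [e, hk2]
  norm_num

/-- The structure of a Sylow 2-subgroup. -/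
theorem sylow_two (P : Sylow 2 (Sz F m)) : Nat.card P = (2 ^ (2 * m + 1)) ^ 2 ∧ Monoid.exponent P = 4 ∧
    Subgroup.center P = commutator P ∧ Nat.card (Subgroup.center P) = 2 ^ (2 * m + 1) := by
  haveI : Fact (Nat.Prime 2) := ⟨Nat.prime_two⟩
  let φ : P ≃* Usub hF hm := Sylow.equiv P (uSylow hF hm)
  refine ⟨?_, ?_, ?_, ?_⟩
  · rw [Nat.card_congr φ.toEquiv, card_U hF hm]
  · rw [Monoid.exponent_eq_of_mulEquiv φ, exponent_U hF hm]
  · exact center_eq_comm_of_equiv φ (center_eq_comm_U hF hm)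
  · rw [Nat.card_congr (Subgroup.centerCongr φ).toEquiv, card_center_U hF hm]

end

end CfsgLib.Sz
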