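/-
The two descriptions of the Suzuki group agree: the stabiliser of the ovoid and the group of matrices with `g* = g^θ`.
-/
import Cfsg.Agent.Lib.Sz.SylowTwo
import Cfsg.Prelude.Def_Sz

set_option autoImplicit false

namespace CfsgLib.Sz

open Matrix Cfsg
open scoped Pointwise MatrixGroups

section minors

variable {F : Type*} [Field F]

/-- Cauchy-Binet for `2 × 2` minors of `4 × 4` matrices. -/
lemma minor_mul (g h : Matrix (Fin 4) (Fin 4) F) (k l i j : Fin 4) :
    (g * h) k i * (g * h) l j - (g * h) l i * (g * h) k j =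
      (g k 0 * g l 1 - g l 0 * g k 1) * (h 0 i * h 1 j - h 1 i * h 0 j) +
      (g k 0 * g l 2 - g l 0 * g k 2) * (h 0 i * h 2 j - h 2 i * h 0 j) +
      (g k 1 * g l 3 - g l 1 * g k 3) * (h 1 i * h 3 j - h 3 i * h 1 j) +
      (g k 2 * g l 3 - g l 2 * g k 3) * (h 2 i * h 3 j - h 3 i * h 2 j) +
      (g k 0 * g l 3 - g l 0 * g k 3) * (h 0 i * h 3 j - h 3 i * h 0 j) +
      (g k 1 * g l 2 - g l 1 * g k 2) * (h 1 i * h 2 j - h 2 i * h 1 j) := by
  simp only [Matrix.mul_apply, Fin.sum_univ_four]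
  ring

/-- The relation between the rows from the form. -/
lemma row_rel (h2 : (2 : F) = 0) {g : Matrix (Fin 4) (Fin 4) F} (hg : g * suzukiForm F * g.transpose = suzukiForm F) (k l : Fin 4) (hkl : suzukiForm F k l = 0) :
    g k 0 * g l 3 - g l 0 * g k 3 = g k 1 * g l 2 - g l 1 * g k 2 := by
  have e := congrFun (congrFun hg k) l
  rw [hkl] at e
  simp only [suzukiForm, Matrix.mul_apply, Fin.sum_univ_four, Matrix.transpose_apply] at e
  simp at e
  linear_combination e - (g l 0 * g k 3 + g k 1 * g l 2) * h2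

/-- The relation between the columns from the form. -/
lemma col_rel (h2 : (2 : F) = 0) {h : Matrix (Fin 4) (Fin 4) F} (hh : h.transpose * suzukiForm F * h = suzukiForm F) (i j : Fin 4) (hij : suzukiForm F i j = 0) :
    h 0 i * h 3 j - h 3 i * h 0 j = h 1 i * h 2 j - h 2 i * h 1 j := by
  have e := congrFun (congrFun hh i) j
  rw [hij] at e
  simp only [suzukiForm, Matrix.mul_apply, Fin.sum_univ_four, Matrix.transpose_apply] at e
  simp at e
  linear_combination e - (h 3 i * h 0 j + h 1 i * h 2 j) * h2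

lemma suzukiForm_sq : suzukiForm F * suzukiForm F = 1 := by
  ext i j
  fin_cases i <;> fin_cases j <;> simp [suzukiForm, Matrix.mul_apply, Fin.sum_univ_four]

lemma form_dual {g : Matrix (Fin 4) (Fin 4) F} (hg : g.transpose * suzukiForm F * g = suzukiForm F) : g * suzukiForm F * g.transpose = suzukiForm F := by
  have h1 : (suzukiForm F * g.transpose * suzukiForm F) * g = 1 := by
    calc (suzukiForm F * g.transpose * suzukiForm F) * g = suzukiForm F * (g.transpose * suzukiForm F * g) := by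
          simp only [Matrix.mul_assoc]
      _ = 1 := by rw [hg, suzukiForm_sq]
  have h2 := mul_eq_one_comm.1 h1
  calc g * suzukiForm F * g.transpose = g * suzukiForm F * g.transpose * (suzukiForm F * suzukiForm F) := by
        rw [suzukiForm_sq, Matrix.mul_one]
    _ = (g * (suzukiForm F * g.transpose * suzukiForm F)) * suzukiForm F := by
        simp only [Matrix.mul_assoc]
    _ = suzukiForm F := by rw [h2, Matrix.one_mul]

/-- `g ↦ g*` is multiplicative on the symplectic group in characteristic 2. -/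
theorem star4_mul (h2 : (2 : F) = 0) {g h : Matrix (Fin 4) (Fin 4) F} (hg : g.transpose * suzukiForm F * g = suzukiForm F) (hh : h.transpose * suzukiForm F * h = suzukiForm F) :
    Lie.star4 (g * h) = Lie.star4 g * Lie.star4 h := by
  have hg' := form_dual hg
  have key : ∀ k l i j : Fin 4, suzukiForm F k l = 0 → suzukiForm F i j = 0 →
      (g * h) k i * (g * h) l j - (g * h) l i * (g * h) k j =
      (g k 0 * g l 1 - g l 0 * g k 1) * (h 0 i * h 1 j - h 1 i * h 0 j) +
      (g k 0 * g l 2 - g l 0 * g k 2) * (h 0 i * h 2 j - h 2 i * h 0 j) +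
      (g k 1 * g l 3 - g l 1 * g k 3) * (h 1 i * h 3 j - h 3 i * h 1 j) +
      (g k 2 * g l 3 - g l 2 * g k 3) * (h 2 i * h 3 j - h 3 i * h 2 j) := by
    intro k l i j hkl hij
    rw [minor_mul, row_rel h2 hg' k l hkl, col_rel h2 hh i j hij]
    linear_combination ((g k 1 * g l 2 - g l 1 * g k 2) * (h 1 i * h 2 j - h 2 i * h 1 j)) * h2
  have z01 : suzukiForm F 0 1 = 0 := by simp [suzukiForm]
  have z02 : suzukiForm F 0 2 = 0 := by simp [suzukiForm]
  have z13 : suzukiForm F 1 3 = 0 := by simp [suzukiForm]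
  have z23 : suzukiForm F 2 3 = 0 := by simp [suzukiForm]
  have hz : ∀ p : Fin 4, suzukiForm F (Lie.pairOf p).1 (Lie.pairOf p).2 = 0 := by
    intro p
    fin_cases p
    · exact z01
    · exact z02
    · exact z13
    · exact z23
  ext p r
  have := key (Lie.pairOf p).1 (Lie.pairOf p).2 (Lie.pairOf r).1 (Lie.pairOf r).2 (hz p) (hz r)
  rw [Matrix.mul_apply, Fin.sum_univ_four]
  simp only [Lie.star4, Matrix.of_apply]
  rw [this]
  have p0 : Lie.pairOf 0 = (0, 1) := rfl
  have p1 : Lie.pairOf 1 = (0, 2) := rfl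
  have p2 : Lie.pairOf 2 = (1, 3) := rfl
  have p3 : Lie.pairOf 3 = (2, 3) := rfl
  rw [p0, p1, p2, p3]

end minors

section

variable {F : Type*} [Field F] [Fintype F] {m : ℕ}

local notation "SL4" => Matrix.SpecialLinearGroup (Fin 4) F

local notation "θm" => (2 ^ (m + 1) : ℕ)

local notation "∞'" => suzukiPointInfinity F

variable (hF : Fintype.card F = 2 ^ (2 * m + 1)) (hm : 1 ≤ m)

include hF

lemma star_S (a b : F) : Lie.star4 (smat θm a b) = (smat θm a b).map (fun x => x ^ θm) := by
  have C := ctx_of_card hF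
  have h20 := C.two
  have h0 : (0 : F) ^ θm = 0 := zero_pow (by positivity)
  have e3 : a ^ (θm + 2) = a ^ θm * a ^ 2 := pow_add a _ _
  have e4 : a ^ (θm + 1) = a ^ θm * a := pow_succ a _
  have e1 : (b + a ^ θm * a) ^ θm = b ^ θm + a ^ θm * a ^ 2 := by
    rw [C.add, mul_pow, C.sq]
    ring
  have e2 : (a * b + a ^ θm * a ^ 2 + b ^ θm) ^ θm = a ^ θm * b ^ θm + (a ^ θm) ^ 2 * a ^ 2 + b ^ 2 := by
    rw [C.add, C.add, C.sq, mul_pow, mul_pow, C.sq, ← pow_mul, mul_comm 2, pow_mul]
    ring
  have e5 : (a ^ θm) ^ θm = a * a := by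
    rw [C.sq]
    ring
  ext p r
  fin_cases p <;> fin_cases r <;> simp [Lie.star4, Lie.pairOf, smat, h0, e1, e2, e5, e3, e4]
  all_goals first
    | linear_combination (-(a ^ θm * a ^ 2) - b ^ θm) * h20
    | linear_combination (-((a ^ θm) ^ 2 * a ^ 2) - a ^ θm * b ^ θm) * h20
    | linear_combination (-(b ^ θm)) * h20
    | linear_combination 0 * h20

lemma star_M (α : Fˣ) : Lie.star4 (mmat (2 ^ m) α) = (mmat (2 ^ m) α).map (fun x => x ^ θm) := by
  have C := ctx_of_card hF
  have h0 : (0 : F) ^ θm = 0 := zero_pow (by positivity)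
  have hα : (α : F) * ((α⁻¹ : Fˣ) : F) = 1 := by simp
  -- the exponents
  have key : ∀ t : F, (t ^ (2 ^ m + 1)) ^ θm = t ^ θm * t := by
    intro t
    have : (2 ^ (2 * m + 1) : ℕ) = Fintype.card F := hF.symm
    have e : (2 ^ m + 1) * θm = 2 ^ (2 * m + 1) + 2 ^ (m + 1) := by ring
    rw [← pow_mul, e, pow_add, this, FiniteField.pow_card]
    ring
  have key2 : ∀ t : F, (t ^ (2 ^ m)) ^ θm = t := by
    intro t
    have : (2 ^ (2 * m + 1) : ℕ) = Fintype.card F := hF.symm
    have e : (2 ^ m) * θm = 2 ^ (2 * m + 1) := by ring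
    rw [← pow_mul, e, this, FiniteField.pow_card]
  have e2 : ∀ t : F, t ^ (2 ^ m + 1) * t ^ (2 ^ m) = t ^ θm * t := by
    intro t
    have e : (2 ^ m + 1) + 2 ^ m = 2 ^ (m + 1) + 1 := by ring
    rw [← pow_add, e, pow_succ]
  ext p r
  have hne : (α : F) ≠ 0 := α.ne_zero
  have e3 : (α : F) ^ (2 ^ (m + 1)) = (α : F) ^ (2 ^ m) * (α : F) ^ (2 ^ m) := by
    rw [← pow_add]
    congr 1
    ring
  fin_cases p <;> fin_cases r <;> simp [Lie.star4, Lie.pairOf, mmat, Matrix.diagonal_apply, h0, key, key2, e2]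
  · rw [pow_succ]
    field_simp
  · rw [pow_succ]
    field_simp
  · rw [e3, pow_succ]
    field_simp

lemma star_T : Lie.star4 (suzukiForm F) = (suzukiForm F).map (fun x => x ^ θm) := by
  have C := ctx_of_card hF
  have h20 := C.two
  have h0 : (0 : F) ^ θm = 0 := zero_pow (by positivity)
  have hn : (-1 : F) = 1 := by linear_combination -h20
  ext p r
  fin_cases p <;> fin_cases r <;> simp [Lie.star4, Lie.pairOf, suzukiForm, h0, hn]

/-- The defining property of the Suzuki group as a group of matrices. -/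
def IsX (m : ℕ) (g : Matrix (Fin 4) (Fin 4) F) : Prop :=
  g.transpose * suzukiForm F * g = suzukiForm F ∧ Lie.star4 g = g.map (fun x => x ^ (2 ^ (m + 1)))

omit hF in
lemma IsX_mul (hF : Fintype.card F = 2 ^ (2 * m + 1)) {g h : Matrix (Fin 4) (Fin 4) F} (hg : IsX m g) (hh : IsX m h) : IsX m (g * h) := by
  have C := ctx_of_card hF
  refine ⟨form_mul hg.1 hh.1, ?_⟩
  rw [star4_mul C.two hg.1 hh.1, hg.2, hh.2]
  let f : F →+* F :=
    { toFun := fun x => x ^ θm
      map_one' := one_pow _
      map_mul' := fun a b => mul_pow a b _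
      map_zero' := zero_pow (by positivity)
      map_add' := C.add }
  exact (Matrix.map_mul (f := f)).symm

lemma IsX_S (a b : F) (hm : 1 ≤ m) : IsX m (smat θm a b) := ⟨form_S hF hm a b, star_S hF a b⟩

omit hF in
lemma IsX_M (hF : Fintype.card F = 2 ^ (2 * m + 1)) (α : Fˣ) : IsX m (mmat (2 ^ m) α) := ⟨form_M α, star_M hF α⟩

omit hF in
lemma IsX_T (hF : Fintype.card F = 2 ^ (2 * m + 1)) : IsX m (suzukiForm F) := ⟨form_T, star_T hF⟩

/-- The elements of the stabiliser of the ovoid have the defining property. -/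
theorem IsX_of_mem (hm : 1 ≤ m) {g : SL4} (hg : g ∈ Sz F m) : IsX m (g : Matrix (Fin 4) (Fin 4) F) := by
  have C := ctx_of_card hF
  have key : ∀ h : SL4, h ∈ Sz F m → h • ∞' = ∞' → IsX m (h : Matrix (Fin 4) (Fin 4) F) := by
    intro h hh h1
    obtain ⟨a, b, α, rfl⟩ := one_pt hF hm hh h1
    exact IsX_mul hF (IsX_S hF a b hm) (IsX_M hF α)
  by_cases h1 : g • ∞' = ∞'
  · exact key g hg h1
  · rcases ovoid_cases (smul_mem_O hg (inf_mem (F := F) (m := m))) with h | ⟨a, b, h⟩
    · exact absurd h h1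
    · set t : SL4 := S θm a b * T F with ht
      have htm : t ∈ Sz F m := (Sz F m).mul_mem (S_mem hF _ _) (T_mem hF)
      have htp : t • ∞' = P θm a b := by
        rw [ht, mul_smul, T_inf C (by positivity), S_P C]
        congr 1
        · ring
        · ring
      have hh : t⁻¹ * g ∈ Sz F m := (Sz F m).mul_mem ((Sz F m).inv_mem htm) hg
      have h3 := key (t⁻¹ * g) hh (by rw [mul_smul, h, inv_smul_eq_iff, htp])
      have h4 : g = S θm a b * T F * (t⁻¹ * g) := by
        rw [← ht, mul_inv_cancel_left]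
      rw [h4]
      exact IsX_mul hF (IsX_mul hF (IsX_S hF a b hm) (IsX_T hF)) h3

/-- The image of the point at infinity is on the ovoid. -/
theorem IsX_inf {g : SL4} (hX : IsX m (g : Matrix (Fin 4) (Fin 4) F)) : g • ∞' ∈ suzukiOvoid F m := by
  have C := ctx_of_card hF
  have h20 := C.two
  have h0 : (0 : F) ^ θm = 0 := zero_pow (by positivity)
  have hθ0 : θm ≠ 0 := by positivity
  set A : Matrix (Fin 4) (Fin 4) F := (g : Matrix (Fin 4) (Fin 4) F) with hA
  have hform := hX.1
  have hstar := hX.2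
  -- the equations
  have E1 : A 0 0 * A 2 1 - A 2 0 * A 0 1 = (A 1 0) ^ θm := by
    have := congrFun (congrFun hstar 1) 0
    simpa [Lie.star4, Lie.pairOf] using this
  have E2 : A 1 0 * A 3 1 - A 3 0 * A 1 1 = (A 2 0) ^ θm := by
    have := congrFun (congrFun hstar 2) 0
    simpa [Lie.star4, Lie.pairOf] using this
  have E3 : A 2 0 * A 3 1 - A 3 0 * A 2 1 = (A 3 0) ^ θm := by
    have := congrFun (congrFun hstar 3) 0
    simpa [Lie.star4, Lie.pairOf] using this
  have T0 : A 3 0 * A 0 1 + A 2 0 * A 1 1 + A 1 0 * A 2 1 + A 0 0 * A 3 1 = 0 := by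
    have := congrFun (congrFun hform 0) 1
    simpa [suzukiForm, Matrix.mul_apply, Fin.sum_univ_four, Matrix.transpose_apply] using this
  have hv : g • (![1, 0, 0, 0] : Fin 4 → F) = ![A 0 0, A 1 0, A 2 0, A 3 0] := by
    rw [smul_def]
    ext i
    fin_cases i <;> simp [Matrix.mulVec, dotProduct, Fin.sum_univ_four, hA]
  have hne : ![A 0 0, A 1 0, A 2 0, A 3 0] ≠ (0 : Fin 4 → F) := by
    rw [← hv]
    intro h
    apply vinf_ne (F := F)
    exact (smul_eq_zero_iff_eq g).1 h
  have hmk : g • ∞' = Projectivization.mk F ![A 0 0, A 1 0, A 2 0, A 3 0] hne := by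
    unfold suzukiPointInfinity
    rw [Projectivization.smul_mk]
    simp only [hv]
  rw [hmk]
  by_cases h3 : A 3 0 = 0
  · -- the case of the point at infinity
    rw [h3, h0] at E3
    rw [h3] at E2 T0
    have hv2 : A 2 0 = 0 := by
      by_cases hu : A 3 1 = 0
      · rw [hu] at E2
        have : (A 2 0) ^ θm = 0 := by rw [← E2]; ring
        exact pow_eq_zero_iff hθ0 |>.1 this
      · have : A 2 0 * A 3 1 = 0 := by rw [← E3]; rw [mul_comm]; ring
        exact (mul_eq_zero.1 this).resolve_right hu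
    rw [hv2, zero_pow hθ0] at E2
    rw [hv2] at T0 E1
    have hv1 : A 1 0 = 0 := by
      by_cases hu : A 3 1 = 0
      · rw [hu] at T0
        by_cases hu2 : A 2 1 = 0
        · rw [hu2] at E1
          have : (A 1 0) ^ θm = 0 := by rw [← E1]; ring
          exact pow_eq_zero_iff hθ0 |>.1 this
        · have : A 1 0 * A 2 1 = 0 := by linear_combination T0
          exact (mul_eq_zero.1 this).resolve_right hu2
      · have : A 1 0 * A 3 1 = 0 := by linear_combination E2
        exact (mul_eq_zero.1 this).resolve_right hu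
    have : Projectivization.mk F ![A 0 0, A 1 0, A 2 0, A 3 0] hne = suzukiPointInfinity F := by
      unfold suzukiPointInfinity
      refine pt_eq _ _ (A 0 0) ?_
      ext i
      fin_cases i <;> simp [hv1, hv2, h3]
    rw [this]
    exact inf_mem
  · -- a finite point
    set v0 := A 0 0
    set v1 := A 1 0
    set v2 := A 2 0
    set v3 := A 3 0
    set u0 := A 0 1
    set u1 := A 1 1
    set u2 := A 2 1
    set u3 := A 3 1
    have I : v0 * v3 ^ θm * v3 = v1 * v2 * v3 ^ θm + v2 ^ θm * v2 ^ 2 + v1 ^ θm * v3 ^ 2 := by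
      linear_combination (-(v0 * v3 - v1 * v2)) * E3 + v2 ^ 2 * E2 + v3 ^ 2 * E1 + v2 * v3 * T0 - (v0 * v3 ^ 2 * u2 + v1 * v2 ^ 2 * u3) * h20
    have hfo : v3 * fo θm (v2 / v3) (v1 / v3) = v0 := by
      unfold fo
      rw [pow_add, div_pow, div_pow, div_pow]
      have h3θ : v3 ^ θm ≠ 0 := pow_ne_zero _ h3
      field_simp
      linear_combination (-1 : F) * I
    have : Projectivization.mk F ![v0, v1, v2, v3] hne = P θm (v2 / v3) (v1 / v3) := by
      unfold P
      refine pt_eq _ _ v3 ?_
      ext i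
      fin_cases i
      · simpa [ptv] using hfo
      · simp [ptv]
        field_simp
      · simp [ptv]
        field_simp
      · simp [ptv]
    rw [this]
    exact P_mem _ _

/-- The elements with the defining property stabilise the ovoid. -/
theorem mem_of_IsX (hm : 1 ≤ m) {g : SL4} (hX : IsX m (g : Matrix (Fin 4) (Fin 4) F)) : g ∈ Sz F m := by
  have C := ctx_of_card hF
  apply mem_Sz
  · exact IsX_inf hF hX
  · intro x y
    have e : P θm x y = (S θm x y * T F) • ∞' := by
      rw [mul_smul, T_inf C (by positivity), S_P C]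
      congr 1
      · ring
      · ring
    rw [e, ← mul_smul]
    exact IsX_inf hF (g := g * (S θm x y * T F)) (IsX_mul hF hX (IsX_mul hF (IsX_S hF x y hm) (IsX_T hF)))

omit hF [Fintype F] in
/-- The symplectic group in the two descriptions. -/
lemma mem_Sp4_iff (g : GL (Fin 4) F) : g ∈ Lie.Sp4 F ↔ (g : Matrix (Fin 4) (Fin 4) F).transpose * suzukiForm F * (g : Matrix (Fin 4) (Fin 4) F) = suzukiForm F := by
  have hform : ∀ u v : Fin 4 → F, Lie.altForm4 u v = u ⬝ᵥ (suzukiForm F *ᵥ v) := by
    intro u v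
    simp [Lie.altForm4, suzukiForm, dotProduct, Matrix.mulVec, Fin.sum_univ_four]
  constructor
  · intro h
    ext i j
    have e := h (Pi.single i 1) (Pi.single j 1)
    simp only [Units.coeHom_apply] at e
    rw [hform, hform] at e
    rw [Matrix.mulVec_mulVec, Matrix.dotProduct_mulVec, Matrix.vecMul_mulVec, ← Matrix.dotProduct_mulVec] at e
    simpa [Matrix.mul_assoc] using e
  · intro h u v
    simp only [Units.coeHom_apply]
    rw [hform, hform, Matrix.mulVec_mulVec, Matrix.dotProduct_mulVec, Matrix.vecMul_mulVec, ← Matrix.dotProduct_mulVec]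
    rw [← Matrix.mul_assoc]
    rw [h]

/-- Determinant one from the form. -/
lemma det_of_form (g : Matrix (Fin 4) (Fin 4) F) (h : g.transpose * suzukiForm F * g = suzukiForm F) : g.det = 1 := by
  have C := ctx_of_card hF
  have h20 := C.two
  have e := congrArg Matrix.det h
  rw [Matrix.det_mul, Matrix.det_mul, Matrix.det_transpose, tmat_det] at e
  have e2 : (g.det + 1) ^ 2 = 0 := by
    linear_combination e + g.det * h20 + h20
  have e3 := pow_eq_zero_iff (by norm_num) |>.1 e2
  linear_combination e3 - h20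

/-- The two descriptions of the Suzuki group. -/
theorem map_eq_lie (hm : 1 ≤ m) : (Sz F m).map (Matrix.SpecialLinearGroup.toGL) = Lie.Sz F (2 ^ (m + 1)) := by
  apply le_antisymm
  · rintro _ ⟨g, hg, rfl⟩
    apply Subgroup.subset_closure
    have h1 := IsX_of_mem hF hm hg
    exact ⟨(mem_Sp4_iff _).2 h1.1, h1.2⟩
  · unfold Lie.Sz
    rw [Subgroup.closure_le]
    rintro x ⟨h1, h2⟩
    have h3 := (mem_Sp4_iff _).1 h1
    have hdet := det_of_form hF _ h3
    refine ⟨⟨(x : Matrix (Fin 4) (Fin 4) F), hdet⟩, ?_, ?_⟩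
    · exact mem_of_IsX hF hm ⟨h3, h2⟩
    · apply Units.ext
      rfl

/-- The isomorphism of the two Suzuki groups. -/
noncomputable def lieEquiv (hm : 1 ≤ m) : Sz F m ≃* Lie.Sz F (2 ^ (m + 1)) :=
  ((Sz F m).equivMapOfInjective _ Matrix.SpecialLinearGroup.toGL_injective).trans (MulEquiv.subgroupCongr (map_eq_lie hF hm))

end

end CfsgLib.Sz
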