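/-
The action on the cosets of the normaliser of a Sylow 2-subgroup.
-/
import Cfsg.Agent.Lib.Sz.LieIso

set_option autoImplicit false

namespace CfsgLib.Sz

open Matrix Cfsg
open scoped Pointwise MatrixGroups

/-- The coset action is the action on the points. -/
theorem coset_structure {Γ Ω : Type*} [Group Γ] [MulAction Γ Ω] (ω : Ω) (S : Subgroup Γ)
    (htrans : ∀ x y : Ω, ∃ g : Γ, g • x = y)
    (h2 : ∀ {a b c d : Ω}, a ≠ b → c ≠ d → ∃ g : Γ, g • a = c ∧ g • b = d)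
    (hreg : ∀ x y : Ω, x ≠ ω → y ≠ ω → ∃! s : S, (s : Γ) • x = y) :
    (MulAction.stabilizer Γ ω).index = Nat.card Ω ∧ MulAction.IsMultiplyPretransitive Γ (Γ ⧸ MulAction.stabilizer Γ ω) 2 ∧
      ∀ x y : Γ ⧸ MulAction.stabilizer Γ ω, x ≠ (QuotientGroup.mk 1) → y ≠ (QuotientGroup.mk 1) → ∃! s : S, (s : Γ) • x = y := by
  set φ : Γ ⧸ MulAction.stabilizer Γ ω → Ω := MulAction.ofQuotientStabilizer Γ ω with hφ
  have hinj : Function.Injective φ := MulAction.injective_ofQuotientStabilizer Γ ω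
  have hsurj : Function.Surjective φ := by
    intro y
    obtain ⟨g, hg⟩ := htrans ω y
    exact ⟨(g : Γ ⧸ MulAction.stabilizer Γ ω), hg⟩
  have hsmul : ∀ (g : Γ) (x : Γ ⧸ MulAction.stabilizer Γ ω), φ (g • x) = g • φ x := fun g x =>
    MulAction.ofQuotientStabilizer_smul Γ ω g x
  have h1 : φ (QuotientGroup.mk 1) = ω := by
    show (1 : Γ) • ω = ω
    exact one_smul _ _
  refine ⟨?_, ?_, ?_⟩
  · rw [Subgroup.index]
    exact Nat.card_congr (Equiv.ofBijective φ ⟨hinj, hsurj⟩)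
  · rw [MulAction.is_two_pretransitive_iff]
    intro a b c d hab hcd
    obtain ⟨g, e1, e2⟩ := h2 (hinj.ne hab) (hinj.ne hcd)
    refine ⟨g, hinj ?_, hinj ?_⟩
    · rw [hsmul, e1]
    · rw [hsmul, e2]
  · intro x y hx hy
    have hx' : φ x ≠ ω := by
      rw [← h1]
      exact hinj.ne hx
    have hy' : φ y ≠ ω := by
      rw [← h1]
      exact hinj.ne hy
    obtain ⟨s, hs, huniq⟩ := hreg _ _ hx' hy'
    refine ⟨s, hinj ?_, ?_⟩
    · show φ (((s : S) : Γ) • x) = φ y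
      rw [hsmul, hs]
    · intro t ht
      apply huniq
      show ((t : S) : Γ) • φ x = φ y
      rw [← hsmul]
      exact congrArg φ ht

section

variable {F : Type*} [Field F] [Fintype F] {m : ℕ}

local notation "SL4" => Matrix.SpecialLinearGroup (Fin 4) F

local notation "θm" => (2 ^ (m + 1) : ℕ)

local notation "∞'" => suzukiPointInfinity F

variable (hF : Fintype.card F = 2 ^ (2 * m + 1)) (hm : 1 ≤ m)

include hF hm

/-- The normaliser of `U` is the point stabiliser. -/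
theorem mem_normalizer_U (g : Sz F m) : g ∈ Subgroup.normalizer ((Usub hF hm : Subgroup (Sz F m)) : Set (Sz F m)) ↔ g • (⟨∞', inf_mem⟩ : suzukiOvoid F m) = ⟨∞', inf_mem⟩ := by
  have C := ctx_of_card hF
  have hfixed : ∀ g : Sz F m, g • (⟨∞', inf_mem⟩ : suzukiOvoid F m) = ⟨∞', inf_mem⟩ → ∀ u ∈ Usub hF hm, g * u * g⁻¹ ∈ Usub hF hm := by
    rintro g hg u ⟨c, d, hcd⟩
    have hg' : (g : SL4) • ∞' = ∞' := congrArg Subtype.val hg
    obtain ⟨a, b, α, hab⟩ := one_pt hF hm g.2 hg'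
    show ((g : SL4) * u * (g : SL4)⁻¹) ∈ {x : SL4 | ∃ a b : F, x = S θm a b}
    rw [hcd, hab, _root_.mul_inv_rev]
    have e : S θm a b * M (2 ^ m) α * S θm c d * ((M (2 ^ m) α)⁻¹ * (S θm a b)⁻¹) = S θm a b * (M (2 ^ m) α * S θm c d * (M (2 ^ m) α)⁻¹) * (S θm a b)⁻¹ := by group
    rw [e, M_conj hF hm, S_inv hF hm, S_mul hF hm, S_mul hF hm]
    exact ⟨_, _, rfl⟩
  constructor
  · intro hg
    -- `g` conjugates `S 1 0` and `S 0 1` into `U`, so `g ∞` is fixed by all of `U`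
    have hfix : ∀ u ∈ Usub hF hm, (u : SL4) • ((g : SL4) • ∞') = (g : SL4) • ∞' := by
      rintro u hu
      have h1 : g⁻¹ * u * g⁻¹⁻¹ ∈ Usub hF hm := by
        exact (Subgroup.mem_normalizer_iff.1 (inv_mem hg) u).1 hu
      obtain ⟨a, b, hab⟩ := h1
      have h2 : (g : SL4)⁻¹ * (u : SL4) * (g : SL4) = S θm a b := by
        rw [← hab]
        simp
      have h3 : (u : SL4) * (g : SL4) = (g : SL4) * S θm a b := by
        rw [← h2]
        group
      rw [← mul_smul, h3, mul_smul, S_inf C]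
    apply Subtype.ext
    show (g : SL4) • ∞' = ∞'
    rcases ovoid_cases (smul_mem_O g.2 (inf_mem (F := F) (m := m))) with h | ⟨x, y, h⟩
    · exact h
    · exfalso
      have e := hfix ⟨S θm (1 : F) 0, S_mem hF _ _⟩ ⟨1, 0, rfl⟩
      rw [h] at e
      have e2 : S θm (1 : F) 0 • P θm x y = P θm x y := e
      rw [S_P C] at e2
      have := (P_inj e2).1
      have h20 := C.two
      have h1 : (1 : F) = 0 := by linear_combination this
      exact one_ne_zero h1
  · intro hg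
    rw [Subgroup.mem_normalizer_iff]
    intro u
    constructor
    · exact hfixed g hg u
    · intro hu
      have hginv : g⁻¹ • (⟨∞', inf_mem⟩ : suzukiOvoid F m) = ⟨∞', inf_mem⟩ := by
        rw [inv_smul_eq_iff, hg]
      have := hfixed g⁻¹ hginv _ hu
      convert this using 1
      group

/-- `U` acts regularly on the other points. -/
theorem reg_U (x y : suzukiOvoid F m) (hx : x ≠ ⟨∞', inf_mem⟩) (hy : y ≠ ⟨∞', inf_mem⟩) : ∃! s : Usub hF hm, (s : Sz F m) • x = y := by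
  have C := ctx_of_card hF
  have h20 := C.two
  obtain ⟨x₀, hx₀⟩ := x
  obtain ⟨y₀, hy₀⟩ := y
  rcases ovoid_cases hx₀ with rfl | ⟨x1, x2, rfl⟩
  · exact absurd rfl hx
  rcases ovoid_cases hy₀ with rfl | ⟨y1, y2, rfl⟩
  · exact absurd rfl hy
  set a : F := y1 + x1 with ha
  set b : F := y2 + x2 + a ^ θm * x1 with hb
  refine ⟨uS hF hm a b, ?_, ?_⟩
  · apply Subtype.ext
    show S θm a b • P θm x1 x2 = P θm y1 y2
    rw [S_P C]
    congr 1
    · rw [ha]
      linear_combination x1 * h20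
    · rw [hb]
      linear_combination (x2 + a ^ θm * x1) * h20
  · intro s hs
    obtain ⟨c, d, rfl⟩ := uS_surj hF hm s
    have e : S θm c d • P θm x1 x2 = P θm y1 y2 := congrArg Subtype.val hs
    rw [S_P C] at e
    obtain ⟨e1, e2⟩ := P_inj e
    have hc : c = a := by
      rw [ha, ← e1]
      linear_combination (-x1) * h20
    subst hc
    have hd : d = b := by
      rw [hb, ← e2]
      linear_combination (-(x2 + a ^ θm * x1)) * h20
    rw [hd]

/-- The Sylow subgroup in the matrix description. -/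
theorem lie_structure : Nat.card ↥(Lie.Sz F (2 ^ (m + 1))) = (2 ^ (2 * m + 1)) ^ 2 * (2 ^ (2 * m + 1) - 1) * ((2 ^ (2 * m + 1)) ^ 2 + 1) ∧
    ∃ S : Sylow 2 ↥(Lie.Sz F (2 ^ (m + 1))),
      Nat.card (Subgroup.normalizer ((S : Subgroup ↥(Lie.Sz F (2 ^ (m + 1)))) : Set ↥(Lie.Sz F (2 ^ (m + 1))))) = (2 ^ (2 * m + 1)) ^ 2 * (2 ^ (2 * m + 1) - 1) ∧
      (Subgroup.normalizer ((S : Subgroup ↥(Lie.Sz F (2 ^ (m + 1)))) : Set ↥(Lie.Sz F (2 ^ (m + 1))))).index = (2 ^ (2 * m + 1)) ^ 2 + 1 ∧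
      MulAction.IsMultiplyPretransitive ↥(Lie.Sz F (2 ^ (m + 1))) (↥(Lie.Sz F (2 ^ (m + 1))) ⧸ Subgroup.normalizer ((S : Subgroup ↥(Lie.Sz F (2 ^ (m + 1)))) : Set ↥(Lie.Sz F (2 ^ (m + 1))))) 2 ∧
      ∀ x y : ↥(Lie.Sz F (2 ^ (m + 1))) ⧸ Subgroup.normalizer ((S : Subgroup ↥(Lie.Sz F (2 ^ (m + 1)))) : Set ↥(Lie.Sz F (2 ^ (m + 1)))),
        x ≠ (QuotientGroup.mk 1) → y ≠ (QuotientGroup.mk 1) → ∃! s : ↥(S : Subgroup ↥(Lie.Sz F (2 ^ (m + 1)))), (s : ↥(Lie.Sz F (2 ^ (m + 1)))) • x = y := by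
  set Γ := ↥(Lie.Sz F (2 ^ (m + 1))) with hΓ
  let e : Sz F m ≃* Γ := lieEquiv hF hm
  haveI : Finite Γ := Finite.of_equiv _ e.toEquiv
  haveI : Fact (Nat.Prime 2) := ⟨Nat.prime_two⟩
  have hcard : Nat.card Γ = (2 ^ (2 * m + 1)) ^ 2 * (2 ^ (2 * m + 1) - 1) * ((2 ^ (2 * m + 1)) ^ 2 + 1) := by
    rw [← Nat.card_congr e.toEquiv, card_Sz hF hm]
    ring
  refine ⟨hcard, ?_⟩
  set S₀ : Subgroup Γ := (Usub hF hm).map e.toMonoidHom with hS₀
  have hcS : Nat.card S₀ = 2 ^ (Nat.card Γ).factorization 2 := by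
    rw [hS₀, Subgroup.card_map_of_injective e.injective, ← Nat.card_congr e.toEquiv]
    exact (uSylow hF hm).card_eq_multiplicity
  refine ⟨Sylow.ofCard S₀ hcS, ?_⟩
  rw [Sylow.coe_ofCard]
  -- the action of `Γ` on the ovoid
  letI : MulAction Γ (suzukiOvoid F m) := MulAction.compHom _ e.symm.toMonoidHom
  have hact : ∀ (g : Γ) (x : suzukiOvoid F m), g • x = (e.symm g) • x := fun _ _ => rfl
  set ω : suzukiOvoid F m := ⟨∞', inf_mem⟩ with hω
  have hN : Subgroup.normalizer ((S₀ : Subgroup Γ) : Set Γ) = MulAction.stabilizer Γ ω := by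
    ext g
    rw [MulAction.mem_stabilizer_iff, hact, ← mem_normalizer_U hF hm, Subgroup.mem_normalizer_iff, Subgroup.mem_normalizer_iff]
    have hmem : ∀ x : Γ, x ∈ S₀ ↔ e.symm x ∈ Usub hF hm := by
      intro x
      constructor
      · rintro ⟨u, hu, rfl⟩
        simpa using hu
      · intro hx
        exact ⟨_, hx, by simp⟩
    constructor
    · intro h u
      have := h (e u)
      rw [hmem, hmem] at this
      simpa using this
    · intro h u
      rw [hmem, hmem]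
      have := h (e.symm u)
      simpa using this
  have h2tr : ∀ {a b c d : suzukiOvoid F m}, a ≠ b → c ≠ d → ∃ g : Γ, g • a = c ∧ g • b = d := by
    intro a b c d hab hcd
    obtain ⟨g, h1, h2⟩ := two_trans hF hm hab hcd
    refine ⟨e g, ?_, ?_⟩
    · rw [hact, e.symm_apply_apply, h1]
    · rw [hact, e.symm_apply_apply, h2]
  have htr : ∀ x y : suzukiOvoid F m, ∃ g : Γ, g • x = y := by
    intro x y
    by_cases hxy : x = y
    · exact ⟨1, by rw [hxy, one_smul]⟩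
    · obtain ⟨g, h1, -⟩ := h2tr hxy (Ne.symm hxy)
      exact ⟨g, h1⟩
  have hreg : ∀ x y : suzukiOvoid F m, x ≠ ω → y ≠ ω → ∃! s : S₀, (s : Γ) • x = y := by
    intro x y hx hy
    obtain ⟨s, hs, huniq⟩ := reg_U hF hm x y hx hy
    refine ⟨⟨e s, ⟨s, s.2, rfl⟩⟩, ?_, ?_⟩
    · show (e.symm (e s)) • x = y
      rw [e.symm_apply_apply]
      exact hs
    · rintro ⟨t, u, hu, rfl⟩ ht
      have ht' : (u : Sz F m) • x = y := by
        have : (e.symm (e u)) • x = y := ht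
        rwa [e.symm_apply_apply] at this
      have := huniq ⟨u, hu⟩ ht'
      apply Subtype.ext
      show e u = e s
      rw [← this]
  obtain ⟨r1, r2, r3⟩ := coset_structure ω S₀ htr h2tr hreg
  rw [hN]
  have hΩ : Nat.card (suzukiOvoid F m) = (2 ^ (2 * m + 1)) ^ 2 + 1 := by
    rw [card_ovoid, hF]
  rw [hΩ] at r1
  refine ⟨?_, r1, r2, r3⟩
  have hmul := (MulAction.stabilizer Γ ω).card_mul_index
  rw [r1, hcard] at hmul
  exact Nat.eq_of_mul_eq_mul_right (by positivity) hmul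

end

end CfsgLib.Sz
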