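/-
The automorphisms of the Suzuki groups.
-/
import Cfsg.Agent.Lib.Sz.LieIso
import Cfsg.Agent.Lib.Sz.Cosets
import Cfsg.Prelude.Def_KGroupFacts

set_option autoImplicit false

namespace CfsgLib.Sz

open Matrix Cfsg
open scoped Pointwise

section

variable {F : Type*} [Field F] [Fintype F] {m : ℕ}

local notation "SL4" => Matrix.SpecialLinearGroup (Fin 4) F

local notation "θm" => (2 ^ (m + 1) : ℕ)

local notation "∞'" => suzukiPointInfinity F

variable (hF : Fintype.card F = 2 ^ (2 * m + 1)) (hm : 1 ≤ m)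

/-- Translations. -/
def sS (a b : F) : ↥(Sz F m) := ⟨S θm a b, S_mem hF a b⟩

/-- Torus elements. -/
def sM (α : Fˣ) : ↥(Sz F m) := ⟨M (2 ^ m) α, M_mem hF α⟩

/-- The involution exchanging the two base points. -/
def sT : ↥(Sz F m) := ⟨T F, T_mem hF⟩

set_option quotPrecheck false in
local notation g " ⋆ " p => (((g : ↥(Sz F m)) : Matrix.SpecialLinearGroup (Fin 4) F) • p : Projectivization F (Fin 4 → F))

include hF in
lemma act_mul (g h : ↥(Sz F m)) (p : Projectivization F (Fin 4 → F)) : ((g * h : ↥(Sz F m)) ⋆ p) = (g ⋆ (h ⋆ p)) := by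
  rw [Subgroup.coe_mul, mul_smul]

include hF hm

lemma sS_mul (a b c d : F) : sS hF a b * sS hF c d = sS hF (a + c) (b + d + a ^ θm * c) :=
  Subtype.ext (S_mul hF hm a b c d)

lemma sS_inj {a b a' b' : F} (h : sS hF a b = sS hF a' b') : a = a' ∧ b = b' :=
  S_inj hF hm (congrArg Subtype.val h)

lemma sS_zero : sS hF (0 : F) 0 = 1 := Subtype.ext (S_zero hF hm)

lemma sM_one : sM hF (1 : Fˣ) = 1 := Subtype.ext (M_one hF hm)

lemma sM_mul (α β : Fˣ) : sM hF α * sM hF β = sM hF (α * β) := Subtype.ext (M_mul hF hm α β)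

lemma sM_inv (α : Fˣ) : (sM hF α)⁻¹ = sM hF α⁻¹ := Subtype.ext (M_inv hF hm α)

lemma sM_conj (α : Fˣ) (a b : F) : sM hF α * sS hF a b * (sM hF α)⁻¹ = sS hF (α * a) ((α : F) ^ (θm + 1) * b) :=
  Subtype.ext (M_conj hF hm α a b)

lemma sT_sq : sT hF * sT hF = (1 : ↥(Sz F m)) := Subtype.ext (T_sq hF)

lemma sT_M (α : Fˣ) : sT hF * sM hF α = sM hF α⁻¹ * sT hF := Subtype.ext (T_M hF α)

omit hm in
lemma sS_P (a b x y : F) : (sS hF a b ⋆ P θm x y) = P θm (x + a) (y + a ^ θm * x + b) := S_P (ctx_of_card hF) a b x y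

omit hm in
lemma sS_inf (a b : F) : (sS hF a b ⋆ ∞') = ∞' := S_inf (ctx_of_card hF) a b

omit hm in
lemma sM_P (α : Fˣ) (x y : F) : (sM hF α ⋆ P θm x y) = P θm (α * x) ((α : F) ^ (θm + 1) * y) := M_P (ctx_of_card hF) α x y

omit hm in
lemma sM_inf (α : Fˣ) : (sM hF α ⋆ ∞') = ∞' := M_inf (ctx_of_card hF) α

omit hm in
lemma sT_inf : (sT hF ⋆ ∞') = P θm (0 : F) 0 := T_inf (ctx_of_card hF) (by positivity)

omit hm in
lemma sT_P0 : (sT hF ⋆ P θm (0 : F) 0) = ∞' := T_P0 (ctx_of_card hF) (by positivity)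

omit hm in
lemma sT_P {x y : F} (h : fo θm x y ≠ 0) : (sT hF ⋆ P θm x y) = P θm (y / fo θm x y) (x / fo θm x y) := T_P (ctx_of_card hF) h

/-- Elements fixing the point at infinity. -/
lemma stab_cases (g : ↥(Sz F m)) (h : (g ⋆ ∞') = ∞') : ∃ (a b : F) (α : Fˣ), g = sS hF a b * sM hF α := by
  obtain ⟨a, b, α, e⟩ := one_pt hF hm g.2 h
  exact ⟨a, b, α, Subtype.ext e⟩

/-- Elements fixing the two base points. -/
lemma two_cases (g : ↥(Sz F m)) (h : (g ⋆ ∞') = ∞') (h0 : (g ⋆ P θm (0 : F) 0) = P θm (0 : F) 0) : ∃ α : Fˣ, g = sM hF α := by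
  obtain ⟨α, e⟩ := two_pt hF hm g.2 h h0
  exact ⟨α, Subtype.ext e⟩

omit hm in
/-- The orbit of the point at infinity. -/
lemma orbit_cases (g : ↥(Sz F m)) : (g ⋆ ∞') = ∞' ∨ ∃ x y : F, (g ⋆ ∞') = P θm x y :=
  ovoid_cases (smul_mem_O g.2 inf_mem)

/-- The Bruhat decomposition. -/
lemma bruhat_cases (g : ↥(Sz F m)) : (g ⋆ ∞') = ∞' ∨ ∃ (x y : F) (b : ↥(Sz F m)), (b ⋆ ∞') = ∞' ∧ g = sS hF x y * sT hF * b := by
  rcases orbit_cases hF g with h | ⟨x, y, h⟩
  · exact Or.inl h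
  · right
    refine ⟨x, y, sT hF * (sS hF x y)⁻¹ * g, ?_, ?_⟩
    · have h1 : (sS hF x y ⋆ P θm (0 : F) 0) = P θm x y := by
        rw [sS_P]
        simp
      have h2 : ((sS hF x y)⁻¹ ⋆ P θm x y) = P θm (0 : F) 0 := by
        rw [← h1, ← act_mul hF, inv_mul_cancel]
        simp
      rw [act_mul hF, act_mul hF, h, h2, sT_P0]
    · have : sS hF x y * sT hF * (sT hF * (sS hF x y)⁻¹ * g) = sS hF x y * (sT hF * sT hF) * (sS hF x y)⁻¹ * g := by group
      rw [this, sT_sq hF hm]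
      group

/-- Equality from the action on the ovoid. -/
lemma sz_ext {g h : ↥(Sz F m)} (e1 : (g ⋆ ∞') = (h ⋆ ∞')) (e2 : ∀ x y : F, (g ⋆ P θm x y) = (h ⋆ P θm x y)) : g = h :=
  Subtype.ext (Sz_ext hF hm g.2 h.2 e1 e2)

lemma pow_inj {a b : F} (h : a ^ (θm + 1) = b ^ (θm + 1)) : a = b := by
  have hs := pow_succ_surj hF hm
  have hi : Function.Injective (fun a : F => a ^ (θm + 1)) := Finite.injective_iff_surjective.2 hs
  exact hi h

/-- The torus fixes only the two base points. -/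
lemma fix_M {α : Fˣ} (hα : α ≠ 1) {x y : F} (h : (sM hF α ⋆ P θm x y) = P θm x y) : x = 0 ∧ y = 0 := by
  rw [sM_P] at h
  obtain ⟨h1, h2⟩ := P_inj h
  have hα' : (α : F) ≠ 1 := fun e => hα (Units.ext e)
  have hx : x = 0 := by
    have : ((α : F) - 1) * x = 0 := by rw [sub_mul, h1]; ring
    exact (mul_eq_zero.1 this).resolve_left (sub_ne_zero.2 hα')
  have hpow : (α : F) ^ (θm + 1) ≠ 1 := by
    intro e
    apply hα'
    apply pow_inj hF hm
    rw [e, one_pow]
  have hy : y = 0 := by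
    have : ((α : F) ^ (θm + 1) - 1) * y = 0 := by rw [sub_mul, h2]; ring
    exact (mul_eq_zero.1 this).resolve_left (sub_ne_zero.2 hpow)
  exact ⟨hx, hy⟩

/-- An automorphism fixing the torus and preserving the first coordinate is trivial. -/
theorem eq_one_of_fix_BM (ψ : ↥(Sz F m) ≃* ↥(Sz F m)) (hMf : ∀ α, ψ (sM hF α) = sM hF α)
    (hSf : ∀ a b : F, ∃ c, ψ (sS hF a b) = sS hF a c) : ψ = MulEquiv.refl _ := by
  classical
  have C := ctx_of_card hF
  have h2 : (2 : F) = 0 := C.two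
  have hadd2 : ∀ x : F, x + x = 0 := add_self C
  choose C₀ hC₀ using hSf
  have hmul : ∀ a b c d : F, C₀ (a + c) (b + d + a ^ θm * c) = C₀ a b + C₀ c d + a ^ θm * c := by
    intro a b c d
    have e := congrArg ψ (sS_mul hF hm a b c d)
    rw [map_mul, hC₀, hC₀, hC₀, sS_mul hF hm] at e
    exact (sS_inj hF hm e).2.symm
  have hconj : ∀ (α : Fˣ) (a b : F), C₀ (α * a) ((α : F) ^ (θm + 1) * b) = (α : F) ^ (θm + 1) * C₀ a b := by
    intro α a b
    have e := congrArg ψ (sM_conj hF hm α a b)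
    rw [map_mul, map_mul, map_inv, hMf, hC₀, hC₀, sM_conj hF hm] at e
    exact (sS_inj hF hm e).2.symm
  have hθ0 : (0 : F) ^ θm = 0 := zero_pow (by positivity)
  -- the centre
  have hβadd : ∀ b d : F, C₀ 0 (b + d) = C₀ 0 b + C₀ 0 d := by
    intro b d
    have := hmul 0 b 0 d
    simpa [hθ0] using this
  have hβ0 : C₀ 0 0 = 0 := by
    have := hβadd 0 0
    rw [add_zero] at this
    have h3 : C₀ 0 0 + C₀ 0 0 = 0 := hadd2 _
    rw [← this] at h3
    exact h3
  have hβ1 : C₀ 0 1 = 1 := by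
    have e1 : sS hF (1 : F) 0 * sS hF (1 : F) 0 = sS hF (0 : F) 1 := by
      rw [sS_mul hF hm, hadd2]
      simp
    have e := congrArg ψ e1
    rw [map_mul, hC₀, hC₀, sS_mul hF hm, hadd2, hadd2, one_pow, mul_one, zero_add] at e
    exact (sS_inj hF hm e).2.symm
  have hβ : ∀ b : F, C₀ 0 b = b := by
    intro b
    by_cases hb : b = 0
    · rw [hb, hβ0]
    · obtain ⟨a, ha⟩ := pow_succ_surj hF hm b
      have ha' : a ≠ 0 := by
        rintro rfl
        apply hb
        rw [← ha]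
        simp
      have e := hconj (Units.mk0 a ha') 0 1
      simp only [Units.val_mk0, mul_zero, mul_one, hβ1] at e
      simp only at ha
      rw [ha] at e
      exact e
  have hC : ∀ a b : F, C₀ a b = C₀ a 0 + b := by
    intro a b
    have := hmul a 0 0 b
    simp only [add_zero, zero_add, mul_zero, hβ] at this
    exact this
  have hγadd : ∀ a c : F, C₀ (a + c) 0 = C₀ a 0 + C₀ c 0 := by
    intro a c
    have e := hmul a 0 c 0
    rw [add_zero, hC (a + c), zero_add] at e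
    exact add_right_cancel e
  have hγmul : ∀ (α : Fˣ) (a : F), C₀ (α * a) 0 = (α : F) ^ (θm + 1) * C₀ a 0 := by
    intro α a
    have := hconj α a 0
    simpa using this
  have hγ1 : C₀ 1 0 = 0 := by
    by_contra hne
    obtain ⟨t, ht⟩ := exists_pow_ne hF hm
    have hform : ∀ a : F, C₀ a 0 = a ^ (θm + 1) * C₀ 1 0 := by
      intro a
      by_cases ha : a = 0
      · subst ha
        have := hγadd 0 0
        rw [add_zero] at this
        have h3 : C₀ 0 0 + C₀ 0 0 = 0 := hadd2 _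
        rw [← this] at h3
        rw [h3]
        simp
      · have := hγmul (Units.mk0 a ha) 1
        simpa using this
    have e := hγadd t 1
    rw [hform (t + 1), hform t] at e
    have e2 : (t + 1) ^ (θm + 1) = t ^ (θm + 1) + 1 := by
      apply mul_right_cancel₀ hne
      rw [e]
      ring
    rw [pow_succ, C.add, one_pow] at e2
    apply ht
    have e3 : t ^ θm + t = 0 := by linear_combination e2
    linear_combination e3 - hadd2 t
  have hγ : ∀ a : F, C₀ a 0 = 0 := by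
    intro a
    by_cases ha : a = 0
    · subst ha
      exact hβ0
    · have := hγmul (Units.mk0 a ha) 1
      simp only [Units.val_mk0, mul_one, hγ1, mul_zero] at this
      exact this
  have hS : ∀ a b : F, ψ (sS hF a b) = sS hF a b := by
    intro a b
    rw [hC₀, hC, hγ, zero_add]
  have hstab : ∀ g : ↥(Sz F m), (g ⋆ ∞') = ∞' → ψ g = g := by
    intro g hg
    obtain ⟨a, b, α, rfl⟩ := stab_cases hF hm g hg
    rw [map_mul, hS, hMf]
  -- the image of the involution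
  obtain ⟨α₀, hα₀⟩ := exists_unit_ne_one hF hm
  set t' := ψ (sT hF) with ht'
  have hrel : t' * sM hF α₀ = sM hF α₀⁻¹ * t' := by
    have e := congrArg ψ (sT_M hF hm α₀)
    rw [map_mul, map_mul, hMf, hMf] at e
    exact e
  have hα₀' : α₀⁻¹ ≠ 1 := by
    intro e
    exact hα₀ (inv_eq_one.1 e)
  -- points fixed by the torus go to points fixed by the torus
  have hpts : ∀ p : Projectivization F (Fin 4 → F), p ∈ suzukiOvoid F m → (sM hF α₀ ⋆ p) = p → (t' ⋆ p) = ∞' ∨ (t' ⋆ p) = P θm (0 : F) 0 := by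
    intro p hp hfix
    have e1 : (sM hF α₀⁻¹ ⋆ (t' ⋆ p)) = (t' ⋆ p) := by
      rw [← act_mul hF, ← hrel, act_mul hF, hfix]
    rcases ovoid_cases (smul_mem_O t'.2 hp) with h | ⟨x, y, h⟩
    · exact Or.inl h
    · right
      rw [h] at e1 ⊢
      obtain ⟨hx, hy⟩ := fix_M hF hm hα₀' e1
      rw [hx, hy]
  have ht1 : (t' ⋆ ∞') = P θm (0 : F) 0 := by
    rcases hpts ∞' inf_mem (sM_inf hF α₀) with h | h
    · exfalso
      have e : ψ t' = t' := hstab t' h
      have e2 : t' = sT hF := ψ.injective e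
      rw [e2, sT_inf] at h
      exact P_ne_inf _ _ h
    · exact h
  have ht2 : (t' ⋆ P θm (0 : F) 0) = ∞' := by
    have hfix : (sM hF α₀ ⋆ P θm (0 : F) 0) = P θm (0 : F) 0 := by
      rw [sM_P]
      simp
    rcases hpts _ (P_mem _ _) hfix with h | h
    · exact h
    · exfalso
      have h' : (t' ⋆ P θm (0 : F) 0) = (t' ⋆ ∞') := h.trans ht1.symm
      have h3 := smul_left_cancel _ h'
      exact P_ne_inf _ _ h3
  obtain ⟨γ, hγ'⟩ := two_cases hF hm (sT hF * t') (by rw [act_mul hF, ht1, sT_P0]) (by rw [act_mul hF, ht2, sT_inf])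
  have ht3 : t' = sT hF * sM hF γ := by
    rw [← hγ', ← mul_assoc, sT_sq hF hm, one_mul]
  -- the relation
  set g := sT hF * sS hF (1 : F) 0 * sT hF with hg
  have hfo : fo θm (1 : F) 0 = 1 := by
    simp [fo, hθ0]
  have hgInf : (g ⋆ ∞') = P θm (0 : F) 1 := by
    have h1 : (sS hF (1 : F) 0 ⋆ P θm (0 : F) 0) = P θm (1 : F) 0 := by
      rw [sS_P]
      simp
    rw [hg, act_mul hF, act_mul hF, sT_inf, h1, sT_P hF (by rw [hfo]; exact one_ne_zero)]
    simp [hfo]
  set b₁ := sS hF (0 : F) 1 with hb₁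
  have hb₁P : (b₁ ⋆ P θm (0 : F) 0) = P θm (0 : F) 1 := by
    rw [hb₁, sS_P]
    simp
  set b₂ := sT hF * b₁⁻¹ * g with hb₂
  have hb₂Inf : (b₂ ⋆ ∞') = ∞' := by
    have e : (b₁⁻¹ ⋆ P θm (0 : F) 1) = P θm (0 : F) 0 := by
      rw [← hb₁P, ← act_mul hF, inv_mul_cancel]
      simp
    rw [hb₂, act_mul hF, act_mul hF, hgInf, e, sT_P0]
  have hgeq : g = b₁ * sT hF * b₂ := by
    have : b₁ * sT hF * (sT hF * b₁⁻¹ * g) = b₁ * (sT hF * sT hF) * b₁⁻¹ * g := by group
    rw [hb₂, this, sT_sq hF hm]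
    group
  have hψg1 : ψ g = b₁ * t' * b₂ := by
    conv_lhs => rw [hgeq]
    rw [map_mul, map_mul, hb₁, hS, hstab b₂ hb₂Inf]
  have hψg2 : ψ g = t' * sS hF (1 : F) 0 * t' := by
    rw [hg, map_mul, map_mul, hS]
  have hγne : (γ : F) ≠ 0 := γ.ne_zero
  have hfoγ : fo θm (γ : F) 0 = (γ : F) ^ (θm + 2) := by
    simp [fo, hθ0]
  have e1 : (ψ g ⋆ ∞') = P θm (0 : F) 1 := by
    rw [hψg1, act_mul hF, act_mul hF, hb₂Inf, ht1, hb₁P]
  have e2 : (ψ g ⋆ ∞') = P θm (0 : F) ((γ : F) / (γ : F) ^ (θm + 2)) := by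
    rw [hψg2, act_mul hF, act_mul hF, ht1, sS_P, ht3, act_mul hF, sM_P, sT_P]
    · simp only [zero_add, mul_zero, add_zero, mul_one, hθ0, hfoγ, zero_div]
    · simp only [zero_add, mul_zero, add_zero, mul_one, hθ0, hfoγ]
      exact pow_ne_zero _ hγne
  rw [e1] at e2
  have e3 := (P_inj e2).2
  have hγ1 : γ = 1 := by
    apply Units.ext
    have e4 : (γ : F) ^ (θm + 1) = 1 := by
      have h5 : (γ : F) ^ (θm + 2) = (γ : F) := by
        field_simp at e3
        exact e3.symm ▸ rfl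
      rw [pow_succ] at h5
      exact mul_right_cancel₀ hγne (by rw [h5, one_mul])
    apply pow_inj hF hm
    rw [e4, Units.val_one, one_pow]
  have ht4 : ψ (sT hF) = sT hF := by
    rw [← ht', ht3, hγ1, sM_one hF hm, mul_one]
  refine MulEquiv.ext fun g' => ?_
  show ψ g' = g'
  rcases bruhat_cases hF hm g' with h | ⟨x, y, b, hb, rfl⟩
  · exact hstab g' h
  · rw [map_mul, map_mul, hS, ht4, hstab b hb]

end

end CfsgLib.Sz
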