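/-
The automorphisms of the Suzuki groups, second part.
-/
import Cfsg.Agent.Lib.Sz.Aut

set_option autoImplicit false

namespace CfsgLib.Sz

open Matrix Cfsg
open scoped Pointwise

section

variable {F : Type*} [Field F] [Fintype F] {m : ℕ}

local notation "SL4" => Matrix.SpecialLinearGroup (Fin 4) F

local notation "θm" => (2 ^ (m + 1) : ℕ)

local notation "∞'" => suzukiPointInfinity F

variable (hF : Fintype.card F = 2 ^ (2 * m + 1)) (hm : 1 ≤ m)

set_option quotPrecheck false in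
local notation g " ⋆ " p => (((g : ↥(Sz F m)) : Matrix.SpecialLinearGroup (Fin 4) F) • p : Projectivization F (Fin 4 → F))

omit [Fintype F] in
lemma card_gal_aux [Fintype F] (p f : ℕ) [Fact p.Prime] [CharP F p] (hF : Fintype.card F = p ^ f) : Nat.card (F ≃+* F) = f := by
  haveI : Algebra (ZMod p) F := ZMod.algebra F p
  have hRE : Nat.card (F ≃+* F) = Nat.card (F ≃ₐ[ZMod p] F) := by
    apply Nat.card_congr
    refine ⟨fun σ => AlgEquiv.ofRingEquiv (f := σ) (fun r => ?_), fun σ => σ.toRingEquiv, fun σ => ?_, fun σ => ?_⟩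
    · have e : (σ : F →+* F).comp (algebraMap (ZMod p) F) = algebraMap (ZMod p) F := Subsingleton.elim _ _
      exact congrArg (fun z : ZMod p →+* F => z r) e
    · ext x
      rfl
    · ext x
      rfl
  rw [hRE]
  haveI : FiniteDimensional (ZMod p) F := inferInstance
  rw [IsGalois.card_aut_eq_finrank]
  have h1 := Module.card_eq_pow_finrank (K := ZMod p) (V := F)
  rw [hF, ZMod.card] at h1
  exact (Nat.pow_right_injective (Fact.out : p.Prime).two_le h1).symm

omit [Fintype F] in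
lemma map_S (σ : F ≃+* F) (θ : ℕ) (a b : F) : Matrix.SpecialLinearGroup.map (σ : F →+* F) (S θ a b) = S θ (σ a) (σ b) := by
  apply Subtype.ext
  rw [Matrix.SpecialLinearGroup.map_apply_coe]
  ext i j
  fin_cases i <;> fin_cases j <;> simp [S, smat]

omit [Fintype F] in
lemma map_M (σ : F ≃+* F) (r : ℕ) (α : Fˣ) : Matrix.SpecialLinearGroup.map (σ : F →+* F) (M r α) = M r (Units.map (σ : F →* F) α) := by
  apply Subtype.ext
  rw [Matrix.SpecialLinearGroup.map_apply_coe]
  ext i j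
  fin_cases i <;> fin_cases j <;> simp [M, mmat]

omit [Fintype F] in
lemma map_T (σ : F ≃+* F) : Matrix.SpecialLinearGroup.map (σ : F →+* F) (T F) = T F := by
  apply Subtype.ext
  rw [Matrix.SpecialLinearGroup.map_apply_coe]
  ext i j
  fin_cases i <;> fin_cases j <;> simp [T, suzukiForm]

include hF hm

lemma map_mem (σ : F ≃+* F) (g : ↥(Sz F m)) : Matrix.SpecialLinearGroup.map (σ : F →+* F) (g : SL4) ∈ Sz F m := by
  have hstab : ∀ g : ↥(Sz F m), (g ⋆ ∞') = ∞' → Matrix.SpecialLinearGroup.map (σ : F →+* F) (g : SL4) ∈ Sz F m := by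
    intro g hg
    obtain ⟨a, b, α, rfl⟩ := stab_cases hF hm g hg
    rw [Subgroup.coe_mul, map_mul]
    exact Subgroup.mul_mem _ (by rw [show ((sS hF a b : ↥(Sz F m)) : SL4) = S θm a b from rfl, map_S]; exact S_mem hF _ _)
      (by rw [show ((sM hF α : ↥(Sz F m)) : SL4) = M (2 ^ m) α from rfl, map_M]; exact M_mem hF _)
  rcases bruhat_cases hF hm g with h | ⟨x, y, b, hb, rfl⟩
  · exact hstab g h
  · rw [Subgroup.coe_mul, Subgroup.coe_mul, map_mul, map_mul]
    refine Subgroup.mul_mem _ (Subgroup.mul_mem _ ?_ ?_) (hstab b hb)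
    · rw [show ((sS hF x y : ↥(Sz F m)) : SL4) = S θm x y from rfl, map_S]
      exact S_mem hF _ _
    · rw [show ((sT hF : ↥(Sz F m)) : SL4) = T F from rfl, map_T]
      exact T_mem hF

/-- The field automorphism of the Suzuki group. -/
noncomputable def fA (σ : F ≃+* F) : ↥(Sz F m) ≃* ↥(Sz F m) where
  toFun g := ⟨Matrix.SpecialLinearGroup.map (σ : F →+* F) (g : SL4), map_mem hF hm σ g⟩
  invFun g := ⟨Matrix.SpecialLinearGroup.map (σ.symm : F →+* F) (g : SL4), map_mem hF hm σ.symm g⟩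
  left_inv g := by
    apply Subtype.ext
    apply Subtype.ext
    ext i j
    simp [Matrix.SpecialLinearGroup.map_apply_coe]
  right_inv g := by
    apply Subtype.ext
    apply Subtype.ext
    ext i j
    simp [Matrix.SpecialLinearGroup.map_apply_coe]
  map_mul' g h := by
    apply Subtype.ext
    simp

lemma fA_S (σ : F ≃+* F) (a b : F) : fA hF hm σ (sS hF a b) = sS hF (σ a) (σ b) :=
  Subtype.ext (map_S σ _ a b)

lemma fA_M (σ : F ≃+* F) (α : Fˣ) : fA hF hm σ (sM hF α) = sM hF (Units.map (σ : F →* F) α) :=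
  Subtype.ext (map_M σ _ α)

lemma fA_T (σ : F ≃+* F) : fA hF hm σ (sT hF) = sT hF :=
  Subtype.ext (map_T σ)

lemma fA_val (σ : F ≃+* F) (g : ↥(Sz F m)) : ((fA hF hm σ g : ↥(Sz F m)) : SL4) = Matrix.SpecialLinearGroup.map (σ : F →+* F) (g : SL4) := rfl

/-- Composition of field automorphisms. -/
lemma fA_symm_mul (σ τ : F ≃+* F) : (fA hF hm τ)⁻¹ * fA hF hm σ = fA hF hm (σ.trans τ.symm) := by
  refine MulEquiv.ext fun g => ?_
  apply Subtype.ext
  apply Subtype.ext
  ext i j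
  show (Matrix.SpecialLinearGroup.map (τ.symm : F →+* F) (Matrix.SpecialLinearGroup.map (σ : F →+* F) (g : SL4)) : Matrix (Fin 4) (Fin 4) F) i j = (Matrix.SpecialLinearGroup.map ((σ.trans τ.symm : F ≃+* F) : F →+* F) (g : SL4) : Matrix (Fin 4) (Fin 4) F) i j
  simp [Matrix.SpecialLinearGroup.map_apply_coe]

lemma sM_eq_S {α : Fˣ} {c d : F} (h : sM hF α = sS hF c d) : α = 1 := by
  have e1 : (sM hF α ⋆ P θm (0 : F) 0) = P θm (0 : F) 0 := by
    rw [sM_P]
    simp
  have e2 : (sS hF c d ⋆ P θm (0 : F) 0) = P θm c d := by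
    rw [sS_P]
    simp
  rw [h, e2] at e1
  obtain ⟨rfl, rfl⟩ := P_inj e1
  rw [sS_zero hF hm] at h
  have e3 : (sM hF α ⋆ P θm (1 : F) 0) = P θm (α : F) 0 := by
    rw [sM_P]
    simp
  rw [h] at e3
  have e4 := (P_inj (show P θm (1 : F) 0 = P θm (α : F) 0 from by simpa using e3)).1
  exact Units.ext e4.symm

lemma sM_inj {α β : Fˣ} (h : sM hF α = sM hF β) : α = β := by
  have e : sM hF (α * β⁻¹) = sS hF (0 : F) 0 := by
    rw [← sM_mul hF hm, ← sM_inv hF hm, h, mul_inv_cancel, sS_zero hF hm]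
  have := sM_eq_S hF hm e
  exact mul_inv_eq_one.1 this

lemma mem_Q (g : ↥(Sz F m)) : g ∈ Usub hF hm ↔ ∃ a b : F, g = sS hF a b := by
  constructor
  · rintro ⟨a, b, h⟩
    exact ⟨a, b, Subtype.ext h⟩
  · rintro ⟨a, b, rfl⟩
    exact ⟨a, b, rfl⟩

lemma sS_mem_Q (a b : F) : sS hF a b ∈ Usub hF hm := (mem_Q hF hm _).2 ⟨a, b, rfl⟩

/-- A criterion for the stabiliser. -/
lemma fix_inf_iff (g : ↥(Sz F m)) : (g ⋆ ∞') = ∞' ↔ g ∈ Subgroup.normalizer ((Usub hF hm : Subgroup (Sz F m)) : Set (Sz F m)) := by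
  rw [mem_normalizer_U hF hm]
  constructor
  · intro h
    exact Subtype.ext h
  · intro h
    exact congrArg Subtype.val h

/-- An automorphism preserving `Q`. -/
def PQ (ψ : ↥(Sz F m) ≃* ↥(Sz F m)) : Prop := ∀ g, g ∈ Usub hF hm ↔ ψ g ∈ Usub hF hm

omit [Fintype F] [Field F] in
omit hF hm in
lemma conj_aux {G : Type*} [Group G] [Finite G] {p : ℕ} [Fact p.Prime] (P : Sylow p G) (Q : Subgroup G)
    (hQ : Nat.card Q = Nat.card P) : ∃ g : G, ∀ y, y ∈ Q ↔ g⁻¹ * y * g ∈ (P : Subgroup G) := by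
  have hcard : Nat.card Q = p ^ (Nat.card G).factorization p := by
    rw [hQ]
    exact P.card_eq_multiplicity
  let Q' : Sylow p G := Sylow.ofCard Q hcard
  have hQ' : (Q' : Subgroup G) = Q := Sylow.coe_ofCard Q hcard
  obtain ⟨g, hg⟩ := MulAction.exists_smul_eq G P Q'
  refine ⟨g, fun y => ?_⟩
  rw [← hQ', ← hg, Sylow.coe_subgroup_smul, Subgroup.mem_pointwise_smul_iff_inv_smul_mem]
  simp [MulAut.conj_apply]

/-- Every automorphism moves `Q` to `Q` after an inner automorphism. -/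
lemma exists_PQ (φ : ↥(Sz F m) ≃* ↥(Sz F m)) : ∃ x : ↥(Sz F m), PQ hF hm (φ.trans (MulAut.conj x⁻¹)) := by
  haveI : Finite ↥(Sz F m) := finite_Sz
  haveI : Fact (Nat.Prime 2) := ⟨Nat.prime_two⟩
  obtain ⟨x, hx⟩ := conj_aux (uSylow hF hm) ((Usub hF hm).map φ.toMonoidHom) (by
    rw [Subgroup.card_map_of_injective φ.injective, uSylow_coe])
  refine ⟨x, fun g => ?_⟩
  have h1 := hx (φ g)
  rw [uSylow_coe] at h1
  have h2 : φ g ∈ (Usub hF hm).map φ.toMonoidHom ↔ g ∈ Usub hF hm := by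
    constructor
    · rintro ⟨z, hz, e⟩
      rwa [← φ.injective e]
    · intro h
      exact ⟨g, h, rfl⟩
  rw [h2] at h1
  rw [h1]
  simp [MulAut.conj_apply]

/-- `ψ` preserving `Q` preserves the stabiliser of the point at infinity. -/
lemma PQ.stab {ψ : ↥(Sz F m) ≃* ↥(Sz F m)} (h : PQ hF hm ψ) {g : ↥(Sz F m)} (hg : (g ⋆ ∞') = ∞') : (ψ g ⋆ ∞') = ∞' := by
  rw [fix_inf_iff hF hm] at hg ⊢
  rw [Subgroup.mem_normalizer_iff] at hg ⊢
  intro u
  have hu : u = ψ (ψ.symm u) := by simp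
  conv_lhs => rw [hu, ← h]
  rw [hg, h]
  simp [map_mul, map_inv]

lemma PQ.symm {ψ : ↥(Sz F m) ≃* ↥(Sz F m)} (h : PQ hF hm ψ) : PQ hF hm ψ.symm := by
  intro g
  rw [h (ψ.symm g)]
  simp

/-- The normal form on the torus. -/
lemma exists_torus_form {ψ : ↥(Sz F m) ≃* ↥(Sz F m)} (h : PQ hF hm ψ) {α₀ : Fˣ} (hα₀ : α₀ ≠ 1) :
    ∃ (w : ↥(Sz F m)) (γ : Fˣ), w ∈ Usub hF hm ∧ w⁻¹ * ψ (sM hF α₀) * w = sM hF γ := by
  have C := ctx_of_card (m := m) hF
  have h2 : (2 : F) = 0 := C.two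
  have hk : (ψ (sM hF α₀) ⋆ ∞') = ∞' := h.stab hF hm (sM_inf hF α₀)
  obtain ⟨a, b, β, hab⟩ := stab_cases hF hm _ hk
  have hβ : β ≠ 1 := by
    rintro rfl
    rw [sM_one hF hm, mul_one] at hab
    have h1 : ψ (sM hF α₀) ∈ Usub hF hm := by
      rw [hab]
      exact sS_mem_Q hF hm _ _
    rw [← h, mem_Q] at h1
    obtain ⟨c, d, hcd⟩ := h1
    exact hα₀ (sM_eq_S hF hm hcd)
  have hβ' : (β : F) ≠ 1 := fun e => hβ (Units.ext e)
  have hD : 1 + (β : F) ≠ 0 := by
    intro e
    apply hβ'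
    linear_combination e - h2
  have hE : 1 + (β : F) ^ (θm + 1) ≠ 0 := by
    intro e
    apply hβ'
    apply pow_inj hF hm
    rw [one_pow]
    linear_combination e - h2
  set x : F := a / (1 + (β : F)) with hx
  set y : F := (a ^ θm * ((β : F) * x) + b) / (1 + (β : F) ^ (θm + 1)) with hy
  have hx' : x * (1 + (β : F)) = a := by
    rw [hx]
    field_simp
  have hy' : y * (1 + (β : F) ^ (θm + 1)) = a ^ θm * ((β : F) * x) + b := by
    rw [hy]
    field_simp
  have hfix : (ψ (sM hF α₀) ⋆ P θm x y) = P θm x y := by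
    rw [hab, act_mul hF, sM_P, sS_P]
    have e1 : (β : F) * x + a = x := by
      linear_combination (-1) * hx' + ((β : F) * x) * h2
    have e2 : (β : F) ^ (θm + 1) * y + a ^ θm * ((β : F) * x) + b = y := by
      linear_combination (-1) * hy' + ((β : F) ^ (θm + 1) * y) * h2
    rw [e1, e2]
  have hw0 : (sS hF x y ⋆ P θm (0 : F) 0) = P θm x y := by
    rw [sS_P]
    simp
  have hw1 : ((sS hF x y)⁻¹ ⋆ P θm x y) = P θm (0 : F) 0 := by
    rw [← hw0, ← act_mul hF, inv_mul_cancel]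
    simp
  have hw2 : ((sS hF x y)⁻¹ ⋆ ∞') = ∞' := by
    have e := sS_inf hF x y
    conv_lhs => rw [← e]
    rw [← act_mul hF, inv_mul_cancel]
    simp
  obtain ⟨γ, hγ⟩ := two_cases hF hm ((sS hF x y)⁻¹ * ψ (sM hF α₀) * sS hF x y)
    (by rw [act_mul hF, act_mul hF, sS_inf, hk, hw2])
    (by rw [act_mul hF, act_mul hF, hw0, hfix, hw1])
  exact ⟨sS hF x y, γ, sS_mem_Q hF hm _ _, hγ⟩

/-- Once one torus element goes to the torus, all of them do. -/
lemma torus_all {ψ : ↥(Sz F m) ≃* ↥(Sz F m)} (h : PQ hF hm ψ) {α₀ γ : Fˣ} (hα₀ : α₀ ≠ 1) (hγ : ψ (sM hF α₀) = sM hF γ) (α : Fˣ) :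
    ∃ β : Fˣ, ψ (sM hF α) = sM hF β := by
  have hγ1 : γ ≠ 1 := by
    rintro rfl
    rw [sM_one hF hm] at hγ
    have : sM hF α₀ = 1 := ψ.injective (by rw [hγ, map_one])
    rw [← sM_one hF hm] at this
    exact hα₀ (sM_inj hF hm this)
  set k := ψ (sM hF α) with hk
  have hkinf : (k ⋆ ∞') = ∞' := h.stab hF hm (sM_inf hF α)
  have hcomm : k * sM hF γ = sM hF γ * k := by
    rw [← hγ, hk, ← map_mul, ← map_mul, sM_mul hF hm, sM_mul hF hm, mul_comm]
  have hk0 : (k ⋆ P θm (0 : F) 0) = P θm (0 : F) 0 := by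
    rcases ovoid_cases (smul_mem_O k.2 (P_mem (m := m) (0 : F) 0)) with h1 | ⟨x, y, h1⟩
    · exfalso
      have h' : (k ⋆ P θm (0 : F) 0) = (k ⋆ ∞') := h1.trans hkinf.symm
      have h3 := smul_left_cancel _ h'
      exact P_ne_inf _ _ h3
    · have e1 : (sM hF γ ⋆ P θm x y) = P θm x y := by
        rw [← h1, ← act_mul hF, ← hcomm, act_mul hF]
        have : (sM hF γ ⋆ P θm (0 : F) 0) = P θm (0 : F) 0 := by
          rw [sM_P]
          simp
        rw [this]
      obtain ⟨hx, hy⟩ := fix_M hF hm hγ1 e1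
      rw [h1, hx, hy]
  exact two_cases hF hm k hkinf hk0

/-- The image of a central element is central. -/
lemma central_image {ψ : ↥(Sz F m) ≃* ↥(Sz F m)} (h : PQ hF hm ψ) (b : F) : ∃ b' : F, ψ (sS hF 0 b) = sS hF 0 b' := by
  have C := ctx_of_card (m := m) hF
  obtain ⟨a', b', e⟩ := (mem_Q hF hm _).1 ((h _).1 (sS_mem_Q hF hm 0 b))
  have hθ0 : (0 : F) ^ θm = 0 := zero_pow (by positivity)
  have hcomm : ∀ c d : F, sS hF a' b' * sS hF c d = sS hF c d * sS hF a' b' := by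
    intro c d
    have h1 : ψ.symm (sS hF c d) ∈ Usub hF hm := (h.symm hF hm _).1 (sS_mem_Q hF hm c d)
    obtain ⟨e', f', h3⟩ := (mem_Q hF hm _).1 h1
    have h4 : sS hF c d = ψ (sS hF e' f') := by
      rw [← h3]
      simp
    rw [h4, ← e, ← map_mul, ← map_mul, sS_mul hF hm, sS_mul hF hm]
    congr 2
    · ring
    · rw [hθ0]
      ring
  have key : ∀ c : F, a' ^ θm * c = c ^ θm * a' := by
    intro c
    have e1 := hcomm c 0
    rw [sS_mul hF hm, sS_mul hF hm] at e1
    have e2 := (sS_inj hF hm e1).2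
    linear_combination e2
  by_cases ha : a' = 0
  · subst ha
    exact ⟨b', e⟩
  · exfalso
    obtain ⟨t, ht⟩ := exists_pow_ne hF hm
    apply ht
    have e1 := key (a' * t)
    rw [mul_pow] at e1
    have hne : a' ^ θm * a' ≠ 0 := mul_ne_zero (pow_ne_zero _ ha) ha
    apply mul_left_cancel₀ hne
    linear_combination -e1

/-- The structure on `Q` of an automorphism normalising the torus. -/
lemma exists_field {ψ : ↥(Sz F m) ≃* ↥(Sz F m)} (h : PQ hF hm ψ) {f : Fˣ → Fˣ} (hf : ∀ α, ψ (sM hF α) = sM hF (f α)) :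
    ∃ (c : Fˣ) (σ : F ≃+* F), (∀ a b : F, ∃ d : F, ψ (sS hF a b) = sS hF ((c : F) * σ a) d) ∧ ∀ α : Fˣ, ((f α : Fˣ) : F) = σ (α : F) := by
  classical
  have C := ctx_of_card (m := m) hF
  have hQ : ∀ a b : F, ∃ a' b' : F, ψ (sS hF a b) = sS hF a' b' := fun a b => (mem_Q hF hm _).1 ((h _).1 (sS_mem_Q hF hm a b))
  choose A B hAB using hQ
  have hmulA : ∀ a b c d : F, A (a + c) (b + d + a ^ θm * c) = A a b + A c d := by
    intro a b c d
    have e := congrArg ψ (sS_mul hF hm a b c d)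
    rw [map_mul, hAB, hAB, hAB, sS_mul hF hm] at e
    exact (sS_inj hF hm e).1.symm
  have hconjA : ∀ (α : Fˣ) (a b : F), A (α * a) ((α : F) ^ (θm + 1) * b) = (f α : F) * A a b := by
    intro α a b
    have e := congrArg ψ (sM_conj hF hm α a b)
    rw [map_mul, map_mul, map_inv, hf, hAB, hAB, sM_conj hF hm] at e
    exact (sS_inj hF hm e).1.symm
  have hA0 : ∀ b : F, A 0 b = 0 := by
    intro b
    obtain ⟨b', e⟩ := central_image hF hm h b
    rw [hAB] at e
    exact (sS_inj hF hm e).1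
  have hAb : ∀ a b : F, A a b = A a 0 := by
    intro a b
    have := hmulA a 0 0 b
    simp only [add_zero, zero_add, mul_zero, hA0] at this
    exact this
  have hAadd : ∀ a c : F, A (a + c) 0 = A a 0 + A c 0 := by
    intro a c
    have := hmulA a 0 c 0
    rw [hAb (a + c)] at this
    exact this
  have hAmul : ∀ (α : Fˣ) (a : F), A (α * a) 0 = (f α : F) * A a 0 := by
    intro α a
    have := hconjA α a 0
    rwa [mul_zero] at this
  have hc : A 1 0 ≠ 0 := by
    intro h0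
    have hall : ∀ a b : F, A a b = 0 := by
      intro a b
      rw [hAb]
      by_cases ha : a = 0
      · subst ha
        exact hA0 0
      · have := hAmul (Units.mk0 a ha) 1
        simpa [h0] using this
    have h1 : ψ.symm (sS hF (1 : F) 0) ∈ Usub hF hm := (h.symm hF hm _).1 (sS_mem_Q hF hm 1 0)
    obtain ⟨e', f', h3⟩ := (mem_Q hF hm _).1 h1
    have h4 : sS hF (1 : F) 0 = ψ (sS hF e' f') := by
      rw [← h3]
      simp
    rw [hAB, hall] at h4
    exact one_ne_zero (sS_inj hF hm h4).1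
  set c : F := A 1 0 with hc'
  let σ₀ : F →+* F :=
    { toFun := fun a => c⁻¹ * A a 0
      map_one' := inv_mul_cancel₀ hc
      map_zero' := by simp [hA0]
      map_add' := by
        intro a b
        simp only [hAadd]
        ring
      map_mul' := by
        intro a b
        by_cases ha : a = 0
        · subst ha
          simp [hA0]
        · have e1 := hAmul (Units.mk0 a ha) b
          have e2 := hAmul (Units.mk0 a ha) 1
          simp only [Units.val_mk0, mul_one] at e1 e2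
          rw [e1, e2, ← hc']
          field_simp }
  have hσ₀ : ∀ a, σ₀ a = c⁻¹ * A a 0 := fun a => rfl
  have hbij : Function.Bijective σ₀ := by
    have hi : Function.Injective σ₀ := σ₀.injective
    exact ⟨hi, Finite.injective_iff_surjective.1 hi⟩
  refine ⟨Units.mk0 c hc, RingEquiv.ofBijective σ₀ hbij, ?_, ?_⟩
  · intro a b
    refine ⟨B a b, ?_⟩
    rw [hAB, hAb]
    show sS hF (A a 0) (B a b) = sS hF (c * (c⁻¹ * A a 0)) (B a b)
    rw [mul_inv_cancel_left₀ hc]
  · intro α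
    show (f α : F) = c⁻¹ * A (α : F) 0
    have e := hAmul α 1
    rw [mul_one, ← hc'] at e
    rw [e]
    field_simp

/-- The description of all automorphisms. -/
theorem aut_decomp (φ : ↥(Sz F m) ≃* ↥(Sz F m)) : ∃ (x : ↥(Sz F m)) (σ : F ≃+* F), φ = MulAut.conj x * fA hF hm σ := by
  classical
  obtain ⟨x, hx⟩ := exists_PQ hF hm φ
  set ψ₁ := φ.trans (MulAut.conj x⁻¹) with hψ₁
  obtain ⟨α₀, hα₀⟩ := exists_unit_ne_one hF hm
  obtain ⟨w, γ, hw, hγ⟩ := exists_torus_form hF hm hx hα₀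
  set ψ := ψ₁.trans (MulAut.conj w⁻¹) with hψ
  have hψa : ∀ g, ψ g = w⁻¹ * ψ₁ g * w := by
    intro g
    simp [hψ, MulAut.conj_apply]
  have hψ₁a : ∀ g, ψ₁ g = x⁻¹ * φ g * x := by
    intro g
    simp [hψ₁, MulAut.conj_apply]
  have hPQ : PQ hF hm ψ := by
    intro g
    rw [hx g, hψa]
    constructor
    · intro h
      exact Subgroup.mul_mem _ (Subgroup.mul_mem _ (inv_mem hw) h) hw
    · intro h
      have := Subgroup.mul_mem _ (Subgroup.mul_mem _ hw h) (inv_mem hw)
      convert this using 1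
      group
  have hγ' : ψ (sM hF α₀) = sM hF γ := by
    rw [hψa, hγ]
  have hall := torus_all hF hm hPQ hα₀ hγ'
  choose f hf using hall
  obtain ⟨c, σ, hS, hσ⟩ := exists_field hF hm hPQ hf
  -- the remaining automorphism
  let χ : ↥(Sz F m) ≃* ↥(Sz F m) := (ψ.trans (MulAut.conj (sM hF c⁻¹))).trans (fA hF hm σ).symm
  have hχ : ∀ g, fA hF hm σ (χ g) = sM hF c⁻¹ * ψ g * (sM hF c⁻¹)⁻¹ := by
    intro g
    simp [χ, MulAut.conj_apply]
  have hχ1 : χ = MulEquiv.refl _ := by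
    apply eq_one_of_fix_BM hF hm
    · intro α
      apply (fA hF hm σ).injective
      rw [hχ, hf, sM_inv hF hm, sM_mul hF hm, sM_mul hF hm, fA_M hF hm]
      congr 1
      have : c⁻¹ * f α * c⁻¹⁻¹ = f α := by
        rw [inv_inv, mul_comm c⁻¹, mul_assoc, inv_mul_cancel, mul_one]
      rw [this]
      apply Units.ext
      exact hσ α
    · intro a b
      obtain ⟨d, hd⟩ := hS a b
      refine ⟨σ.symm (((c⁻¹ : Fˣ) : F) ^ (θm + 1) * d), ?_⟩
      apply (fA hF hm σ).injective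
      rw [hχ, hd, sM_conj hF hm, fA_S hF hm]
      simp only [RingEquiv.apply_symm_apply]
      congr 1
      rw [← mul_assoc, Units.val_inv_eq_inv_val, inv_mul_cancel₀ c.ne_zero, one_mul]
  have hχ2 : ∀ g, fA hF hm σ g = sM hF c⁻¹ * ψ g * (sM hF c⁻¹)⁻¹ := by
    intro g
    rw [← hχ, hχ1]
    rfl
  refine ⟨x * w * sM hF c, σ, ?_⟩
  refine MulEquiv.ext fun g => ?_
  show φ g = MulAut.conj (x * w * sM hF c) (fA hF hm σ g)
  rw [MulAut.conj_apply, hχ2, hψa, hψ₁a, sM_inv hF hm, inv_inv]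
  have hcc : sM hF c * sM hF c⁻¹ = 1 := by
    rw [sM_mul hF hm, mul_inv_cancel, sM_one hF hm]
  have hcc' : (sM hF c)⁻¹ = sM hF c⁻¹ := sM_inv hF hm c
  rw [_root_.mul_inv_rev, _root_.mul_inv_rev, hcc', ← sM_inv hF hm, ]
  group

/-- A field automorphism that is inner is trivial. -/
theorem fA_inner {σ : F ≃+* F} {g : ↥(Sz F m)} (h : fA hF hm σ = MulAut.conj g) : σ = RingEquiv.refl F := by
  have hPQ : PQ hF hm (fA hF hm σ) := by
    intro u
    rw [mem_Q, mem_Q]
    constructor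
    · rintro ⟨a, b, rfl⟩
      exact ⟨_, _, fA_S hF hm σ a b⟩
    · rintro ⟨a, b, e⟩
      refine ⟨σ.symm a, σ.symm b, ?_⟩
      apply (fA hF hm σ).injective
      rw [e, fA_S hF hm]
      simp
  have hc : ∀ u, fA hF hm σ u = g * u * g⁻¹ := by
    intro u
    rw [h, MulAut.conj_apply]
  have hginf : (g ⋆ ∞') = ∞' := by
    rw [fix_inf_iff hF hm, Subgroup.mem_normalizer_iff]
    intro u
    rw [← hc]
    exact hPQ u
  obtain ⟨α₀, hα₀⟩ := exists_unit_ne_one hF hm
  have hσα : Units.map (σ : F →* F) α₀ ≠ 1 := by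
    intro e
    apply hα₀
    apply Units.ext
    have : σ (α₀ : F) = 1 := congrArg Units.val e
    simpa using this
  have hg0 : (g ⋆ P θm (0 : F) 0) = P θm (0 : F) 0 := by
    rcases ovoid_cases (smul_mem_O g.2 (P_mem (m := m) (0 : F) 0)) with h1 | ⟨x, y, h1⟩
    · exfalso
      have h' : (g ⋆ P θm (0 : F) 0) = (g ⋆ ∞') := h1.trans hginf.symm
      have h3 := smul_left_cancel _ h'
      exact P_ne_inf _ _ h3
    · have e1 : (sM hF (Units.map (σ : F →* F) α₀) ⋆ P θm x y) = P θm x y := by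
        have e2 : sM hF (Units.map (σ : F →* F) α₀) * g = g * sM hF α₀ := by
          rw [← fA_M hF hm, hc]
          group
        rw [← h1, ← act_mul hF, e2, act_mul hF]
        have : (sM hF α₀ ⋆ P θm (0 : F) 0) = P θm (0 : F) 0 := by
          rw [sM_P]
          simp
        rw [this]
      obtain ⟨hx, hy⟩ := fix_M hF hm hσα e1
      rw [h1, hx, hy]
  obtain ⟨β, rfl⟩ := two_cases hF hm g hginf hg0
  have hβ : ∀ a : F, (β : F) * a = σ a := by
    intro a
    have e := hc (sS hF a 0)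
    rw [fA_S hF hm, sM_conj hF hm] at e
    exact (sS_inj hF hm e).1.symm
  have hβ1 : (β : F) = 1 := by
    have := hβ 1
    simpa using this
  ext a
  have := hβ a
  rw [hβ1, one_mul] at this
  exact this.symm

/-- The count of the outer automorphism group. -/
theorem card_out_sz : Nat.card (Out ↥(Sz F m)) = 2 * m + 1 := by
  classical
  have C := ctx_of_card (m := m) hF
  haveI : Fact (Nat.Prime 2) := ⟨Nat.prime_two⟩
  haveI : CharP F 2 := CharTwo.of_one_ne_zero_of_two_eq_zero one_ne_zero C.two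
  have hg : Nat.card (F ≃+* F) = 2 * m + 1 := card_gal_aux 2 (2 * m + 1) hF
  rw [← hg]
  symm
  apply Nat.card_eq_of_bijective (fun σ : F ≃+* F => (QuotientGroup.mk (fA hF hm σ) : Out ↥(Sz F m)))
  constructor
  · intro σ τ e
    have e1 := QuotientGroup.eq.1 e
    rw [fA_symm_mul hF hm] at e1
    obtain ⟨g, hg⟩ := e1
    have e2 := fA_inner hF hm hg.symm
    ext a
    have e3 : σ.symm (τ a) = a := RingEquiv.congr_fun e2 a
    calc σ a = σ (σ.symm (τ a)) := by rw [e3]
      _ = τ a := by simp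
  · intro q
    obtain ⟨φ, rfl⟩ := QuotientGroup.mk_surjective q
    obtain ⟨x, σ, rfl⟩ := aut_decomp hF hm φ
    refine ⟨σ, ?_⟩
    show (QuotientGroup.mk (fA hF hm σ) : Out ↥(Sz F m)) = QuotientGroup.mk (MulAut.conj x * fA hF hm σ)
    rw [QuotientGroup.eq]
    have := (innNormal ↥(Sz F m)).conj_mem (MulAut.conj x) ⟨x, rfl⟩ (fA hF hm σ)⁻¹
    convert this using 1
    group

end

/-- Isomorphic groups have outer automorphism groups of the same size. -/
theorem card_out_congr {A B : Type*} [Group A] [Group B] (e : A ≃* B) : Nat.card (Out A) = Nat.card (Out B) := by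
  classical
  have hmap : (Inn A).map (MulAut.congr e).toMonoidHom = Inn B := by
    ext φ
    constructor
    · rintro ⟨_, ⟨x, rfl⟩, rfl⟩
      refine ⟨e x, ?_⟩
      refine MulEquiv.ext fun y => ?_
      show e x * y * (e x)⁻¹ = e (x * e.symm y * x⁻¹)
      simp
    · rintro ⟨x, rfl⟩
      refine ⟨_, ⟨e.symm x, rfl⟩, ?_⟩
      refine MulEquiv.ext fun y => ?_
      show e (e.symm x * e.symm y * (e.symm x)⁻¹) = x * y * x⁻¹
      simp
  exact Nat.card_congr (QuotientGroup.congr (Inn A) (Inn B) (MulAut.congr e) hmap).toEquiv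

/-- The statement for the subgroup of the general linear group. -/
theorem card_out_lie {F : Type*} [Field F] [Fintype F] {m : ℕ} (hm : 1 ≤ m) (hF : Fintype.card F = 2 ^ (2 * m + 1)) :
    Nat.card (Out ↥(Lie.Sz F (2 ^ (m + 1)))) = 2 * m + 1 := by
  rw [← card_out_congr (lieEquiv hF hm)]
  exact card_out_sz hF hm

end CfsgLib.Sz
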