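/-
Singer cycles in `GL₄` over a finite field: the Sylow `p`-subgroups for odd `p ∣ q² + 1` are cyclic, and the centraliser
of an element of order `p` is commutative.
-/
import Mathlib

set_option autoImplicit false

namespace CfsgLib.Sz

open Matrix
open scoped Pointwise MatrixGroups

/-- An odd prime dividing `q² + 1` does not divide the other factors of `|GL₄(q)|`. -/
lemma not_dvd_rest {p q : ℕ} (hp : p.Prime) (hp2 : p ≠ 2) (hd : p ∣ q ^ 2 + 1) : ¬ p ∣ (q ^ 4 - q) * (q ^ 4 - q ^ 2) * (q ^ 4 - q ^ 3) := by
  haveI := Fact.mk hp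
  have hq : 1 ≤ q := by
    rcases Nat.eq_zero_or_pos q with rfl | h
    · simp at hd
      exact absurd hd hp.one_lt.ne'
    · exact h
  set x : ZMod p := (q : ZMod p) with hx
  have h1 : x ^ 2 = -1 := by
    have : ((q ^ 2 + 1 : ℕ) : ZMod p) = 0 := (ZMod.natCast_eq_zero_iff _ _).2 hd
    push_cast at this
    linear_combination this
  have h2 : (2 : ZMod p) ≠ 0 := by
    intro h
    have h3 : ((2 : ℕ) : ZMod p) = 0 := by exact_mod_cast h
    have h4 := (ZMod.natCast_eq_zero_iff _ _).1 h3
    exact hp2 ((Nat.prime_dvd_prime_iff_eq hp Nat.prime_two).1 h4)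
  have h4 : x ^ 4 = 1 := by
    have : x ^ 4 = (x ^ 2) ^ 2 := by ring
    rw [this, h1]
    ring
  intro hdvd
  rcases (Nat.Prime.dvd_mul hp).1 hdvd with hdvd | hdvd
  · rcases (Nat.Prime.dvd_mul hp).1 hdvd with hdvd | hdvd
    · have e : ((q ^ 4 - q : ℕ) : ZMod p) = 0 := (ZMod.natCast_eq_zero_iff _ _).2 hdvd
      rw [Nat.cast_sub (Nat.le_self_pow (by norm_num) q)] at e
      push_cast at e
      rw [← hx, h4] at e
      apply h2
      have : x = 1 := by linear_combination -e
      rw [this] at h1
      linear_combination h1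
    · have e : ((q ^ 4 - q ^ 2 : ℕ) : ZMod p) = 0 := (ZMod.natCast_eq_zero_iff _ _).2 hdvd
      rw [Nat.cast_sub (Nat.pow_le_pow_right hq (by norm_num))] at e
      push_cast at e
      rw [← hx, h4, h1] at e
      apply h2
      linear_combination e
  · have e : ((q ^ 4 - q ^ 3 : ℕ) : ZMod p) = 0 := (ZMod.natCast_eq_zero_iff _ _).2 hdvd
    rw [Nat.cast_sub (Nat.pow_le_pow_right hq (by norm_num))] at e
    push_cast at e
    rw [← hx, h4] at e
    have e3 : x ^ 3 = -x := by
      have : x ^ 3 = x ^ 2 * x := by ring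
      rw [this, h1]
      ring
    rw [e3] at e
    have hx1 : x = -1 := by linear_combination e
    rw [hx1] at h1
    apply h2
    linear_combination h1

noncomputable section

variable {F E : Type*} [Field F] [Fintype F] [Field E] [Algebra F E] [Finite E] (b : Module.Basis (Fin 4) F E)

/-- The Singer cycle. -/
def sing : Eˣ →* GL (Fin 4) F := Units.map (Algebra.leftMulMatrix b).toRingHom.toMonoidHom

lemma sing_coe (u : Eˣ) : ((sing b u : GL (Fin 4) F) : Matrix (Fin 4) (Fin 4) F) = Algebra.leftMulMatrix b (u : E) := rfl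

lemma sing_inj : Function.Injective (sing b) := by
  intro u v h
  apply Units.ext
  apply Algebra.leftMulMatrix_injective b
  rw [← sing_coe, ← sing_coe, h]

include b in
lemma card_E : Nat.card E = (Fintype.card F) ^ 4 := by
  haveI : Module.Finite F E := Module.Finite.of_basis b
  rw [Module.natCard_eq_pow_finrank (K := F), Module.finrank_eq_nat_card_basis b, Nat.card_eq_fintype_card]
  simp

include b in
lemma card_units_E : Nat.card Eˣ = (Fintype.card F) ^ 4 - 1 := by
  rw [Nat.card_units, card_E b]

/-- The order of `GL₄`. -/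
lemma card_GL4 : Nat.card (GL (Fin 4) F) = ((Fintype.card F) ^ 4 - 1) * ((Fintype.card F ^ 4 - Fintype.card F) * (Fintype.card F ^ 4 - Fintype.card F ^ 2) * (Fintype.card F ^ 4 - Fintype.card F ^ 3)) := by
  rw [Matrix.card_GL_field, Fin.prod_univ_four]
  simp
  ring

instance finite_GL4 : Finite (GL (Fin 4) F) := by
  classical
  infer_instance

/-- A `p`-subgroup of `GL₄(q)`, for `p` odd dividing `q² + 1`, is conjugate into the Singer cycle. -/
theorem exists_conj_mem_sing {p : ℕ} [hp : Fact p.Prime] (hp2 : p ≠ 2) (hd : p ∣ Fintype.card F ^ 2 + 1) (P : Subgroup (GL (Fin 4) F)) (hP : IsPGroup p P) :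
    ∃ g : GL (Fin 4) F, ∀ x ∈ P, g * x * g⁻¹ ∈ (sing b).range := by
  set q := Fintype.card F with hq
  have hq1 : 1 < q := Fintype.one_lt_card
  have hne : (q ^ 4 - 1 : ℕ) ≠ 0 := by
    have : 1 < q ^ 4 := Nat.one_lt_pow (by norm_num) hq1
    omega
  have hrest := not_dvd_rest hp.out hp2 hd
  have hne2 : (q ^ 4 - q) * (q ^ 4 - q ^ 2) * (q ^ 4 - q ^ 3) ≠ 0 := by
    intro h
    rw [h] at hrest
    exact hrest (dvd_zero _)
  let Q₀ : Sylow p Eˣ := default
  let Q : Subgroup (GL (Fin 4) F) := (Q₀ : Subgroup Eˣ).map (sing b)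
  have hcQ : Nat.card Q = p ^ (Nat.card (GL (Fin 4) F)).factorization p := by
    rw [Subgroup.card_map_of_injective (sing_inj b), Q₀.card_eq_multiplicity, card_units_E b, card_GL4,
      Nat.factorization_mul hne hne2]
    simp [Nat.factorization_eq_zero_of_not_dvd hrest]
    rfl
  let QS : Sylow p (GL (Fin 4) F) := Sylow.ofCard Q hcQ
  obtain ⟨R, hR⟩ := hP.exists_le_sylow
  obtain ⟨g, hg⟩ := MulAction.exists_smul_eq (GL (Fin 4) F) R QS
  refine ⟨g, fun x hx => ?_⟩
  have h1 : x ∈ R := hR hx
  have h2 : g * x * g⁻¹ ∈ ((g • R : Sylow p (GL (Fin 4) F)) : Subgroup (GL (Fin 4) F)) := by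
    rw [Sylow.coe_subgroup_smul]
    exact ⟨x, h1, rfl⟩
  rw [hg] at h2
  obtain ⟨u, -, hu⟩ := h2
  exact ⟨u, hu⟩

include b in
/-- A `p`-subgroup of `GL₄(q)`, for `p` odd dividing `q² + 1`, is cyclic. -/
theorem isCyclic_of_pgroup {p : ℕ} [Fact p.Prime] (hp2 : p ≠ 2) (hd : p ∣ Fintype.card F ^ 2 + 1) (P : Subgroup (GL (Fin 4) F)) (hP : IsPGroup p P) : IsCyclic P := by
  obtain ⟨g, hg⟩ := exists_conj_mem_sing b hp2 hd P hP
  -- a hom `P → Eˣ`
  choose f hf using fun x : P => hg x x.2
  let φ : P →* Eˣ :=
    { toFun := f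
      map_one' := by
        apply sing_inj b
        rw [hf]
        simp
      map_mul' := fun x y => by
        apply sing_inj b
        rw [map_mul, hf, hf, hf]
        simp only [Subgroup.coe_mul]
        group }
  have hφ : Function.Injective φ := by
    intro x y h
    have h1 : f x = f y := h
    have h2 := hf x
    rw [h1, hf y] at h2
    apply Subtype.ext
    have h3 : g * (y : GL (Fin 4) F) * g⁻¹ = g * x * g⁻¹ := h2
    have h4 := mul_right_cancel h3
    exact (mul_left_cancel h4).symm
  exact isCyclic_of_injective φ hφ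

/-- Elements generating the field: the commutant of the multiplication by them is the field. -/
theorem comm_of_generator (u : E) (hu : u ^ (Fintype.card F ^ 2) ≠ u) (W : Matrix (Fin 4) (Fin 4) F)
    (hW : W * Algebra.leftMulMatrix b u = Algebra.leftMulMatrix b u * W) : ∃ w : E, W = Algebra.leftMulMatrix b w := by
  haveI : Module.Finite F E := Module.Finite.of_basis b
  have hfin : Module.finrank F E = 4 := by
    rw [Module.finrank_eq_nat_card_basis b]
    simp
  have hint : IsIntegral F u := IsIntegral.of_finite F u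
  -- the field generated by `u` is everything
  set K : IntermediateField F E := IntermediateField.adjoin F {u} with hK
  have hKtop : K = ⊤ := by
    have h1 := Module.finrank_mul_finrank F K E
    rw [hfin] at h1
    have hd : Module.finrank F K ∣ 4 := ⟨_, h1.symm⟩
    have hle : Module.finrank F K ∣ 2 ∨ Module.finrank F K = 4 := by
      have h4 : (4 : ℕ) = 2 ^ 2 := by norm_num
      rw [h4] at hd
      obtain ⟨k, hk, e⟩ := (Nat.dvd_prime_pow Nat.prime_two).1 hd
      interval_cases k
      · left; rw [e]; norm_num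
      · left; rw [e]; norm_num
      · right; rw [e]; norm_num
    rcases hle with hle | h4
    · exfalso
      apply hu
      haveI : Finite K := Finite.of_injective (fun x : K => (x : E)) Subtype.val_injective
      haveI : Fintype K := Fintype.ofFinite K
      have huK : u ∈ K := IntermediateField.mem_adjoin_simple_self F u
      have hcard : Fintype.card K = Fintype.card F ^ Module.finrank F K := by
        rw [← Nat.card_eq_fintype_card, Module.natCard_eq_pow_finrank (K := F), Nat.card_eq_fintype_card]
      have h5 := FiniteField.pow_card (⟨u, huK⟩ : K)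
      rw [hcard] at h5
      have h6 : u ^ (Fintype.card F ^ Module.finrank F K) = u := congrArg Subtype.val h5
      obtain ⟨c, hc⟩ := hle
      have e : Fintype.card F ^ 2 = (Fintype.card F ^ Module.finrank F K) ^ c := by
        rw [← pow_mul, ← hc]
      rw [e]
      generalize Fintype.card F ^ Module.finrank F K = N at *
      clear e hc
      induction c with
      | zero => simp
      | succ c ih =>
        rw [pow_succ, pow_mul, ih, h6]
    · have : K.toSubalgebra.toSubmodule = ⊤ := by
        apply Submodule.eq_top_of_finrank_eq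
        rw [hfin]
        exact h4
      rw [← IntermediateField.toSubalgebra_inj]
      apply Subalgebra.toSubmodule_injective
      rw [this]
      rfl
  have hadj : Algebra.adjoin F {u} = ⊤ := by
    have h1 := IntermediateField.adjoin_simple_toSubalgebra_of_isAlgebraic (F := F) (α := u) hint.isAlgebraic
    rw [← h1, ← hK, hKtop]
    rfl
  -- the linear map of `W`
  set T : E →ₗ[F] E := Matrix.toLin b b W with hT
  have hTW : LinearMap.toMatrix b b T = W := LinearMap.toMatrix_toLin b b W
  have hcomm : T ∘ₗ (LinearMap.mulLeft F u) = (LinearMap.mulLeft F u) ∘ₗ T := by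
    apply (LinearMap.toMatrix b b).injective
    rw [LinearMap.toMatrix_comp b b b, LinearMap.toMatrix_comp b b b, hTW, Algebra.toMatrix_lmul_eq, hW]
  have hu1 : ∀ x, T (u * x) = u * T x := fun x => LinearMap.congr_fun hcomm x
  have hall : ∀ y : E, ∀ x : E, T (y * x) = y * T x := by
    intro y
    have hy : y ∈ Algebra.adjoin F {u} := by
      rw [hadj]
      exact Algebra.mem_top
    induction hy using Algebra.adjoin_induction with
    | mem a ha =>
      rw [Set.mem_singleton_iff] at ha
      subst ha
      exact hu1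
    | algebraMap r =>
      intro x
      rw [← Algebra.smul_def, ← Algebra.smul_def, map_smul]
    | add a c _ _ ha hc =>
      intro x
      rw [add_mul, add_mul, map_add, ha, hc]
    | mul a c _ _ ha hc =>
      intro x
      rw [mul_assoc, ha, hc, mul_assoc]
  refine ⟨T 1, ?_⟩
  have hTeq : T = LinearMap.mulLeft F (T 1) := by
    ext x
    have := hall x 1
    rw [mul_one] at this
    rw [this, LinearMap.mulLeft_apply, mul_comm]
  rw [← hTW, ← Algebra.toMatrix_lmul_eq]
  conv_lhs => rw [hTeq]

/-- The centraliser of an element of order `p` in `GL₄` is conjugate into the Singer cycle. -/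
theorem centralizer_conj {p : ℕ} [hp : Fact p.Prime] (hp2 : p ≠ 2) (hd : p ∣ Fintype.card F ^ 2 + 1) (z : GL (Fin 4) F) (hz : orderOf z = p) :
    ∃ g : GL (Fin 4) F, ∀ w : GL (Fin 4) F, w * z = z * w → g * w * g⁻¹ ∈ (sing b).range := by
  have hP : IsPGroup p (Subgroup.zpowers z) := by
    apply IsPGroup.of_card (n := 1)
    rw [Nat.card_zpowers, hz, pow_one]
  obtain ⟨g, hg⟩ := exists_conj_mem_sing b hp2 hd _ hP
  obtain ⟨v, hv⟩ := hg z (Subgroup.mem_zpowers z)
  refine ⟨g, fun w hw => ?_⟩
  have hord : orderOf v = p := by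
    rw [← orderOf_injective (sing b) (sing_inj b) v, hv]
    have : orderOf (g * z * g⁻¹) = orderOf z := by
      have h1 := MulEquiv.orderOf_eq (MulAut.conj g) z
      rwa [MulAut.conj_apply] at h1
    rw [this, hz]
  have hu : (v : E) ^ (Fintype.card F ^ 2) ≠ v := by
    intro h
    have h1 : v ^ (Fintype.card F ^ 2) = v := Units.ext (by simpa using h)
    have hq1 : 1 ≤ Fintype.card F ^ 2 := Nat.one_le_pow _ _ Fintype.card_pos
    have h2 : v ^ (Fintype.card F ^ 2 - 1) = 1 := by
      have h3 : v ^ (Fintype.card F ^ 2 - 1) * v = v := by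
        rw [← pow_succ, Nat.sub_add_cancel hq1, h1]
      exact mul_eq_right.1 h3
    have h3 : p ∣ Fintype.card F ^ 2 - 1 := by
      rw [← hord]
      exact orderOf_dvd_of_pow_eq_one h2
    have h4 : p ∣ (Fintype.card F ^ 2 + 1) - (Fintype.card F ^ 2 - 1) := Nat.dvd_sub hd h3
    have h5 : (Fintype.card F ^ 2 + 1) - (Fintype.card F ^ 2 - 1) = 2 := by omega
    rw [h5] at h4
    exact hp2 ((Nat.prime_dvd_prime_iff_eq hp.out Nat.prime_two).1 h4)
  -- the matrix
  set W : GL (Fin 4) F := g * w * g⁻¹ with hW
  have hcomm : W * sing b v = sing b v * W := by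
    rw [hW, hv]
    calc g * w * g⁻¹ * (g * z * g⁻¹) = g * (w * z) * g⁻¹ := by group
      _ = g * (z * w) * g⁻¹ := by rw [hw]
      _ = _ := by group
  have hcommM : (W : Matrix (Fin 4) (Fin 4) F) * Algebra.leftMulMatrix b (v : E) = Algebra.leftMulMatrix b (v : E) * (W : Matrix (Fin 4) (Fin 4) F) := by
    rw [← sing_coe, ← Units.val_mul, hcomm, Units.val_mul]
  obtain ⟨w', hw'⟩ := comm_of_generator b (v : E) hu _ hcommM
  have hne : w' ≠ 0 := by
    rintro rfl
    rw [map_zero] at hw'
    exact W.ne_zero hw'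
  refine ⟨Units.mk0 w' hne, ?_⟩
  apply Units.ext
  rw [sing_coe]
  exact hw'.symm

end

end CfsgLib.Sz
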