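/-
The elements of the Suzuki group: fixed points, centralisers, Sylow subgroups for odd primes.
-/
import Cfsg.Agent.Lib.Sz.SylowTwo
import Cfsg.Agent.Lib.Sz.Singer

set_option autoImplicit false

namespace CfsgLib.Sz

open Matrix Cfsg
open scoped Pointwise MatrixGroups

section

variable {F : Type*} [Field F] [Fintype F] {m : ℕ}

local notation "SL4" => Matrix.SpecialLinearGroup (Fin 4) F

local notation "θm" => (2 ^ (m + 1) : ℕ)

local notation "∞'" => suzukiPointInfinity F

variable (hF : Fintype.card F = 2 ^ (2 * m + 1)) (hm : 1 ≤ m)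

include hF

/-- A field extension of degree four. -/
lemma exists_singer : ∃ (E : Type) (_ : Field E) (_ : Algebra F E) (_ : Finite E), Nonempty (Module.Basis (Fin 4) F E) := by
  have h2 := charTwo_of_card hF
  haveI : CharP F 2 := CharTwo.of_one_ne_zero_of_two_eq_zero one_ne_zero h2
  haveI : Fact (Nat.Prime 2) := ⟨Nat.prime_two⟩
  refine ⟨FiniteField.Extension F 2 4, inferInstance, inferInstance, inferInstance, ⟨?_⟩⟩
  exact Module.finBasisOfFinrankEq F _ (FiniteField.finrank_extension F 2 4)

include hm

/-- `θ`-powers and squares: the torus has odd order. -/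
lemma unit_sq_eq_one {β : Fˣ} (h : β * β = 1) : β = 1 := by
  have C := ctx_of_card hF
  have h20 := C.two
  have h1 : ((β : F) * β) = 1 := by
    have := congrArg (fun u : Fˣ => (u : F)) h
    simpa using this
  have h2 : ((β : F) + 1) ^ 2 = 0 := by
    linear_combination h1 + (β : F) * h20 + h20
  have h3 := pow_eq_zero_iff (by norm_num) |>.1 h2
  apply Units.ext
  rw [Units.val_one]
  linear_combination h3 - h20

/-- An element of the stabiliser of infinity outside `U` has another fixed point. -/
lemma SM_fixed (a b : F) {α : Fˣ} (hα : α ≠ 1) : ∃ x y : F, (S θm a b * M (2 ^ m) α) • P θm x y = P θm x y := by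
  have C := ctx_of_card hF
  have h20 := C.two
  have h1 : (α : F) + 1 ≠ 0 := by
    intro h
    apply hα
    apply Units.ext
    rw [Units.val_one]
    linear_combination h - h20
  have h2 : (α : F) ^ (θm + 1) + 1 ≠ 0 := by
    intro h
    apply hα
    apply Units.ext
    rw [Units.val_one]
    apply pow_theta_succ_eq_one hF α.ne_zero
    linear_combination h - h20
  set x : F := a / ((α : F) + 1) with hx
  set y : F := (a ^ θm * ((α : F) * x) + b) / ((α : F) ^ (θm + 1) + 1) with hy
  refine ⟨x, y, ?_⟩
  have hx' : ((α : F) + 1) * x = a := by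
    rw [hx]
    field_simp
  have hy' : ((α : F) ^ (θm + 1) + 1) * y = a ^ θm * ((α : F) * x) + b := by
    rw [hy]
    field_simp
  clear_value x y
  rw [mul_smul, M_P C, S_P C]
  congr 1
  · linear_combination (-1 : F) * hx' + ((α : F) * x) * h20
  · linear_combination (-1 : F) * hy' + ((α : F) ^ (θm + 1) * y) * h20

omit hm in
lemma S_fix {a b x y : F} (h : S θm a b • P θm x y = P θm x y) : a = 0 ∧ b = 0 := by
  have C := ctx_of_card hF
  rw [S_P C] at h
  obtain ⟨h1, h2⟩ := P_inj h
  have ha : a = 0 := by linear_combination h1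
  refine ⟨ha, ?_⟩
  rw [ha, zero_pow (by positivity)] at h2
  linear_combination h2

/-- Commuting with an element having two fixed points. -/
theorem fix_two_comm {z c : SL4} (hz : z ∈ Sz F m) (hc : c ∈ Sz F m) (hz1 : z ≠ 1) {a b : Projectivization F (Fin 4 → F)} (ha : a ∈ suzukiOvoid F m) (hb : b ∈ suzukiOvoid F m) (hab : a ≠ b)
    (h1 : z • a = a) (h2 : z • b = b) (hcomm : c * z = z * c) : c • a = a ∧ c • b = b := by
  have C := ctx_of_card hF
  have hfix : ∀ p : Projectivization F (Fin 4 → F), z • p = p → z • (c • p) = c • p := by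
    intro p hp
    rw [← mul_smul, ← hcomm, mul_smul, hp]
  have hca := smul_mem_O hc ha
  have hcb := smul_mem_O hc hb
  have h3 : c • a = a ∨ c • a = b := by
    by_contra hcon
    push Not at hcon
    exact hz1 (three_pt hF hm hz ha hb hca hab (Ne.symm hcon.2) (Ne.symm hcon.1) h1 h2 (hfix a h1))
  have h4 : c • b = a ∨ c • b = b := by
    by_contra hcon
    push Not at hcon
    exact hz1 (three_pt hF hm hz ha hb hcb hab (Ne.symm hcon.2) (Ne.symm hcon.1) h1 h2 (hfix b h2))
  rcases h3 with h3 | h3
  · refine ⟨h3, ?_⟩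
    rcases h4 with h4 | h4
    · exfalso
      apply hab
      have := MulAction.injective c (h3.trans h4.symm)
      exact this
    · exact h4
  · exfalso
    have h5 : c • b = a := by
      rcases h4 with h4 | h4
      · exact h4
      · exfalso
        apply hab
        exact MulAction.injective c (h3.trans h4.symm)
    obtain ⟨t, ht, e1, e2⟩ := exists_move2 hF hm ha hb hab
    have htinv : t⁻¹ ∈ Sz F m := (Sz F m).inv_mem ht
    set z' : SL4 := t⁻¹ * z * t with hz'
    set c' : SL4 := t⁻¹ * c * t with hc'
    have hz'm : z' ∈ Sz F m := (Sz F m).mul_mem ((Sz F m).mul_mem htinv hz) ht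
    have hc'm : c' ∈ Sz F m := (Sz F m).mul_mem ((Sz F m).mul_mem htinv hc) ht
    have f1 : z' • ∞' = ∞' := by
      rw [hz', mul_smul, mul_smul, e1, h1, ← e1, inv_smul_smul]
    have f2 : z' • P θm (0 : F) 0 = P θm (0 : F) 0 := by
      rw [hz', mul_smul, mul_smul, e2, h2, ← e2, inv_smul_smul]
    obtain ⟨β, hβ⟩ := two_pt hF hm hz'm f1 f2
    have f3 : c' • ∞' = P θm (0 : F) 0 := by
      rw [hc', mul_smul, mul_smul, e1, h3, ← e2, inv_smul_smul]
    have f4 : c' • P θm (0 : F) 0 = ∞' := by
      rw [hc', mul_smul, mul_smul, e2, h5, ← e1, inv_smul_smul]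
    have hTc : T F * c' ∈ Sz F m := (Sz F m).mul_mem (T_mem hF) hc'm
    obtain ⟨γ, hγ⟩ := two_pt hF hm hTc (by rw [mul_smul, f3, T_P0 C (by positivity)]) (by rw [mul_smul, f4, T_inf C (by positivity)])
    have hc'e : c' = T F * M (2 ^ m) γ := by
      rw [← hγ, ← mul_assoc, T_sq hF, one_mul]
    have hcomm' : c' * z' = z' * c' := by
      rw [hc', hz']
      calc t⁻¹ * c * t * (t⁻¹ * z * t) = t⁻¹ * (c * z) * t := by group
        _ = t⁻¹ * (z * c) * t := by rw [hcomm]
        _ = _ := by group
    rw [hc'e, hβ] at hcomm'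
    have e : T F * M (2 ^ m) γ * M (2 ^ m) β = T F * M (2 ^ m) (γ * β) := by
      rw [mul_assoc, M_mul hF hm]
    have e' : M (2 ^ m) β * (T F * M (2 ^ m) γ) = T F * M (2 ^ m) (β⁻¹ * γ) := by
      have h6 := T_M hF β⁻¹
      rw [inv_inv] at h6
      rw [← mul_assoc, ← h6, mul_assoc, M_mul hF hm]
    rw [e, e'] at hcomm'
    have h7 := mul_left_cancel hcomm'
    have h8 := congrArg (fun g => g • P θm (1 : F) 0) h7
    simp only [M_P C] at h8
    have h9 := (P_inj h8).1
    have h10 : γ * β = β⁻¹ * γ := by
      apply Units.ext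
      simpa using h9
    have h11 : β * β = 1 := by
      have : β * γ * β = γ := by
        rw [mul_assoc, h10, mul_inv_cancel_left]
      have h12 : γ * (β * β) = γ * 1 := by
        rw [mul_one]
        calc γ * (β * β) = β * γ * β := by
              rw [mul_comm β γ, mul_assoc]
          _ = γ := this
      exact mul_left_cancel h12
    have h13 := unit_sq_eq_one hF hm h11
    apply hz1
    have h14 : z' = 1 := by
      rw [hβ, h13, M_one hF hm]
    rw [hz'] at h14
    have h15 : z = t * (t⁻¹ * z * t) * t⁻¹ := by group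
    rw [h15, h14]
    group

/-- An element of the stabiliser of a point with no other fixed points, when an element `g` with only that
fixed point commutes with it. -/
theorem comm_unique_fixed {g c : SL4} (hg : g ∈ Sz F m) (hc : c ∈ Sz F m) {p : Projectivization F (Fin 4 → F)} (hp : p ∈ suzukiOvoid F m)
    (h1 : g • p = p) (huniq : ∀ q ∈ suzukiOvoid F m, g • q = q → q = p) (hcomm : c * g = g * c) : c * c * (c * c) = 1 := by
  have C := ctx_of_card hF
  have h20 := C.two
  have hcp : c • p = p := by
    apply huniq _ (smul_mem_O hc hp)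
    rw [← mul_smul, ← hcomm, mul_smul, h1]
  obtain ⟨t, ht, e1⟩ := exists_move hF hm hp
  have htinv : t⁻¹ ∈ Sz F m := (Sz F m).inv_mem ht
  set c' : SL4 := t⁻¹ * c * t with hc'
  have hc'm : c' ∈ Sz F m := (Sz F m).mul_mem ((Sz F m).mul_mem htinv hc) ht
  have f1 : c' • ∞' = ∞' := by
    rw [hc', mul_smul, mul_smul, e1, hcp, ← e1, inv_smul_smul]
  obtain ⟨a, b, γ, hγ⟩ := one_pt hF hm hc'm f1
  have hγ1 : γ = 1 := by
    by_contra hne
    obtain ⟨x, y, hxy⟩ := SM_fixed hF hm a b hne
    rw [← hγ] at hxy
    -- the second fixed point of `c`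
    have hq : t • P θm x y ∈ suzukiOvoid F m := smul_mem_O ht (P_mem x y)
    have hqp : t • P θm x y ≠ p := by
      rw [← e1]
      intro h
      exact P_ne_inf _ _ (MulAction.injective t h)
    have hcq : c • (t • P θm x y) = t • P θm x y := by
      have : c • (t • P θm x y) = t • (c' • P θm x y) := by
        rw [hc']
        simp [mul_smul]
      rw [this, hxy]
    have hc1 : c ≠ 1 := by
      rintro rfl
      have h2 : c' = 1 := by
        rw [hc']
        group
      rw [h2] at hγ
      have e0 := congrArg (fun g => g • P θm (1 : F) 0) hγ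
      simp only [mul_smul, one_smul, M_P C, S_P C] at e0
      have e1' := P_inj e0
      -- then `S a b * M γ = 1` forces `γ = 1`
      have e2' := congrArg (fun g => g • P θm (0 : F) 0) hγ
      simp only [mul_smul, one_smul, M_P C, S_P C] at e2'
      have e3 := (P_inj e2').1
      simp only [mul_zero, zero_add] at e3
      have ha0 : a = 0 := e3.symm
      rw [ha0] at e1'
      apply hne
      apply Units.ext
      rw [Units.val_one]
      have h9 := e1'.1
      simpa using h9.symm
    have hgcomm : g * c = c * g := hcomm.symm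
    obtain ⟨-, h3⟩ := fix_two_comm hF hm hc hg hc1 hp hq (Ne.symm hqp) hcp hcq hgcomm
    exact hqp (huniq _ hq h3)
  subst hγ1
  rw [M_one hF hm, mul_one] at hγ
  -- `c' = S a b` has order dividing 4
  have h4 : c' * c' * (c' * c') = 1 := by
    have h5 : a + a = 0 := by linear_combination a * h20
    rw [hγ, S_mul hF hm, S_mul hF hm, ← S_zero hF hm (F := F), h5]
    congr 1
    · ring
    · rw [zero_pow (by positivity), zero_mul, add_zero]
      linear_combination (b + b + a ^ θm * a) * h20
  rw [hc'] at h4
  have h7 : t⁻¹ * c * t * (t⁻¹ * c * t) * (t⁻¹ * c * t * (t⁻¹ * c * t)) = t⁻¹ * (c * c * (c * c)) * t := by group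
  rw [h7] at h4
  have h8 : c * c * (c * c) = t * (t⁻¹ * (c * c * (c * c)) * t) * t⁻¹ := by group
  rw [h8, h4]
  group

/-- The inclusion of the Suzuki group in `GL₄`. -/
noncomputable def iGL : Sz F m →* GL (Fin 4) F := (Matrix.SpecialLinearGroup.toGL).comp (Sz F m).subtype

omit hF hm in
lemma iGL_inj : Function.Injective (iGL (F := F) (m := m)) := by
  intro x y h
  apply Subtype.ext
  exact Matrix.SpecialLinearGroup.toGL_injective h

omit hm in
lemma odd_card_O : ¬ 2 ∣ Fintype.card F ^ 2 + 1 := by
  rw [hF]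
  have h1 : 2 ∣ (2 ^ (2 * m + 1) : ℕ) ^ 2 := dvd_pow (dvd_pow_self 2 (by omega)) (by norm_num)
  intro h
  have := (Nat.dvd_add_right h1).1 h
  omega

/-- The Suzuki group is a CN-group. -/
theorem cn_group : IsCNGroup (Sz F m) := by
  have C := ctx_of_card hF
  intro g hg1
  have hg1' : (g : SL4) ≠ 1 := fun h => hg1 (Subtype.ext h)
  by_cases hfix : ∃ p ∈ suzukiOvoid F m, (g : SL4) • p = p
  · obtain ⟨p, hp, hgp⟩ := hfix
    by_cases hsec : ∃ q ∈ suzukiOvoid F m, (g : SL4) • q = q ∧ q ≠ p
    · -- two fixed points: the centraliser is abelian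
      obtain ⟨q, hq, hgq, hqp⟩ := hsec
      have hc : ∀ x y : Subgroup.centralizer ({g} : Set (Sz F m)), x * y = y * x := by
        intro x y
        have hcomm : ∀ x : Subgroup.centralizer ({g} : Set (Sz F m)), ((x : Sz F m) : SL4) * g = g * ((x : Sz F m) : SL4) := by
          intro x
          have := Subgroup.mem_centralizer_iff.1 x.2 g (Set.mem_singleton g)
          exact (congrArg Subtype.val this).symm
        obtain ⟨hx1, hx2⟩ := fix_two_comm hF hm g.2 (x : Sz F m).2 hg1' hp hq (Ne.symm hqp) hgp hgq (hcomm x)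
        obtain ⟨hy1, hy2⟩ := fix_two_comm hF hm g.2 (y : Sz F m).2 hg1' hp hq (Ne.symm hqp) hgp hgq (hcomm y)
        obtain ⟨t, ht, e1, e2⟩ := exists_move2 hF hm hp hq (Ne.symm hqp)
        have hform : ∀ x : Subgroup.centralizer ({g} : Set (Sz F m)), ((x : Sz F m) : SL4) • p = p → ((x : Sz F m) : SL4) • q = q → ∃ α : Fˣ, t⁻¹ * ((x : Sz F m) : SL4) * t = M (2 ^ m) α := by
          intro x h1 h2
          apply two_pt hF hm ((Sz F m).mul_mem ((Sz F m).mul_mem ((Sz F m).inv_mem ht) (x : Sz F m).2) ht)
          · rw [mul_smul, mul_smul, e1, h1, ← e1, inv_smul_smul]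
          · rw [mul_smul, mul_smul, e2, h2, ← e2, inv_smul_smul]
        obtain ⟨α, hα⟩ := hform x hx1 hx2
        obtain ⟨β, hβ⟩ := hform y hy1 hy2
        apply Subtype.ext
        apply Subtype.ext
        show ((x : Sz F m) : SL4) * ((y : Sz F m) : SL4) = ((y : Sz F m) : SL4) * ((x : Sz F m) : SL4)
        have e3 : ((x : Sz F m) : SL4) = t * M (2 ^ m) α * t⁻¹ := by
          rw [← hα]
          group
        have e4 : ((y : Sz F m) : SL4) = t * M (2 ^ m) β * t⁻¹ := by
          rw [← hβ]
          group
        rw [e3, e4]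
        calc t * M (2 ^ m) α * t⁻¹ * (t * M (2 ^ m) β * t⁻¹) = t * (M (2 ^ m) α * M (2 ^ m) β) * t⁻¹ := by group
          _ = t * (M (2 ^ m) β * M (2 ^ m) α) * t⁻¹ := by rw [M_mul hF hm, M_mul hF hm, mul_comm]
          _ = _ := by group
      letI : CommGroup (Subgroup.centralizer ({g} : Set (Sz F m))) := { (inferInstance : Group (Subgroup.centralizer ({g} : Set (Sz F m)))) with mul_comm := hc }
      infer_instance
    · -- a unique fixed point: the centraliser is a 2-group
      push Not at hsec
      have hp2 : IsPGroup 2 (Subgroup.centralizer ({g} : Set (Sz F m))) := by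
        intro x
        refine ⟨2, ?_⟩
        apply Subtype.ext
        apply Subtype.ext
        have hcomm : ((x : Sz F m) : SL4) * g = g * ((x : Sz F m) : SL4) := by
          have := Subgroup.mem_centralizer_iff.1 x.2 g (Set.mem_singleton g)
          exact (congrArg Subtype.val this).symm
        have h4 := comm_unique_fixed hF hm g.2 (x : Sz F m).2 hp hgp (fun q hq h => hsec q hq h) hcomm
        show ((x : Sz F m) : SL4) ^ (2 ^ 2) = 1
        rw [← h4, show (2 : ℕ) ^ 2 = 2 + 2 by norm_num, pow_add, pow_two]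
      exact hp2.isNilpotent
  · -- no fixed points
    push Not at hfix
    have hn1 : orderOf g ≠ 1 := by
      intro h
      exact hg1 (orderOf_eq_one_iff.1 h)
    haveI hfp : Fact (Nat.minFac (orderOf g)).Prime := ⟨Nat.minFac_prime hn1⟩
    set p := Nat.minFac (orderOf g) with hp
    have hdvd : p ∣ orderOf g := Nat.minFac_dvd _
    have hn0 : orderOf g ≠ 0 := (orderOf_pos g).ne'
    set z : Sz F m := g ^ (orderOf g / p) with hz
    have hzord : orderOf z = p := by
      rw [hz, orderOf_pow_orderOf_div hn0 hdvd]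
    have hz1 : z ≠ 1 := by
      intro h
      rw [h, orderOf_one] at hzord
      exact hfp.out.one_lt.ne hzord
    have hcommz : ∀ x : Sz F m, x * g = g * x → x * z = z * x := by
      intro x hx
      have : Commute x g := hx
      exact (this.pow_right _)
    -- `z` has no fixed points
    have hzfix : ∀ a ∈ suzukiOvoid F m, (z : SL4) • a ≠ a := by
      intro a ha hza
      have hz1' : (z : SL4) ≠ 1 := fun h => hz1 (Subtype.ext h)
      have hga := smul_mem_O g.2 ha
      have hgz : (g : SL4) * z = z * g := by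
        have := hcommz g rfl
        exact congrArg Subtype.val this
      have h3 : (z : SL4) • ((g : SL4) • a) = (g : SL4) • a := by
        rw [← mul_smul, ← hgz, mul_smul, hza]
      exact hfix a ha (fix_two_comm hF hm z.2 g.2 hz1' ha hga (Ne.symm (hfix a ha)) hza h3 hgz).1
    -- `p` divides the number of points
    have hpO : p ∣ Fintype.card F ^ 2 + 1 := by
      have hP : IsPGroup p (Subgroup.zpowers z) := by
        apply IsPGroup.of_card (n := 1)
        rw [Nat.card_zpowers, hzord, pow_one]
      haveI : Finite (suzukiOvoid F m) := ovoid_finite.to_subtype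
      have h1 := hP.card_modEq_card_fixedPoints (suzukiOvoid F m)
      have h2 : Nat.card (MulAction.fixedPoints (Subgroup.zpowers z) (suzukiOvoid F m)) = 0 := by
        rw [Nat.card_eq_zero]
        left
        rw [Set.isEmpty_coe_sort, Set.eq_empty_iff_forall_notMem]
        intro a ha
        have h3 := ha ⟨z, Subgroup.mem_zpowers z⟩
        exact hzfix a.1 a.2 (congrArg Subtype.val h3)
      rw [h2, card_ovoid] at h1
      exact Nat.modEq_zero_iff_dvd.1 h1
    have hp2 : p ≠ 2 := by
      intro h
      rw [h] at hpO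
      exact odd_card_O hF hpO
    -- the centraliser of `z` is commutative
    obtain ⟨E, _, _, _, ⟨b⟩⟩ := exists_singer (F := F) hF
    have hzord' : orderOf (iGL z) = p := by
      rw [orderOf_injective iGL iGL_inj, hzord]
    obtain ⟨h, hh⟩ := centralizer_conj b hp2 hpO (iGL z) hzord'
    have hc : ∀ x y : Subgroup.centralizer ({g} : Set (Sz F m)), x * y = y * x := by
      intro x y
      have hcomm : ∀ x : Subgroup.centralizer ({g} : Set (Sz F m)), (iGL (x : Sz F m)) * iGL z = iGL z * iGL (x : Sz F m) := by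
        intro x
        have h1 := Subgroup.mem_centralizer_iff.1 x.2 g (Set.mem_singleton g)
        rw [← map_mul, ← map_mul, hcommz _ h1.symm]
      obtain ⟨u, hu⟩ := hh _ (hcomm x)
      obtain ⟨v, hv⟩ := hh _ (hcomm y)
      apply Subtype.ext
      apply iGL_inj
      rw [Subgroup.coe_mul, Subgroup.coe_mul, map_mul, map_mul]
      have e3 : iGL (x : Sz F m) = h⁻¹ * sing b u * h := by
        rw [hu]
        group
      have e4 : iGL (y : Sz F m) = h⁻¹ * sing b v * h := by
        rw [hv]
        group
      rw [e3, e4]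
      calc h⁻¹ * sing b u * h * (h⁻¹ * sing b v * h) = h⁻¹ * (sing b u * sing b v) * h := by group
        _ = h⁻¹ * (sing b v * sing b u) * h := by rw [← map_mul, ← map_mul, mul_comm]
        _ = _ := by group
    letI : CommGroup (Subgroup.centralizer ({g} : Set (Sz F m))) := { (inferInstance : Group (Subgroup.centralizer ({g} : Set (Sz F m)))) with mul_comm := hc }
    infer_instance

/-- The Sylow subgroups for odd primes are cyclic. -/
theorem sylow_odd_cyclic {p : ℕ} [hp : Fact p.Prime] (hp2 : p ≠ 2) (P : Sylow p (Sz F m)) : IsCyclic P := by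
  have C := ctx_of_card hF
  by_cases hd : p ∣ Fintype.card F ^ 2 + 1
  · obtain ⟨E, _, _, _, ⟨b⟩⟩ := exists_singer (F := F) hF
    have hP' : IsPGroup p ((P : Subgroup (Sz F m)).map iGL) := P.isPGroup'.map iGL
    haveI := isCyclic_of_pgroup b hp2 hd _ hP'
    exact isCyclic_of_injective ((P : Subgroup (Sz F m)).equivMapOfInjective iGL iGL_inj).toMonoidHom
      ((P : Subgroup (Sz F m)).equivMapOfInjective iGL iGL_inj).injective
  · -- two fixed points
    haveI : Finite (suzukiOvoid F m) := ovoid_finite.to_subtype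
    have h1 := (P.isPGroup').card_modEq_card_fixedPoints (suzukiOvoid F m)
    rw [card_ovoid] at h1
    set k := Nat.card (MulAction.fixedPoints (P : Subgroup (Sz F m)) (suzukiOvoid F m)) with hk
    have hk0 : k ≠ 0 := by
      intro h
      rw [h] at h1
      exact hd (Nat.modEq_zero_iff_dvd.1 h1)
    have hk1 : k ≠ 1 := by
      intro h
      rw [h] at h1
      have h2 : p ∣ Fintype.card F ^ 2 := by
        have h3 := (Nat.modEq_iff_dvd' (by omega : 1 ≤ Fintype.card F ^ 2 + 1)).1 h1.symm
        simpa using h3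
      have h3 := hp.out.dvd_of_dvd_pow h2
      rw [hF] at h3
      have h4 := hp.out.dvd_of_dvd_pow h3
      exact hp2 ((Nat.prime_dvd_prime_iff_eq hp.out Nat.prime_two).1 h4)
    have hk2 : 1 < Nat.card (MulAction.fixedPoints (P : Subgroup (Sz F m)) (suzukiOvoid F m)) := by
      have : 0 < k := Nat.pos_of_ne_zero hk0
      omega
    haveI := (Finite.one_lt_card_iff_nontrivial).1 hk2
    obtain ⟨⟨a, ha⟩, ⟨b, hb⟩, hab⟩ := exists_pair_ne (MulAction.fixedPoints (P : Subgroup (Sz F m)) (suzukiOvoid F m))
    have hab' : (a : Projectivization F (Fin 4 → F)) ≠ b := fun h => hab (Subtype.ext (Subtype.ext h))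
    obtain ⟨t, ht, e1, e2⟩ := exists_move2 hF hm a.2 b.2 hab'
    rw [← zero_eq hF hm] at e2
    set tt : Sz F m := ⟨t, ht⟩ with htt
    -- the homomorphism to the two-point stabiliser
    have hmem : ∀ x : (P : Subgroup (Sz F m)), tt⁻¹ * x * tt ∈ MulAction.stabilizer (Sz F m) ∞' ⊓ MulAction.stabilizer (Sz F m) (suzukiPointZero F) := by
      intro x
      have hxa : ((x : Sz F m) : SL4) • (a : Projectivization F (Fin 4 → F)) = a := congrArg Subtype.val (ha x)
      have hxb : ((x : Sz F m) : SL4) • (b : Projectivization F (Fin 4 → F)) = b := congrArg Subtype.val (hb x)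
      refine Subgroup.mem_inf.2 ⟨?_, ?_⟩
      · show (t⁻¹ * ((x : Sz F m) : SL4) * t) • ∞' = ∞'
        rw [mul_smul, mul_smul, e1, hxa, ← e1, inv_smul_smul]
      · show (t⁻¹ * ((x : Sz F m) : SL4) * t) • suzukiPointZero F = suzukiPointZero F
        rw [mul_smul, mul_smul, e2, hxb, ← e2, inv_smul_smul]
    let ψ : (P : Subgroup (Sz F m)) →* ↥(MulAction.stabilizer (Sz F m) ∞' ⊓ MulAction.stabilizer (Sz F m) (suzukiPointZero F)) :=
      { toFun := fun x => ⟨tt⁻¹ * x * tt, hmem x⟩
        map_one' := by
          apply Subtype.ext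
          show tt⁻¹ * ((1 : (P : Subgroup (Sz F m))) : Sz F m) * tt = 1
          simp
        map_mul' := fun x y => by
          apply Subtype.ext
          show tt⁻¹ * ((x * y : (P : Subgroup (Sz F m))) : Sz F m) * tt = (tt⁻¹ * x * tt) * (tt⁻¹ * y * tt)
          simp only [Subgroup.coe_mul]
          group }
    have hψ : Function.Injective ψ := by
      intro x y h
      have h1 : tt⁻¹ * (x : Sz F m) * tt = tt⁻¹ * y * tt := congrArg Subtype.val h
      apply Subtype.ext
      exact mul_left_cancel (mul_right_cancel h1)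
    obtain ⟨e⟩ := two_pt_iso hF hm
    haveI : IsCyclic ↥(MulAction.stabilizer (Sz F m) ∞' ⊓ MulAction.stabilizer (Sz F m) (suzukiPointZero F)) :=
      isCyclic_of_injective e.toMonoidHom e.injective
    exact isCyclic_of_injective ψ hψ

end

end CfsgLib.Sz
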