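/-
The tori of order dividing `q² + 1` in the Suzuki group.
-/
import Cfsg.Agent.Lib.Sz.Elements

set_option autoImplicit false

namespace CfsgLib.Sz

open Matrix Cfsg
open scoped Pointwise MatrixGroups

/-- The order of a group acting freely divides the number of points. -/
lemma card_dvd_of_free {A Ω : Type*} [Group A] [Finite A] [MulAction A Ω] [Finite Ω] (hfree : ∀ (a : A) (x : Ω), a • x = x → a = 1) : Nat.card A ∣ Nat.card Ω := by
  classical
  haveI := Fintype.ofFinite Ω
  haveI := Fintype.ofFinite A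
  have e := Nat.card_congr (MulAction.selfEquivSigmaOrbits A Ω)
  rw [Nat.card_sigma] at e
  rw [e]
  apply Finset.dvd_sum
  intro ω _
  have hst : MulAction.stabilizer A ((Quotient.out ω : Ω)) = ⊥ := by
    rw [eq_bot_iff]
    intro a ha
    exact hfree a _ ha
  have h1 := MulAction.card_orbit_mul_card_stabilizer_eq_card_group A (Quotient.out ω : Ω)
  have h2 : Nat.card (MulAction.orbit A (Quotient.out ω : Ω)) = Nat.card A := by
    have e2 := Nat.card_congr (MulAction.orbitEquivQuotientStabilizer A (Quotient.out ω : Ω))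
    rw [e2, hst]
    exact Nat.card_congr (QuotientGroup.quotientBot.toEquiv)
  exact dvd_of_eq h2.symm

noncomputable section singer

variable {F E : Type*} [Field F] [Fintype F] [Field E] [Algebra F E] [Finite E] (b : Module.Basis (Fin 4) F E)

/-- A group conjugated into the Singer cycle embeds into the units of `E`. -/
lemma embed_units {K : Type*} [Group K] (j : K →* GL (Fin 4) F) (hj : Function.Injective j) (h : GL (Fin 4) F) (hh : ∀ x, h * j x * h⁻¹ ∈ (sing b).range) :
    ∃ φ : K →* Eˣ, Function.Injective φ ∧ ∀ x, sing b (φ x) = h * j x * h⁻¹ := by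
  choose f hf using hh
  let φ : K →* Eˣ :=
    { toFun := f
      map_one' := by
        apply sing_inj b
        rw [hf]
        simp
      map_mul' := fun x y => by
        apply sing_inj b
        rw [map_mul, hf, hf, hf, map_mul]
        group }
  refine ⟨φ, ?_, hf⟩
  intro x y hxy
  have h1 : f x = f y := hxy
  have h2 := hf x
  rw [h1, hf y] at h2
  have h3 := mul_right_cancel h2
  exact hj (mul_left_cancel h3).symm

end singer

section

variable {F : Type*} [Field F] [Fintype F] {m : ℕ}

local notation "SL4" => Matrix.SpecialLinearGroup (Fin 4) F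

local notation "θm" => (2 ^ (m + 1) : ℕ)

local notation "∞'" => suzukiPointInfinity F

/-- Fixed point free elements. -/
def Fpf (g : Sz F m) : Prop := ∀ a : suzukiOvoid F m, g • a ≠ a

lemma Fpf.ne_one {g : Sz F m} (hg : Fpf g) : g ≠ 1 := by
  rintro rfl
  exact hg ⟨_, inf_mem⟩ (one_smul _ _)

instance finite_O : Finite (suzukiOvoid F m) := ovoid_finite.to_subtype

variable (hF : Fintype.card F = 2 ^ (2 * m + 1)) (hm : 1 ≤ m)

include hF hm

/-- Two fixed points are fixed by whatever commutes. -/
lemma two_fixed_comm {z c : Sz F m} (hz1 : z ≠ 1) {a b : suzukiOvoid F m} (hab : a ≠ b) (h1 : z • a = a) (h2 : z • b = b) (hcomm : c * z = z * c) : c • a = a ∧ c • b = b := by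
  have := fix_two_comm hF hm z.2 c.2 (fun h => hz1 (Subtype.ext h)) a.2 b.2 (fun h => hab (Subtype.ext h)) (congrArg Subtype.val h1) (congrArg Subtype.val h2) (congrArg Subtype.val hcomm)
  exact ⟨Subtype.ext this.1, Subtype.ext this.2⟩

lemma fpf_comm {g h : Sz F m} (hg : Fpf g) (hh : h ≠ 1) (hc : h * g = g * h) : Fpf h := by
  intro a ha
  have hga : g • a ≠ a := hg a
  have h3 : h • (g • a) = g • a := by
    rw [← mul_smul, hc, mul_smul, ha]
  exact hga (two_fixed_comm hF hm hh (Ne.symm hga) ha h3 hc.symm).1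

omit hm in
/-- An element of prime order without fixed points has order dividing the number of points. -/
lemma prime_dvd_of_fpf {z : Sz F m} {p : ℕ} [Fact p.Prime] (hz : orderOf z = p) (hfix : Fpf z) : p ∣ Fintype.card F ^ 2 + 1 := by
  have hP : IsPGroup p (Subgroup.zpowers z) := by
    apply IsPGroup.of_card (n := 1)
    rw [Nat.card_zpowers, hz, pow_one]
  have h1 := hP.card_modEq_card_fixedPoints (suzukiOvoid F m)
  have h2 : Nat.card (MulAction.fixedPoints (Subgroup.zpowers z) (suzukiOvoid F m)) = 0 := by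
    rw [Nat.card_eq_zero]
    left
    rw [Set.isEmpty_coe_sort, Set.eq_empty_iff_forall_notMem]
    intro a ha
    exact hfix a (ha ⟨z, Subgroup.mem_zpowers z⟩)
  rw [h2, card_ovoid] at h1
  exact Nat.modEq_zero_iff_dvd.1 h1

/-- A fixed point free element has a power of odd prime order dividing `q² + 1`. -/
lemma fpf_prime {g : Sz F m} (hg : Fpf g) : ∃ (z : Sz F m) (p : ℕ), p.Prime ∧ orderOf z = p ∧ p ≠ 2 ∧ p ∣ Fintype.card F ^ 2 + 1 ∧ z ∈ Subgroup.zpowers g := by
  have hg1 := hg.ne_one
  have hn1 : orderOf g ≠ 1 := fun h => hg1 (orderOf_eq_one_iff.1 h)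
  haveI hfp : Fact (Nat.minFac (orderOf g)).Prime := ⟨Nat.minFac_prime hn1⟩
  set p := Nat.minFac (orderOf g) with hp
  have hdvd : p ∣ orderOf g := Nat.minFac_dvd _
  have hn0 : orderOf g ≠ 0 := (orderOf_pos g).ne'
  set z : Sz F m := g ^ (orderOf g / p) with hz
  have hzord : orderOf z = p := by
    rw [hz, orderOf_pow_orderOf_div hn0 hdvd]
  have hz1 : z ≠ 1 := by
    intro h
    rw [h, orderOf_one] at hzord
    exact hfp.out.one_lt.ne hzord
  have hc : z * g = g * z := (Commute.refl g).pow_left _
  have hzf := fpf_comm hF hm hg hz1 hc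
  have hpO := prime_dvd_of_fpf hF hzord hzf
  have hp2 : p ≠ 2 := by
    intro h
    rw [h] at hpO
    exact odd_card_O hF hpO
  exact ⟨z, p, hfp.out, hzord, hp2, hpO, Subgroup.npow_mem_zpowers g _⟩

/-- The centraliser of a fixed point free element embeds into the Singer cycle. -/
theorem fpf_embed {g : Sz F m} (hg : Fpf g) : ∃ (E : Type) (_ : Field E) (_ : Algebra F E) (_ : Finite E) (b : Module.Basis (Fin 4) F E) (h : GL (Fin 4) F),
    ∀ x : Sz F m, x * g = g * x → h * iGL x * h⁻¹ ∈ (sing b).range := by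
  obtain ⟨z, p, hpp, hz, hp2, hpd, hzg⟩ := fpf_prime hF hm hg
  haveI : Fact p.Prime := ⟨hpp⟩
  obtain ⟨E, _, _, _, ⟨b⟩⟩ := exists_singer (F := F) hF
  have hzord' : orderOf (iGL z) = p := by
    rw [orderOf_injective iGL iGL_inj, hz]
  obtain ⟨h, hh⟩ := centralizer_conj b hp2 hpd (iGL z) hzord'
  refine ⟨E, inferInstance, inferInstance, inferInstance, b, h, fun x hx => hh _ ?_⟩
  rw [← map_mul, ← map_mul]
  obtain ⟨k, rfl⟩ := hzg
  have : Commute x g := hx
  exact congrArg _ ((this.zpow_right k).eq)

/-- The centraliser of a fixed point free element is commutative and cyclic. -/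
theorem fpf_cent {g : Sz F m} (hg : Fpf g) : IsCyclic (Subgroup.centralizer ({g} : Set (Sz F m))) ∧ ∀ x y : Subgroup.centralizer ({g} : Set (Sz F m)), x * y = y * x := by
  obtain ⟨E, _, _, _, b, h, hh⟩ := fpf_embed hF hm hg
  have hcomm : ∀ x : Subgroup.centralizer ({g} : Set (Sz F m)), (x : Sz F m) * g = g * x := by
    intro x
    exact (Subgroup.mem_centralizer_iff.1 x.2 g (Set.mem_singleton g)).symm
  obtain ⟨φ, hφ, -⟩ := embed_units b (iGL.comp (Subgroup.centralizer ({g} : Set (Sz F m))).subtype)
    (iGL_inj.comp Subtype.val_injective) h (fun x => hh _ (hcomm x))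
  refine ⟨isCyclic_of_injective φ hφ, fun x y => hφ ?_⟩
  rw [map_mul, map_mul, mul_comm]

/-- Elements commuting with a fixed point free element. -/
lemma fpf_cent_comm {g x y : Sz F m} (hg : Fpf g) (hx : x * g = g * x) (hy : y * g = g * y) : x * y = y * x := by
  have h1 : x ∈ Subgroup.centralizer ({g} : Set (Sz F m)) := by
    rw [Subgroup.mem_centralizer_singleton_iff]
    exact hx
  have h2 : y ∈ Subgroup.centralizer ({g} : Set (Sz F m)) := by
    rw [Subgroup.mem_centralizer_singleton_iff]
    exact hy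
  exact congrArg Subtype.val ((fpf_cent hF hm hg).2 ⟨x, h1⟩ ⟨y, h2⟩)

/-- Non-trivial elements of a centraliser of a fixed point free element. -/
theorem fpf_cent_eq {g a : Sz F m} (hg : Fpf g) (ha : a ∈ Subgroup.centralizer ({g} : Set (Sz F m))) (ha1 : a ≠ 1) :
    Fpf a ∧ Subgroup.centralizer ({a} : Set (Sz F m)) = Subgroup.centralizer ({g} : Set (Sz F m)) := by
  rw [Subgroup.mem_centralizer_singleton_iff] at ha
  have hfa := fpf_comm hF hm hg ha1 ha
  refine ⟨hfa, ?_⟩
  ext c
  rw [Subgroup.mem_centralizer_singleton_iff, Subgroup.mem_centralizer_singleton_iff]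
  constructor
  · intro hc
    exact fpf_cent_comm hF hm hfa hc ha.symm
  · intro hc
    exact fpf_cent_comm hF hm hg hc ha

end

end CfsgLib.Sz
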