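/-
Counting the elements of the Suzuki group: classes of tori and fixed point free elements.
-/
import Cfsg.Agent.Lib.Sz.Torus

set_option autoImplicit false

namespace CfsgLib.Sz

open Matrix Cfsg
open scoped Pointwise MatrixGroups

/-- The elements conjugate into `A`, the identity excepted. -/
def classOf {G : Type*} [Group G] (A : Subgroup G) : Set G := {y | y ≠ 1 ∧ ∃ x : G, x⁻¹ * y * x ∈ A}

/-- Counting the elements conjugate into a subgroup all of whose non-trivial elements determine it. -/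
theorem class_count {G : Type*} [Group G] [Finite G] (A : Subgroup G)
    (hN : ∀ a ∈ A, a ≠ 1 → ∀ n : G, n⁻¹ * a * n ∈ A → n ∈ Subgroup.normalizer (A : Set G)) :
    Nat.card (classOf A) * Nat.card (Subgroup.normalizer (A : Set G)) = Nat.card G * (Nat.card A - 1) := by
  classical
  haveI := Fintype.ofFinite G
  let R : G → G → Prop := fun x y => y ≠ 1 ∧ x⁻¹ * y * x ∈ A
  have hsum := Finset.sum_card_bipartiteAbove_eq_sum_card_bipartiteBelow (s := (Finset.univ : Finset G)) (t := (Finset.univ : Finset G)) R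
  -- the sets for fixed `x`
  have hA : (Finset.univ.filter (fun a : G => a ≠ 1 ∧ a ∈ A)).card = Nat.card A - 1 := by
    have e1 : Nat.card A = (Finset.univ.filter (fun a : G => a ∈ A)).card := by
      rw [Nat.card_eq_fintype_card, Fintype.card_subtype]
    have e2 : (Finset.univ.filter (fun a : G => a ∈ A)) = insert 1 (Finset.univ.filter (fun a : G => a ≠ 1 ∧ a ∈ A)) := by
      ext a
      simp only [Finset.mem_filter, Finset.mem_univ, true_and, Finset.mem_insert]
      constructor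
      · intro h
        by_cases h1 : a = 1
        · exact Or.inl h1
        · exact Or.inr ⟨h1, h⟩
      · rintro (rfl | h)
        · exact A.one_mem
        · exact h.2
    rw [e1, e2, Finset.card_insert_of_notMem (by simp)]
    simp
  have hleft : ∀ x : G, ((Finset.univ : Finset G).bipartiteAbove R x).card = Nat.card A - 1 := by
    intro x
    rw [← hA]
    apply Finset.card_bij (fun y _ => x⁻¹ * y * x)
    · intro y hy
      simp only [Finset.bipartiteAbove, Finset.mem_filter, Finset.mem_univ, true_and, R] at hy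
      simp only [Finset.mem_filter, Finset.mem_univ, true_and]
      refine ⟨?_, hy.2⟩
      intro h
      apply hy.1
      have : y = x * (x⁻¹ * y * x) * x⁻¹ := by group
      rw [this, h]
      group
    · intro y _ y' _ h
      have : x⁻¹ * y = x⁻¹ * y' := mul_right_cancel h
      exact mul_left_cancel this
    · intro a ha
      simp only [Finset.mem_filter, Finset.mem_univ, true_and] at ha
      refine ⟨x * a * x⁻¹, ?_, by group⟩
      simp only [Finset.bipartiteAbove, Finset.mem_filter, Finset.mem_univ, true_and, R]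
      refine ⟨?_, ?_⟩
      · intro h
        apply ha.1
        have : a = x⁻¹ * (x * a * x⁻¹) * x := by group
        rw [this, h]
        group
      · have : x⁻¹ * (x * a * x⁻¹) * x = a := by group
        rw [this]
        exact ha.2
  -- the sets for fixed `y`
  have hcN : Nat.card (Subgroup.normalizer (A : Set G)) = (Finset.univ.filter (fun n : G => n ∈ Subgroup.normalizer (A : Set G))).card := by
    rw [Nat.card_eq_fintype_card, Fintype.card_subtype]
  have hright : ∀ y : G, ((Finset.univ : Finset G).bipartiteBelow R y).card = if y ∈ classOf A then Nat.card (Subgroup.normalizer (A : Set G)) else 0 := by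
    intro y
    by_cases hy : y ∈ classOf A
    · rw [if_pos hy]
      obtain ⟨hy1, x₀, hx₀⟩ := hy
      rw [hcN]
      apply Finset.card_bij (fun x _ => x₀⁻¹ * x)
      · intro x hx
        simp only [Finset.bipartiteBelow, Finset.mem_filter, Finset.mem_univ, true_and, R] at hx
        simp only [Finset.mem_filter, Finset.mem_univ, true_and]
        apply hN _ hx₀ _ _ _
        · intro h
          apply hy1
          have : y = x₀ * (x₀⁻¹ * y * x₀) * x₀⁻¹ := by group
          rw [this, h]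
          group
        · have : (x₀⁻¹ * x)⁻¹ * (x₀⁻¹ * y * x₀) * (x₀⁻¹ * x) = x⁻¹ * y * x := by group
          rw [this]
          exact hx.2
      · intro x _ x' _ h
        exact mul_left_cancel h
      · intro n hn
        simp only [Finset.mem_filter, Finset.mem_univ, true_and] at hn
        refine ⟨x₀ * n, ?_, by group⟩
        simp only [Finset.bipartiteBelow, Finset.mem_filter, Finset.mem_univ, true_and, R]
        refine ⟨hy1, ?_⟩
        have h1 := (Subgroup.mem_normalizer_iff.1 (inv_mem hn) _).1 hx₀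
        have : (x₀ * n)⁻¹ * y * (x₀ * n) = n⁻¹ * (x₀⁻¹ * y * x₀) * n⁻¹⁻¹ := by group
        rw [this]
        exact h1
    · rw [if_neg hy, Finset.card_eq_zero, Finset.eq_empty_iff_forall_notMem]
      intro x hx
      simp only [Finset.bipartiteBelow, Finset.mem_filter, Finset.mem_univ, true_and, R] at hx
      exact hy ⟨hx.1, x, hx.2⟩
  rw [Finset.sum_congr rfl (fun x _ => hleft x), Finset.sum_congr rfl (fun y _ => hright y)] at hsum
  rw [Finset.sum_const, smul_eq_mul, Finset.card_univ, Finset.sum_ite] at hsum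
  simp only [Finset.sum_const, smul_eq_mul, mul_zero, add_zero] at hsum
  rw [Nat.card_eq_fintype_card (α := G), hsum]
  congr 1
  rw [Nat.card_eq_fintype_card, Fintype.card_subtype]

section arith

/-- The arithmetic when there is a single class of tori. -/
lemma arith_one {q W c y n : ℕ} (hq : 8 ≤ q) (hW : 0 < W) (hc : c = q ^ 2 + 1) (hn : n ≤ 4)
    (h1 : y * (n * c) = W * c * (c - 1)) (h2 : 2 * y = W * (q * (q - 1))) : False := by
  subst hc
  have hc0 : 0 < q ^ 2 + 1 := by positivity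
  have e1 : y * n = W * q ^ 2 := by
    have : (q ^ 2 + 1) * (y * n) = (q ^ 2 + 1) * (W * q ^ 2) := by
      have e : q ^ 2 + 1 - 1 = q ^ 2 := by omega
      rw [e] at h1
      linarith
    exact Nat.eq_of_mul_eq_mul_left hc0 this
  obtain ⟨p, rfl⟩ : ∃ p, q = p + 1 := ⟨q - 1, by omega⟩
  simp only [Nat.add_sub_cancel] at h2
  have e2 : W * ((p + 1) * p) * n = 2 * (W * (p + 1) ^ 2) := by
    rw [← h2, ← e1]
    ring
  have e3 : (p + 1) * (p * n) = (p + 1) * (2 * (p + 1)) := by
    have : W * ((p + 1) * (p * n)) = W * ((p + 1) * (2 * (p + 1))) := by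
      linarith
    exact Nat.eq_of_mul_eq_mul_left hW this
  have e4 : p * n = 2 * (p + 1) := Nat.eq_of_mul_eq_mul_left (by omega) e3
  interval_cases n <;> omega

/-- A lower bound for the size of a class of tori. -/
lemma arith_low {W c y n a : ℕ} (ha : 5 ≤ a) (hn : n ≤ 4) (h1 : y * (n * a) = W * c * (a - 1)) : W * c ≤ 5 * y := by
  obtain ⟨b, rfl⟩ : ∃ b, a = b + 1 := ⟨a - 1, by omega⟩
  simp only [Nat.add_sub_cancel] at h1
  have h2 : y * (n * (b + 1)) ≤ y * (4 * (b + 1)) := Nat.mul_le_mul_left _ (Nat.mul_le_mul_right _ hn)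
  have h3 : 4 * (b + 1) * (W * c) ≤ 4 * (b + 1) * (5 * y) := by
    have h4 : 4 * (b + 1) ≤ 5 * b := by omega
    calc 4 * (b + 1) * (W * c) ≤ 5 * b * (W * c) := Nat.mul_le_mul_right _ h4
      _ = 5 * (W * c * b) := by ring
      _ = 5 * (y * (n * (b + 1))) := by rw [h1]
      _ ≤ 5 * (y * (4 * (b + 1))) := Nat.mul_le_mul_left _ h2
      _ = 4 * (b + 1) * (5 * y) := by ring
  exact Nat.le_of_mul_le_mul_left h3 (by omega)

/-- The arithmetic excluding three classes of tori. -/
lemma arith_three {q W c x y₁ y₂ y₃ : ℕ} (hW : 0 < W) (hc : c = q ^ 2 + 1) (h1 : W * c ≤ 5 * y₁) (h2 : W * c ≤ 5 * y₂) (h3 : W * c ≤ 5 * y₃)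
    (hx : y₁ + y₂ + y₃ ≤ x) (h4 : 2 * x = W * (q * (q - 1))) : False := by
  subst hc
  have e1 : 6 * (W * (q ^ 2 + 1)) ≤ 5 * (W * (q * (q - 1))) := by
    rw [← h4]
    omega
  have e2 : q * (q - 1) ≤ q ^ 2 := by
    rw [pow_two]
    exact Nat.mul_le_mul_left _ (Nat.sub_le _ _)
  have e3 : 6 * (q ^ 2 + 1) ≤ 5 * (q * (q - 1)) := by
    have : W * (6 * (q ^ 2 + 1)) ≤ W * (5 * (q * (q - 1))) := by
      calc W * (6 * (q ^ 2 + 1)) = 6 * (W * (q ^ 2 + 1)) := by ring
        _ ≤ 5 * (W * (q * (q - 1))) := e1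
        _ = _ := by ring
    exact Nat.le_of_mul_le_mul_left this hW
  omega

/-- The arithmetic when there are two classes of tori. -/
lemma arith_two {q W c a₁ a₂ y₁ y₂ n₁ n₂ : ℕ} (hW : 0 < W) (hc : c = q ^ 2 + 1) (ha₁ : 5 ≤ a₁) (ha₂ : 5 ≤ a₂) (hprod : a₁ * a₂ = c)
    (hn₁ : n₁ = 1 ∨ n₁ = 2 ∨ n₁ = 4) (hn₂ : n₂ = 1 ∨ n₂ = 2 ∨ n₂ = 4)
    (h1 : y₁ * (n₁ * a₁) = W * c * (a₁ - 1)) (h2 : y₂ * (n₂ * a₂) = W * c * (a₂ - 1))
    (h3 : 2 * (y₁ + y₂) = W * (q * (q - 1))) : n₁ = 4 ∧ n₂ = 4 ∧ a₁ + a₂ = 2 * q + 2 := by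
  subst hc
  have hq : 1 ≤ q := by
    by_contra h
    have : q = 0 := by omega
    subst this
    have : a₁ * a₂ ≥ 5 * 5 := Nat.mul_le_mul ha₁ ha₂
    simp at hprod
    nlinarith
  have hc5₁ : 5 * a₁ ≤ q ^ 2 + 1 := by
    rw [← hprod, mul_comm a₁ a₂]
    exact Nat.mul_le_mul_right _ ha₂
  have hc5₂ : 5 * a₂ ≤ q ^ 2 + 1 := by
    rw [← hprod]
    exact Nat.mul_le_mul_right _ ha₁
  -- cancelling
  have e1 : y₁ * n₁ = W * (q ^ 2 + 1 - a₂) := by
    have : a₁ * (y₁ * n₁) = a₁ * (W * (q ^ 2 + 1 - a₂)) := by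
      have e : a₁ * (W * (q ^ 2 + 1 - a₂)) = W * (q ^ 2 + 1) * (a₁ - 1) := by
        rw [← hprod]
        have e' : a₁ * a₂ - a₂ = (a₁ - 1) * a₂ := by
          rw [Nat.sub_mul, one_mul]
        rw [e']
        ring
      rw [e, ← h1]
      ring
    exact Nat.eq_of_mul_eq_mul_left (by omega) this
  have e2 : y₂ * n₂ = W * (q ^ 2 + 1 - a₁) := by
    have : a₂ * (y₂ * n₂) = a₂ * (W * (q ^ 2 + 1 - a₁)) := by
      have e : a₂ * (W * (q ^ 2 + 1 - a₁)) = W * (q ^ 2 + 1) * (a₂ - 1) := by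
        rw [← hprod]
        have e' : a₁ * a₂ - a₁ = a₁ * (a₂ - 1) := by
          rw [Nat.mul_sub, mul_one]
        rw [e']
        ring
      rw [e, ← h2]
      ring
    exact Nat.eq_of_mul_eq_mul_left (by omega) this
  have hq2 : q * (q - 1) + q = q ^ 2 := by
    obtain ⟨p, rfl⟩ : ∃ p, q = p + 1 := ⟨q - 1, by omega⟩
    simp only [Nat.add_sub_cancel]
    ring
  have hcan : ∀ X Y : ℕ, W * X ≤ W * Y → X ≤ Y := fun X Y h => Nat.le_of_mul_le_mul_left h hW
  have e3 : 4 * y₁ + 4 * y₂ = W * (2 * (q * (q - 1))) := by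
    have : 4 * y₁ + 4 * y₂ = 2 * (2 * (y₁ + y₂)) := by ring
    rw [this, h3]
    ring
  have big : ∀ X Y : ℕ, W * X ≤ 4 * y₁ → W * Y ≤ 4 * y₂ → X + Y ≤ 2 * (q * (q - 1)) := by
    intro X Y hX hY
    apply hcan
    rw [mul_add, ← e3]
    omega
  have n2le : W * (q ^ 2 + 1 - a₁) ≤ 4 * y₂ := by
    rw [← e2]
    rcases hn₂ with rfl | rfl | rfl <;> omega
  have n1le : W * (q ^ 2 + 1 - a₂) ≤ 4 * y₁ := by
    rw [← e1]
    rcases hn₁ with rfl | rfl | rfl <;> omega
  have hW2 : ∀ Z : ℕ, W * (2 * Z) = 2 * (W * Z) := fun Z => by ring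
  rcases hn₁ with rfl | rfl | rfl
  · exfalso
    have := big (2 * (q ^ 2 + 1 - a₂)) (q ^ 2 + 1 - a₁) (by rw [hW2, ← e1]; omega) n2le
    omega
  · exfalso
    have := big (2 * (q ^ 2 + 1 - a₂)) (q ^ 2 + 1 - a₁) (by rw [hW2, ← e1]; omega) n2le
    omega
  · rcases hn₂ with rfl | rfl | rfl
    · exfalso
      have := big (q ^ 2 + 1 - a₂) (2 * (q ^ 2 + 1 - a₁)) n1le (by rw [hW2, ← e2]; omega)
      omega
    · exfalso
      have := big (q ^ 2 + 1 - a₂) (2 * (q ^ 2 + 1 - a₁)) n1le (by rw [hW2, ← e2]; omega)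
      omega
    · refine ⟨rfl, rfl, ?_⟩
      have e5 : W * ((q ^ 2 + 1 - a₂) + (q ^ 2 + 1 - a₁)) = W * (2 * (q * (q - 1))) := by
        rw [mul_add, ← e1, ← e2, ← e3]
        ring
      have e6 := Nat.eq_of_mul_eq_mul_left hW e5
      omega

end arith

end CfsgLib.Sz
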