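/-
Covers of the Suzuki groups by nilpotent subgroups.
-/
import Cfsg.Agent.Lib.Sz.Aut
import Cfsg.Agent.Lib.Sz.Torus

set_option autoImplicit false

namespace CfsgLib.Sz

open Matrix Cfsg
open scoped Pointwise

/-- An abstract criterion for the non-existence of a minimal nilpotent cover. -/
theorem no_nilp_cover {G : Type*} [Group G] (B : Subgroup G) (hB : B ≠ ⊤) (x t : G)
    (hA1 : ∀ A : Subgroup G, Group.IsNilpotent A → x ∈ A → A ≤ B)
    (hA2 : ∀ A : Subgroup G, Group.IsNilpotent A → t ∈ A → A ≤ B)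
    (hne : ∀ A : Subgroup G, Group.IsNilpotent A → x ∈ A → t ∈ A → False) :
    ¬ ∃ 𝓐 : Finset (Subgroup G), ((∀ A ∈ 𝓐, A ≠ ⊤) ∧ (∀ g : G, ∃ A ∈ 𝓐, g ∈ A)) ∧
      (∀ 𝓑 : Finset (Subgroup G), (∀ A ∈ 𝓑, A ≠ ⊤) ∧ (∀ g : G, ∃ A ∈ 𝓑, g ∈ A) → 𝓐.card ≤ 𝓑.card) ∧
      (∀ A ∈ 𝓐, Group.IsNilpotent A) := by
  classical
  rintro ⟨𝓐, ⟨hprop, hcov⟩, hmin, hnil⟩
  obtain ⟨A₁, hA₁, hx⟩ := hcov x
  obtain ⟨A₂, hA₂, ht⟩ := hcov t
  have hne12 : A₁ ≠ A₂ := by
    rintro rfl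
    exact hne A₁ (hnil A₁ hA₁) hx ht
  let f : Subgroup G → Subgroup G := fun A => if A ≤ B then B else A
  have h1 := hmin (𝓐.image f) ⟨?_, ?_⟩
  · have h2 : (𝓐.image f).card = 𝓐.card := le_antisymm Finset.card_image_le h1
    have h3 := Finset.card_image_iff.1 h2
    have h4 : f A₁ = f A₂ := by
      simp only [f, if_pos (hA1 A₁ (hnil A₁ hA₁) hx), if_pos (hA2 A₂ (hnil A₂ hA₂) ht)]
    exact hne12 (h3 hA₁ hA₂ h4)
  · intro A hA
    obtain ⟨A', hA', rfl⟩ := Finset.mem_image.1 hA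
    by_cases h : A' ≤ B
    · simp only [f, if_pos h]
      exact hB
    · simp only [f, if_neg h]
      exact hprop A' hA'
  · intro g
    obtain ⟨A, hA, hg⟩ := hcov g
    refine ⟨f A, Finset.mem_image_of_mem f hA, ?_⟩
    by_cases h : A ≤ B
    · simp only [f, if_pos h]
      exact h hg
    · simp only [f, if_neg h]
      exact hg

section

variable {F : Type*} [Field F] [Fintype F] {m : ℕ}

local notation "SL4" => Matrix.SpecialLinearGroup (Fin 4) F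

local notation "θm" => (2 ^ (m + 1) : ℕ)

local notation "∞'" => suzukiPointInfinity F

variable (hF : Fintype.card F = 2 ^ (2 * m + 1)) (hm : 1 ≤ m)

/-- The point at infinity as a point of the ovoid. -/
def ptInf : suzukiOvoid F m := ⟨∞', inf_mem⟩

/-- A finite point as a point of the ovoid. -/
def ptP (x y : F) : suzukiOvoid F m := ⟨P θm x y, P_mem x y⟩

include hF hm

lemma S_unique_fix {a b : F} (hab : a ≠ 0 ∨ b ≠ 0) {p : suzukiOvoid F m} (h : sS hF a b • p = p) : p = ptInf := by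
  obtain ⟨p, hp⟩ := p
  rcases ovoid_cases hp with rfl | ⟨x, y, rfl⟩
  · rfl
  · exfalso
    have e : ((sS hF a b : ↥(Sz F m)) : SL4) • P θm x y = P θm x y := congrArg Subtype.val h
    rw [sS_P] at e
    obtain ⟨e1, e2⟩ := P_inj e
    have ha : a = 0 := by simpa using e1
    subst ha
    have hθ0 : (0 : F) ^ θm = 0 := zero_pow (by positivity)
    have hb : b = 0 := by simpa [hθ0] using e2
    rcases hab with h | h
    · exact h rfl
    · exact h hb

lemma S_fix_inf (a b : F) : sS hF a b • (ptInf : suzukiOvoid F m) = ptInf :=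
  Subtype.ext (sS_inf hF a b)

lemma M_fix_inf (α : Fˣ) : sM hF α • (ptInf : suzukiOvoid F m) = ptInf :=
  Subtype.ext (sM_inf hF α)

lemma M_fix_zero (α : Fˣ) : sM hF α • (ptP 0 0 : suzukiOvoid F m) = ptP 0 0 := by
  apply Subtype.ext
  show ((sM hF α : ↥(Sz F m)) : SL4) • P θm (0 : F) 0 = P θm (0 : F) 0
  rw [sM_P]
  simp

lemma ptInf_ne (x y : F) : (ptInf : suzukiOvoid F m) ≠ ptP x y := by
  intro h
  exact P_ne_inf _ _ (congrArg Subtype.val h).symm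

/-- Central elements of nilpotent subgroups containing a translation. -/
lemma center_of_S {A : Subgroup ↥(Sz F m)} {a b : F} (hab : a ≠ 0 ∨ b ≠ 0) (hx : sS hF a b ∈ A)
    {z : ↥(Sz F m)} (hz : z ≠ 1) (hzA : ∀ y ∈ A, y * z = z * y) :
    z • (ptInf : suzukiOvoid F m) = ptInf ∧ ∀ p : suzukiOvoid F m, z • p = p → p = ptInf := by
  have hzinf : z • (ptInf : suzukiOvoid F m) = ptInf := by
    apply S_unique_fix hF hm hab
    rw [← mul_smul, hzA _ hx, mul_smul, S_fix_inf hF hm]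
  refine ⟨hzinf, fun p hp => ?_⟩
  by_contra hne
  have h := two_fixed_comm hF hm hz (a := ptInf) (b := p) (Ne.symm hne) hzinf hp (hzA _ hx)
  exact hne (S_unique_fix hF hm hab h.2)

/-- The existence of a central element. -/
lemma exists_central {A : Subgroup ↥(Sz F m)} (hA : Group.IsNilpotent A) {x : ↥(Sz F m)} (hx : x ∈ A) (hx1 : x ≠ 1) :
    ∃ z : ↥(Sz F m), z ≠ 1 ∧ ∀ y ∈ A, y * z = z * y := by
  haveI : Nontrivial A := ⟨⟨⟨x, hx⟩, 1, fun h => hx1 (congrArg Subtype.val h)⟩⟩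
  have h := Group.IsNilpotent.center_ne_bot (G := A)
  obtain ⟨z, hz, hz1⟩ := (Subgroup.ne_bot_iff_exists_ne_one.1 h |>.elim fun z hz => ⟨z.1, z.2, fun e => hz (Subtype.ext e)⟩ : ∃ z : A, z ∈ Subgroup.center A ∧ z ≠ 1)
  refine ⟨z, fun h => hz1 (Subtype.ext h), fun y hy => ?_⟩
  exact congrArg Subtype.val ((Subgroup.mem_center_iff.1 hz) ⟨y, hy⟩)

lemma sS_ne_one {a b : F} (hab : a ≠ 0 ∨ b ≠ 0) : sS hF a b ≠ 1 := by
  intro h
  rw [← sS_zero hF hm] at h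
  obtain ⟨h1, h2⟩ := sS_inj hF hm h
  rcases hab with h | h
  · exact h h1
  · exact h h2

lemma sM_ne_one {α : Fˣ} (hα : α ≠ 1) : sM hF α ≠ 1 := by
  intro h
  have hp : (sM hF α) • (ptP (1 : F) 0 : suzukiOvoid F m) = ptP (1 : F) 0 := by
    rw [h, one_smul]
  have e : ((sM hF α : ↥(Sz F m)) : SL4) • P θm (1 : F) 0 = P θm (1 : F) 0 := congrArg Subtype.val hp
  rw [sM_P] at e
  have e1 := (P_inj e).1
  apply hα
  apply Units.ext
  simpa using e1

/-- A nilpotent subgroup containing a translation fixes the point at infinity. -/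
theorem nil_S {A : Subgroup ↥(Sz F m)} (hA : Group.IsNilpotent A) {a b : F} (hab : a ≠ 0 ∨ b ≠ 0) (hx : sS hF a b ∈ A) :
    ∀ y ∈ A, y • (ptInf : suzukiOvoid F m) = ptInf := by
  obtain ⟨z, hz, hzA⟩ := exists_central hF hm hA hx (sS_ne_one hF hm hab)
  obtain ⟨h1, h2⟩ := center_of_S hF hm hab hx hz hzA
  intro y hy
  apply h2
  rw [← mul_smul, ← hzA y hy, mul_smul, h1]

/-- A nilpotent subgroup containing a torus element fixes the point at infinity. -/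
theorem nil_M {A : Subgroup ↥(Sz F m)} (hA : Group.IsNilpotent A) {α : Fˣ} (hα : α ≠ 1) (ht : sM hF α ∈ A) :
    ∀ y ∈ A, y • (ptInf : suzukiOvoid F m) = ptInf ∧ y • (ptP 0 0 : suzukiOvoid F m) = ptP 0 0 := by
  obtain ⟨z, hz, hzA⟩ := exists_central hF hm hA ht (sM_ne_one hF hm hα)
  have h1 := two_fixed_comm hF hm (sM_ne_one hF hm hα) (ptInf_ne hF hm 0 0) (M_fix_inf hF hm α) (M_fix_zero hF hm α) (hzA _ ht).symm
  intro y hy
  exact two_fixed_comm hF hm hz (ptInf_ne hF hm 0 0) h1.1 h1.2 (hzA y hy)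

/-- No nilpotent subgroup contains both a translation and a torus element. -/
theorem nil_SM {A : Subgroup ↥(Sz F m)} (hA : Group.IsNilpotent A) {a b : F} (hab : a ≠ 0 ∨ b ≠ 0) (hx : sS hF a b ∈ A) {α : Fˣ} (hα : α ≠ 1) (ht : sM hF α ∈ A) : False := by
  obtain ⟨z, hz, hzA⟩ := exists_central hF hm hA ht (sM_ne_one hF hm hα)
  have h1 := two_fixed_comm hF hm (sM_ne_one hF hm hα) (ptInf_ne hF hm 0 0) (M_fix_inf hF hm α) (M_fix_zero hF hm α) (hzA _ ht).symm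
  obtain ⟨-, h2⟩ := center_of_S hF hm hab hx hz hzA
  exact ptInf_ne hF hm 0 0 (h2 _ h1.2).symm

/-- The statement for the matrix group. -/
theorem no_nilp_cover_sz :
    ¬ ∃ 𝓐 : Finset (Subgroup ↥(Lie.Sz F (2 ^ (m + 1)))), ((∀ A ∈ 𝓐, A ≠ ⊤) ∧ (∀ g : ↥(Lie.Sz F (2 ^ (m + 1))), ∃ A ∈ 𝓐, g ∈ A)) ∧
      (∀ 𝓑 : Finset (Subgroup ↥(Lie.Sz F (2 ^ (m + 1)))), (∀ A ∈ 𝓑, A ≠ ⊤) ∧ (∀ g : ↥(Lie.Sz F (2 ^ (m + 1))), ∃ A ∈ 𝓑, g ∈ A) → 𝓐.card ≤ 𝓑.card) ∧
      (∀ A ∈ 𝓐, Group.IsNilpotent A) := by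
  set e := lieEquiv hF hm with he
  obtain ⟨α₀, hα₀⟩ := exists_unit_ne_one hF hm
  have hab : (1 : F) ≠ 0 ∨ (0 : F) ≠ 0 := Or.inl one_ne_zero
  have hnil : ∀ A' : Subgroup ↥(Lie.Sz F (2 ^ (m + 1))), Group.IsNilpotent A' → Group.IsNilpotent (A'.map e.symm.toMonoidHom) := by
    intro A' hA'
    exact Group.nilpotent_of_surjective (A'.equivMapOfInjective e.symm.toMonoidHom e.symm.injective).toMonoidHom
      (A'.equivMapOfInjective e.symm.toMonoidHom e.symm.injective).surjective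
  have hmem : ∀ (A' : Subgroup ↥(Lie.Sz F (2 ^ (m + 1)))) (x : ↥(Sz F m)), e x ∈ A' → x ∈ A'.map e.symm.toMonoidHom := by
    intro A' x h
    exact ⟨e x, h, by simp⟩
  have hle : ∀ (A' : Subgroup ↥(Lie.Sz F (2 ^ (m + 1)))), (∀ y ∈ A'.map e.symm.toMonoidHom, y • (ptInf : suzukiOvoid F m) = ptInf) →
      A' ≤ (MulAction.stabilizer ↥(Sz F m) (ptInf : suzukiOvoid F m)).map e.toMonoidHom := by
    intro A' h y hy
    refine ⟨e.symm y, h _ ⟨y, hy, rfl⟩, by simp⟩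
  apply no_nilp_cover ((MulAction.stabilizer ↥(Sz F m) (ptInf : suzukiOvoid F m)).map e.toMonoidHom) ?_ (e (sS hF 1 0)) (e (sM hF α₀))
  · intro A' hA' hx
    exact hle A' (nil_S hF hm (hnil A' hA') hab (hmem A' _ hx))
  · intro A' hA' ht
    exact hle A' (fun y hy => (nil_M hF hm (hnil A' hA') hα₀ (hmem A' _ ht) y hy).1)
  · intro A' hA' hx ht
    exact nil_SM hF hm (hnil A' hA') hab (hmem A' _ hx) hα₀ (hmem A' _ ht)
  · intro htop
    have h1 : e (sT hF) ∈ (MulAction.stabilizer ↥(Sz F m) (ptInf : suzukiOvoid F m)).map e.toMonoidHom := by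
      rw [htop]
      trivial
    obtain ⟨y, hy, e2⟩ := h1
    have e3 : y = sT hF := e.injective e2
    subst e3
    have e4 : sT hF • (ptInf : suzukiOvoid F m) = ptInf := hy
    have e5 : ((sT hF : ↥(Sz F m)) : SL4) • ∞' = ∞' := congrArg Subtype.val e4
    rw [sT_inf] at e5
    exact P_ne_inf _ _ e5

end

end CfsgLib.Sz
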