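/-
The exceptional cyclic subgroups of the Suzuki group.
-/
import Cfsg.Agent.Lib.Sz.Count

set_option autoImplicit false

namespace CfsgLib.Sz

open Matrix Cfsg
open scoped Pointwise MatrixGroups

section conj

variable {G : Type*} [Group G]

/-- Conjugacy of subgroups: `B = x A x⁻¹`. -/
def ConjT (A B : Subgroup G) : Prop := ∃ x : G, ∀ y, y ∈ B ↔ x⁻¹ * y * x ∈ A

lemma ConjT.refl (A : Subgroup G) : ConjT A A := ⟨1, fun y => by simp⟩

lemma ConjT.symm {A B : Subgroup G} (h : ConjT A B) : ConjT B A := by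
  obtain ⟨x, hx⟩ := h
  refine ⟨x⁻¹, fun y => ?_⟩
  rw [hx]
  have : x⁻¹ * (x⁻¹⁻¹ * y * x⁻¹) * x = y := by group
  rw [this]

lemma ConjT.trans {A B C : Subgroup G} (h₁ : ConjT A B) (h₂ : ConjT B C) : ConjT A C := by
  obtain ⟨x, hx⟩ := h₁
  obtain ⟨x', hx'⟩ := h₂
  refine ⟨x' * x, fun y => ?_⟩
  rw [hx', hx]
  have : x⁻¹ * (x'⁻¹ * y * x') * x = (x' * x)⁻¹ * y * (x' * x) := by group
  rw [this]

lemma ConjT.card_eq {A B : Subgroup G} (h : ConjT A B) : Nat.card A = Nat.card B := by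
  obtain ⟨x, hx⟩ := h
  symm
  apply Nat.card_congr
  exact
    { toFun := fun y => ⟨x⁻¹ * y * x, (hx y).1 y.2⟩
      invFun := fun a => ⟨x * a * x⁻¹, (hx _).2 (by
        have : x⁻¹ * (x * (a : G) * x⁻¹) * x = a := by group
        rw [this]
        exact a.2)⟩
      left_inv := fun y => by
        apply Subtype.ext
        show x * (x⁻¹ * y * x) * x⁻¹ = y
        group
      right_inv := fun a => by
        apply Subtype.ext
        show x⁻¹ * (x * a * x⁻¹) * x = a
        group }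

lemma ConjT.classOf_eq {A B : Subgroup G} (h : ConjT A B) : classOf A = classOf B := by
  obtain ⟨x, hx⟩ := h
  ext y
  constructor
  · rintro ⟨h1, k, hk⟩
    refine ⟨h1, k * x⁻¹, (hx _).2 ?_⟩
    have : x⁻¹ * ((k * x⁻¹)⁻¹ * y * (k * x⁻¹)) * x = k⁻¹ * y * k := by group
    rw [this]
    exact hk
  · rintro ⟨h1, k, hk⟩
    refine ⟨h1, k * x, ?_⟩
    have := (hx _).1 hk
    have e : (k * x)⁻¹ * y * (k * x) = x⁻¹ * (k⁻¹ * y * k) * x := by group
    rw [e]
    exact this

lemma three_not_dvd_q (m : ℕ) : 2 ^ (2 * m + 1) % 3 = 2 := by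
  induction m with
  | zero => norm_num
  | succ k ih =>
    have : 2 * (k + 1) + 1 = (2 * k + 1) + 2 := by ring
    rw [this, pow_add, show (2 : ℕ) ^ 2 = 4 by norm_num]
    generalize 2 ^ (2 * k + 1) = X at *
    omega

lemma cyc_comm {P : Type*} [Group P] [IsCyclic P] (x y : P) : x * y = y * x := by
  obtain ⟨c, hc⟩ := IsCyclic.exists_generator (α := P)
  obtain ⟨i, rfl⟩ := hc x
  obtain ⟨j, rfl⟩ := hc y
  exact (zpow_mul_comm c i j)

end conj

section singer

variable {F E : Type*} [Field F] [Fintype F] [Field E] [Algebra F E] [Finite E] (b : Module.Basis (Fin 4) F E)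

/-- Conjugates in the Singer cycle have the same characteristic polynomial. -/
lemma root_of_conj (M₀ W : GL (Fin 4) F) (u : Eˣ) (h : sing b u = W * M₀ * W⁻¹) : Polynomial.aeval (u : E) (M₀ : Matrix (Fin 4) (Fin 4) F).charpoly = 0 := by
  have hL : Algebra.leftMulMatrix b (u : E) = (W : Matrix (Fin 4) (Fin 4) F) * (M₀ : Matrix (Fin 4) (Fin 4) F) * ((W⁻¹ : GL (Fin 4) F) : Matrix (Fin 4) (Fin 4) F) := by
    rw [← sing_coe, h, Units.val_mul, Units.val_mul]
  have hchar : (Algebra.leftMulMatrix b (u : E)).charpoly = (M₀ : Matrix (Fin 4) (Fin 4) F).charpoly := by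
    rw [hL, Matrix.coe_units_inv]
    exact Matrix.charpoly_units_conj W (M₀ : Matrix (Fin 4) (Fin 4) F)
  have h0 : Algebra.leftMulMatrix b (Polynomial.aeval (u : E) (M₀ : Matrix (Fin 4) (Fin 4) F).charpoly) = 0 := by
    have e := Polynomial.aeval_algHom_apply (Algebra.leftMulMatrix b) (u : E) (M₀ : Matrix (Fin 4) (Fin 4) F).charpoly
    rw [← e, ← hchar]
    exact Matrix.aeval_self_charpoly _
  apply Algebra.leftMulMatrix_injective b
  rw [h0, map_zero]

/-- At most four elements of a field annihilate a characteristic polynomial. -/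
lemma card_image_le_four {N : Type*} [Fintype N] [DecidableEq E] (M₀ : Matrix (Fin 4) (Fin 4) F) (ρ : N → E) (hroot : ∀ n, Polynomial.aeval (ρ n) M₀.charpoly = 0) :
    ((Finset.univ : Finset N).image ρ).card ≤ 4 := by
  have hfne : (M₀.charpoly).map (algebraMap F E) ≠ 0 := (Matrix.charpoly_monic M₀).map _ |>.ne_zero
  have h1 : (Finset.univ : Finset N).image ρ ⊆ ((M₀.charpoly).map (algebraMap F E)).roots.toFinset := by
    intro r hr
    obtain ⟨n, -, rfl⟩ := Finset.mem_image.1 hr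
    rw [Multiset.mem_toFinset, Polynomial.mem_roots hfne, Polynomial.IsRoot.def, Polynomial.eval_map_algebraMap]
    exact hroot n
  calc _ ≤ _ := Finset.card_le_card h1
    _ ≤ Multiset.card ((M₀.charpoly).map (algebraMap F E)).roots := Multiset.toFinset_card_le _
    _ ≤ ((M₀.charpoly).map (algebraMap F E)).natDegree := Polynomial.card_roots' _
    _ = (M₀.charpoly).natDegree := Polynomial.natDegree_map _
    _ = 4 := by
      rw [Matrix.charpoly_natDegree_eq_dim]
      simp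

end singer

section

variable {F : Type*} [Field F] [Fintype F] {m : ℕ}

local notation "SL4" => Matrix.SpecialLinearGroup (Fin 4) F

local notation "θm" => (2 ^ (m + 1) : ℕ)

local notation "∞'" => suzukiPointInfinity F

/-- A torus: the centraliser of a fixed point free element. -/
def IsTorus (A : Subgroup (Sz F m)) : Prop := ∃ g : Sz F m, Fpf g ∧ A = Subgroup.centralizer ({g} : Set (Sz F m))

variable (hF : Fintype.card F = 2 ^ (2 * m + 1)) (hm : 1 ≤ m)

include hF hm

theorem torus_mem_eq {A : Subgroup (Sz F m)} (hA : IsTorus A) {a : Sz F m} (ha : a ∈ A) (ha1 : a ≠ 1) :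
    Fpf a ∧ Subgroup.centralizer ({a} : Set (Sz F m)) = A := by
  obtain ⟨g, hg, rfl⟩ := hA
  exact fpf_cent_eq hF hm hg ha ha1

theorem torus_cyclic {A : Subgroup (Sz F m)} (hA : IsTorus A) : IsCyclic A := by
  obtain ⟨g, hg, rfl⟩ := hA
  exact (fpf_cent hF hm hg).1

theorem torus_card_dvd {A : Subgroup (Sz F m)} (hA : IsTorus A) : Nat.card A ∣ Fintype.card F ^ 2 + 1 := by
  rw [← card_ovoid (m := m)]
  apply card_dvd_of_free
  intro a x hx
  by_contra ha1
  have ha1' : (a : Sz F m) ≠ 1 := fun h => ha1 (Subtype.ext h)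
  exact (torus_mem_eq hF hm hA a.2 ha1').1 x hx

omit hm in
lemma c_mod : ¬ 2 ∣ Fintype.card F ^ 2 + 1 ∧ ¬ 3 ∣ Fintype.card F ^ 2 + 1 ∧ ¬ 4 ∣ Fintype.card F ^ 2 + 1 := by
  have h2 := odd_card_O hF
  refine ⟨h2, ?_, fun h => h2 (Dvd.dvd.trans (by norm_num) h)⟩
  rw [hF]
  have h3 := three_not_dvd_q m
  intro h
  have h4 : (2 ^ (2 * m + 1)) ^ 2 % 3 = 1 := by
    rw [Nat.pow_mod, h3]
  omega

theorem torus_five_le {A : Subgroup (Sz F m)} (hA : IsTorus A) : 5 ≤ Nat.card A := by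
  have hd := torus_card_dvd hF hm hA
  obtain ⟨g, hg, rfl⟩ := hA
  obtain ⟨h2, h3, h4⟩ := c_mod hF
  have h1 : Nat.card (Subgroup.centralizer ({g} : Set (Sz F m))) ≠ 1 := by
    intro h
    have h5 := Subgroup.eq_bot_of_card_eq _ h
    have h6 : g ∈ Subgroup.centralizer ({g} : Set (Sz F m)) := by
      rw [Subgroup.mem_centralizer_singleton_iff]
    rw [h5, Subgroup.mem_bot] at h6
    exact hg.ne_one h6
  have h0 : 0 < Nat.card (Subgroup.centralizer ({g} : Set (Sz F m))) := Nat.card_pos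
  by_contra hlt
  push Not at hlt
  generalize Nat.card (Subgroup.centralizer ({g} : Set (Sz F m))) = n at *
  interval_cases n
  · exact h1 rfl
  · exact h2 hd
  · exact h3 hd
  · exact h4 hd

theorem torus_hN {A : Subgroup (Sz F m)} (hA : IsTorus A) : ∀ a ∈ A, a ≠ 1 → ∀ n : Sz F m, n⁻¹ * a * n ∈ A → n ∈ Subgroup.normalizer (A : Set (Sz F m)) := by
  intro a ha ha1 n hn
  have hb1 : n⁻¹ * a * n ≠ 1 := by
    intro h
    apply ha1
    have : a = n * (n⁻¹ * a * n) * n⁻¹ := by group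
    rw [this, h]
    group
  have e1 := (torus_mem_eq hF hm hA ha ha1).2
  have e2 := (torus_mem_eq hF hm hA hn hb1).2
  rw [Subgroup.mem_normalizer_iff]
  intro y
  have h1 : y ∈ A ↔ y * (n⁻¹ * a * n) = (n⁻¹ * a * n) * y := by
    rw [← e2, Subgroup.mem_centralizer_singleton_iff]
  have h2 : n * y * n⁻¹ ∈ A ↔ (n * y * n⁻¹) * a = a * (n * y * n⁻¹) := by
    rw [← e1, Subgroup.mem_centralizer_singleton_iff]
  rw [h1, h2]
  constructor
  · intro h
    have : n * (y * (n⁻¹ * a * n)) * n⁻¹ = n * ((n⁻¹ * a * n) * y) * n⁻¹ := by rw [h]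
    calc n * y * n⁻¹ * a = n * (y * (n⁻¹ * a * n)) * n⁻¹ := by group
      _ = n * ((n⁻¹ * a * n) * y) * n⁻¹ := this
      _ = _ := by group
  · intro h
    calc y * (n⁻¹ * a * n) = n⁻¹ * ((n * y * n⁻¹) * a) * n := by group
      _ = n⁻¹ * (a * (n * y * n⁻¹)) * n := by rw [h]
      _ = _ := by group

theorem torus_class_count {A : Subgroup (Sz F m)} (hA : IsTorus A) :
    Nat.card (classOf A) * Nat.card (Subgroup.normalizer (A : Set (Sz F m))) = Nat.card (Sz F m) * (Nat.card A - 1) :=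
  class_count A (torus_hN hF hm hA)

omit hF hm in
lemma Fpf_of_conj {y x : Sz F m} (h : Fpf (x⁻¹ * y * x)) : Fpf y := by
  intro a ha
  apply h (x⁻¹ • a)
  rw [mul_smul, mul_smul, smul_inv_smul, ha]

theorem class_sub_fpf {A : Subgroup (Sz F m)} (hA : IsTorus A) {y : Sz F m} (hy : y ∈ classOf A) : Fpf y := by
  obtain ⟨h1, x, hx⟩ := hy
  apply Fpf_of_conj (x := x)
  refine (torus_mem_eq hF hm hA hx ?_).1
  intro h
  apply h1
  have : y = x * (x⁻¹ * y * x) * x⁻¹ := by group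
  rw [this, h]
  group

omit hF hm in
lemma fpf_mem_class {g : Sz F m} (hg : Fpf g) : g ∈ classOf (Subgroup.centralizer ({g} : Set (Sz F m))) := by
  refine ⟨hg.ne_one, 1, ?_⟩
  simp [Subgroup.mem_centralizer_singleton_iff]

theorem class_inter {A B : Subgroup (Sz F m)} (hA : IsTorus A) (hB : IsTorus B) {y : Sz F m} (h₁ : y ∈ classOf A) (h₂ : y ∈ classOf B) : ConjT A B := by
  obtain ⟨hy1, x, hx⟩ := h₁
  obtain ⟨-, x', hx'⟩ := h₂
  have ne1 : ∀ k : Sz F m, k⁻¹ * y * k ≠ 1 := by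
    intro k h
    apply hy1
    have : y = k * (k⁻¹ * y * k) * k⁻¹ := by group
    rw [this, h]
    group
  have e1 := (torus_mem_eq hF hm hA hx (ne1 x)).2
  have e2 := (torus_mem_eq hF hm hB hx' (ne1 x')).2
  refine ⟨x'⁻¹ * x, fun w => ?_⟩
  rw [← e1, ← e2, Subgroup.mem_centralizer_singleton_iff, Subgroup.mem_centralizer_singleton_iff]
  set k := x'⁻¹ * x with hk
  have e3 : x'⁻¹ * y * x' = k * (x⁻¹ * y * x) * k⁻¹ := by
    rw [hk]
    group
  rw [e3]
  constructor
  · intro h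
    calc k⁻¹ * w * k * (x⁻¹ * y * x) = k⁻¹ * (w * (k * (x⁻¹ * y * x) * k⁻¹)) * k := by group
      _ = k⁻¹ * ((k * (x⁻¹ * y * x) * k⁻¹) * w) * k := by rw [h]
      _ = _ := by group
  · intro h
    calc w * (k * (x⁻¹ * y * x) * k⁻¹) = k * ((k⁻¹ * w * k) * (x⁻¹ * y * x)) * k⁻¹ := by group
      _ = k * ((x⁻¹ * y * x) * (k⁻¹ * w * k)) * k⁻¹ := by rw [h]
      _ = _ := by group

/-- The index of a torus in its normaliser is at most four. -/
theorem normalizer_le {A : Subgroup (Sz F m)} (hA : IsTorus A) : Nat.card (Subgroup.normalizer (A : Set (Sz F m))) ≤ Nat.card A * 4 := by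
  classical
  obtain ⟨g, hg, rfl⟩ := hA
  obtain ⟨E, _, _, _, b, h, hh⟩ := fpf_embed hF hm hg
  have hcomm : ∀ x : Subgroup.centralizer ({g} : Set (Sz F m)), (x : Sz F m) * g = g * x := by
    intro x
    exact (Subgroup.mem_centralizer_iff.1 x.2 g (Set.mem_singleton g)).symm
  obtain ⟨φ, hφ, hφs⟩ := embed_units b (iGL.comp (Subgroup.centralizer ({g} : Set (Sz F m))).subtype) (iGL_inj.comp Subtype.val_injective) h (fun x => hh _ (hcomm x))
  have hgA : g ∈ Subgroup.centralizer ({g} : Set (Sz F m)) := by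
    rw [Subgroup.mem_centralizer_singleton_iff]
  have hconj : ∀ n : Subgroup.normalizer ((Subgroup.centralizer ({g} : Set (Sz F m)) : Subgroup (Sz F m)) : Set (Sz F m)), (n : Sz F m) * g * (n : Sz F m)⁻¹ ∈ Subgroup.centralizer ({g} : Set (Sz F m)) :=
    fun n => (Subgroup.mem_normalizer_iff.1 n.2 g).1 hgA
  let ρ : Subgroup.normalizer ((Subgroup.centralizer ({g} : Set (Sz F m)) : Subgroup (Sz F m)) : Set (Sz F m)) → E := fun n => ((φ ⟨_, hconj n⟩ : Eˣ) : E)
  have hroot : ∀ n, Polynomial.aeval (ρ n) ((iGL g : GL (Fin 4) F) : Matrix (Fin 4) (Fin 4) F).charpoly = 0 := by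
    intro n
    apply root_of_conj b (iGL g) (h * iGL (n : Sz F m)) (φ ⟨_, hconj n⟩)
    rw [hφs]
    simp only [MonoidHom.comp_apply, Subgroup.subtype_apply, map_mul, map_inv]
    group
  haveI : Fintype (Subgroup.normalizer ((Subgroup.centralizer ({g} : Set (Sz F m)) : Subgroup (Sz F m)) : Set (Sz F m))) := Fintype.ofFinite _
  haveI : Fintype (Subgroup.centralizer ({g} : Set (Sz F m))) := Fintype.ofFinite _
  have himg := card_image_le_four _ ρ hroot
  have hcard := Finset.card_le_mul_card_image (f := ρ) (Finset.univ : Finset _) (Nat.card (Subgroup.centralizer ({g} : Set (Sz F m)))) ?_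
  · rw [Nat.card_eq_fintype_card (α := Subgroup.normalizer _), ← Finset.card_univ]
    exact hcard.trans (Nat.mul_le_mul_left _ himg)
  · intro r hr
    obtain ⟨n₀, -, rfl⟩ := Finset.mem_image.1 hr
    rw [Nat.card_eq_fintype_card (α := Subgroup.centralizer _), ← Finset.card_univ]
    have hmem : ∀ n, ρ n = ρ n₀ → (n₀ : Sz F m)⁻¹ * n ∈ Subgroup.centralizer ({g} : Set (Sz F m)) := by
      intro n hn
      have h1 : φ ⟨_, hconj n⟩ = φ ⟨_, hconj n₀⟩ := Units.ext hn
      have h2 := congrArg Subtype.val (hφ h1)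
      have h3 : (n : Sz F m) * g * (n : Sz F m)⁻¹ = (n₀ : Sz F m) * g * (n₀ : Sz F m)⁻¹ := h2
      rw [Subgroup.mem_centralizer_singleton_iff]
      calc (n₀ : Sz F m)⁻¹ * n * g = (n₀ : Sz F m)⁻¹ * ((n : Sz F m) * g * (n : Sz F m)⁻¹) * n := by group
        _ = (n₀ : Sz F m)⁻¹ * ((n₀ : Sz F m) * g * (n₀ : Sz F m)⁻¹) * n := by rw [h3]
        _ = _ := by group
    apply Finset.card_le_card_of_injOn (fun n => if hn : ρ n = ρ n₀ then (⟨_, hmem n hn⟩ : Subgroup.centralizer ({g} : Set (Sz F m))) else 1)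
    · intro n _
      exact Finset.mem_univ _
    · intro n hn n' hn' e
      have hn1 : ρ n = ρ n₀ := (Finset.mem_filter.1 hn).2
      have hn2 : ρ n' = ρ n₀ := (Finset.mem_filter.1 hn').2
      simp only [dif_pos hn1, dif_pos hn2] at e
      have e2 := congrArg Subtype.val e
      apply Subtype.ext
      exact mul_left_cancel e2

end

end CfsgLib.Sz
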