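/-
The exceptional cyclic subgroups of the Suzuki group: the count and the conclusion.
-/
import Cfsg.Agent.Lib.Sz.Exceptional

set_option autoImplicit false

namespace CfsgLib.Sz

open Matrix Cfsg
open scoped Pointwise MatrixGroups

section

variable {F : Type*} [Field F] [Fintype F] {m : ℕ}

local notation "SL4" => Matrix.SpecialLinearGroup (Fin 4) F

local notation "θm" => (2 ^ (m + 1) : ℕ)

local notation "∞'" => suzukiPointInfinity F

variable (hF : Fintype.card F = 2 ^ (2 * m + 1)) (hm : 1 ≤ m)

include hF hm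

/-- The stabiliser of any point has order `q²(q-1)`. -/
theorem card_stab (a : suzukiOvoid F m) : Nat.card (MulAction.stabilizer (Sz F m) a) * (Fintype.card F ^ 2 + 1) = Nat.card (Sz F m) := by
  haveI : MulAction.IsPretransitive (Sz F m) (suzukiOvoid F m) := by
    refine ⟨fun x y => ?_⟩
    by_cases hxy : x = y
    · exact ⟨1, by rw [hxy, one_smul]⟩
    · obtain ⟨g, h1, -⟩ := two_trans hF hm hxy (Ne.symm hxy)
      exact ⟨g, h1⟩
  have h1 := MulAction.index_stabilizer_of_transitive (Sz F m) a
  rw [card_ovoid] at h1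
  rw [← h1]
  exact (MulAction.stabilizer (Sz F m) a).card_mul_index

/-- The stabiliser of two points has order `q - 1`. -/
theorem card_two_stab {a b : suzukiOvoid F m} (hab : a ≠ b) : Nat.card {g : Sz F m // g • a = a ∧ g • b = b} = Fintype.card F - 1 := by
  classical
  have C := ctx_of_card hF
  obtain ⟨t, ht, e1, e2⟩ := exists_move2 hF hm a.2 b.2 (fun h => hab (Subtype.ext h))
  have hmem : ∀ α : Fˣ, t * M (2 ^ m) α * t⁻¹ ∈ Sz F m := fun α =>
    (Sz F m).mul_mem ((Sz F m).mul_mem ht (M_mem hF α)) ((Sz F m).inv_mem ht)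
  have hfix : ∀ α : Fˣ, (⟨_, hmem α⟩ : Sz F m) • a = a ∧ (⟨_, hmem α⟩ : Sz F m) • b = b := by
    intro α
    constructor
    · apply Subtype.ext
      show (t * M (2 ^ m) α * t⁻¹) • (a : Projectivization F (Fin 4 → F)) = a
      rw [mul_smul, mul_smul, ← e1, inv_smul_smul, M_inf C]
    · apply Subtype.ext
      show (t * M (2 ^ m) α * t⁻¹) • (b : Projectivization F (Fin 4 → F)) = b
      rw [mul_smul, mul_smul, ← e2, inv_smul_smul, M_P C]
      simp
  have hbij : Function.Bijective (fun α : Fˣ => (⟨⟨_, hmem α⟩, hfix α⟩ : {g : Sz F m // g • a = a ∧ g • b = b})) := by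
    constructor
    · intro α β h
      have h1 : t * M (2 ^ m) α * t⁻¹ = t * M (2 ^ m) β * t⁻¹ := congrArg (fun x : {g : Sz F m // g • a = a ∧ g • b = b} => ((x : Sz F m) : SL4)) h
      have h2 : M (2 ^ m) α = M (2 ^ m) β := mul_left_cancel (mul_right_cancel h1)
      have h3 := congrArg (fun g => g • P θm (1 : F) 0) h2
      simp only [M_P C] at h3
      have h4 := (P_inj h3).1
      apply Units.ext
      simpa using h4
    · rintro ⟨g, h1, h2⟩
      have h1' : (g : SL4) • (a : Projectivization F (Fin 4 → F)) = a := congrArg Subtype.val h1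
      have h2' : (g : SL4) • (b : Projectivization F (Fin 4 → F)) = b := congrArg Subtype.val h2
      obtain ⟨α, hα⟩ := two_pt hF hm (g := t⁻¹ * g * t) ((Sz F m).mul_mem ((Sz F m).mul_mem ((Sz F m).inv_mem ht) g.2) ht)
        (by rw [mul_smul, mul_smul, e1, h1', ← e1, inv_smul_smul]) (by rw [mul_smul, mul_smul, e2, h2', ← e2, inv_smul_smul])
      refine ⟨α, ?_⟩
      apply Subtype.ext
      apply Subtype.ext
      show t * M (2 ^ m) α * t⁻¹ = g
      rw [← hα]
      group
  rw [← Nat.card_congr (Equiv.ofBijective _ hbij), Nat.card_eq_fintype_card, Fintype.card_units]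

/-- An element other than the identity has at most two fixed points. -/
lemma card_fix_le {g : Sz F m} [Fintype (suzukiOvoid F m)] [DecidableEq (suzukiOvoid F m)] (hg : g ≠ 1) : (Finset.univ.filter (fun a : suzukiOvoid F m => g • a = a)).card ≤ 2 := by
  by_contra hcon
  push Not at hcon
  obtain ⟨a, b, c, ha, hb, hc, hab, hac, hbc⟩ := Finset.two_lt_card_iff.1 hcon
  simp only [Finset.mem_filter, Finset.mem_univ, true_and] at ha hb hc
  apply hg
  apply Subtype.ext
  exact three_pt hF hm g.2 a.2 b.2 c.2 (fun h => hab (Subtype.ext h)) (fun h => hbc (Subtype.ext h)) (fun h => hac (Subtype.ext h))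
    (congrArg Subtype.val ha) (congrArg Subtype.val hb) (congrArg Subtype.val hc)

/-- The number of fixed point free elements. -/
theorem card_fpf : 2 * Nat.card {g : Sz F m // Fpf g} + Fintype.card F ^ 2 * (Fintype.card F ^ 2 - 1) = Nat.card (Sz F m) := by
  classical
  haveI : Fintype (Sz F m) := Fintype.ofFinite _
  haveI : Fintype (suzukiOvoid F m) := Fintype.ofFinite _
  set q := Fintype.card F with hq
  set k : Sz F m → ℕ := fun g => (Finset.univ.filter (fun a : suzukiOvoid F m => g • a = a)).card with hk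
  have hO : Fintype.card (suzukiOvoid F m) = q ^ 2 + 1 := by
    rw [← Nat.card_eq_fintype_card, card_ovoid]
  set n := Nat.card (Sz F m) with hn
  have hn' : Fintype.card (Sz F m) = n := by rw [hn, Nat.card_eq_fintype_card]
  -- the first moment
  have hst : ∀ a : suzukiOvoid F m, (Finset.univ.filter (fun g : Sz F m => g • a = a)).card = Nat.card (MulAction.stabilizer (Sz F m) a) := by
    intro a
    rw [← Fintype.card_subtype, Nat.card_eq_fintype_card]
    exact Fintype.card_congr (Equiv.refl _)
  have hfirst : ∑ g, k g = n := by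
    have h1 : ∑ g, k g = ∑ a : suzukiOvoid F m, (Finset.univ.filter (fun g : Sz F m => g • a = a)).card := by
      simp only [hk, Finset.card_filter]
      rw [Finset.sum_comm]
    rw [h1]
    simp only [hst]
    rw [← Nat.card_eq_fintype_card] at hO
    have h2 : ∀ a : suzukiOvoid F m, Nat.card (MulAction.stabilizer (Sz F m) a) = Nat.card (MulAction.stabilizer (Sz F m) (⟨∞', inf_mem⟩ : suzukiOvoid F m)) := by
      intro a
      have h3 := card_stab hF hm a
      have h4 := card_stab hF hm ⟨∞', inf_mem⟩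
      exact Nat.eq_of_mul_eq_mul_right (by positivity) (h3.trans h4.symm)
    simp only [h2]
    rw [Finset.sum_const, Finset.card_univ, smul_eq_mul, ← Nat.card_eq_fintype_card, hO, mul_comm]
    exact card_stab hF hm _
  -- the second moment
  have hWq : Nat.card (MulAction.stabilizer (Sz F m) (⟨∞', inf_mem⟩ : suzukiOvoid F m)) = q ^ 2 * (q - 1) := by
    have e : Nat.card (MulAction.stabilizer (Sz F m) (⟨∞', inf_mem⟩ : suzukiOvoid F m)) = Nat.card (MulAction.stabilizer (Sz F m) ∞') := by
      apply Nat.card_congr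
      exact Equiv.subtypeEquivRight (fun g => by
        rw [MulAction.mem_stabilizer_iff, MulAction.mem_stabilizer_iff]
        exact Subtype.ext_iff)
    rw [e, card_stab_inf hF hm, hF]
  have hW : ∀ a : suzukiOvoid F m, Nat.card (MulAction.stabilizer (Sz F m) a) = q ^ 2 * (q - 1) := by
    intro a
    rw [← hWq]
    have h3 := card_stab hF hm a
    have h4 := card_stab hF hm ⟨∞', inf_mem⟩
    exact Nat.eq_of_mul_eq_mul_right (by positivity) (h3.trans h4.symm)
  have hnW : n = (q ^ 2 + 1) * (q ^ 2 * (q - 1)) := by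
    rw [hn, ← card_stab hF hm ⟨∞', inf_mem⟩, hWq]
    ring
  have hpair : ∀ a b : suzukiOvoid F m, (Finset.univ.filter (fun g : Sz F m => g • a = a ∧ g • b = b)).card = if a = b then q ^ 2 * (q - 1) else q - 1 := by
    intro a b
    by_cases hab : a = b
    · subst hab
      rw [if_pos rfl, ← hW a]
      simp only [and_self]
      rw [hst]
    · rw [if_neg hab, ← Fintype.card_subtype, ← Nat.card_eq_fintype_card]
      exact card_two_stab hF hm hab
  have hsecond : ∑ g, k g ^ 2 = 2 * n := by
    have h1 : ∀ g : Sz F m, k g ^ 2 = ∑ a : suzukiOvoid F m, ∑ b : suzukiOvoid F m, if g • a = a ∧ g • b = b then 1 else 0 := by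
      intro g
      simp only [hk, Finset.card_filter]
      rw [pow_two, Finset.sum_mul_sum]
      apply Finset.sum_congr rfl
      intro a _
      apply Finset.sum_congr rfl
      intro b _
      by_cases h1 : g • a = a <;> by_cases h2 : g • b = b <;> simp [h1, h2]
    simp only [h1]
    have h2 : ∑ g : Sz F m, ∑ a : suzukiOvoid F m, ∑ b : suzukiOvoid F m, (if g • a = a ∧ g • b = b then 1 else 0) = ∑ a : suzukiOvoid F m, ∑ b : suzukiOvoid F m, (Finset.univ.filter (fun g : Sz F m => g • a = a ∧ g • b = b)).card := by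
      rw [Finset.sum_comm]
      apply Finset.sum_congr rfl
      intro a _
      rw [Finset.sum_comm]
      apply Finset.sum_congr rfl
      intro b _
      rw [Finset.card_filter]
    rw [h2]
    simp only [hpair]
    have h3 : ∀ a : suzukiOvoid F m, ∑ b : suzukiOvoid F m, (if a = b then q ^ 2 * (q - 1) else q - 1) = 2 * (q ^ 2 * (q - 1)) := by
      intro a
      have e : ∀ b : suzukiOvoid F m, (if a = b then q ^ 2 * (q - 1) else q - 1) = (if a = b then q ^ 2 * (q - 1) else 0) + (if a = b then 0 else q - 1) := by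
        intro b
        by_cases h : a = b <;> simp [h]
      simp only [e]
      rw [Finset.sum_add_distrib, Finset.sum_ite_eq]
      simp only [Finset.mem_univ, if_true]
      have e2 : ∑ b : suzukiOvoid F m, (if a = b then 0 else q - 1) = (Finset.univ.filter (fun b : suzukiOvoid F m => a ≠ b)).card * (q - 1) := by
        rw [← smul_eq_mul, ← Finset.sum_const, Finset.sum_filter]
        apply Finset.sum_congr rfl
        intro b _
        by_cases h : a = b <;> simp [h]
      have e3 : (Finset.univ.filter (fun b : suzukiOvoid F m => a ≠ b)).card = q ^ 2 := by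
        have e4 := Finset.card_filter_add_card_filter_not (s := (Finset.univ : Finset (suzukiOvoid F m))) (fun b => a = b)
        rw [Finset.filter_eq, if_pos (Finset.mem_univ a), Finset.card_singleton, Finset.card_univ, hO] at e4
        simp only [ne_eq]
        omega
      rw [e2, e3]
      ring
    simp only [h3]
    rw [Finset.sum_const, Finset.card_univ, hO, smul_eq_mul, hnW]
    ring
  -- the identity
  have hone : k 1 = q ^ 2 + 1 := by
    simp only [hk, one_smul, Finset.filter_true_of_mem, Finset.mem_univ, implies_true, Finset.card_univ]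
    exact hO
  have hzero : ∀ g : Sz F m, k g = 0 ↔ Fpf g := by
    intro g
    simp only [hk, Finset.card_eq_zero, Finset.filter_eq_empty_iff, Finset.mem_univ, true_implies]
    rfl
  have hterm : ∀ g : Sz F m, ((k g : ℤ) ^ 2 - 3 * k g + 2) = (if g = 1 then ((q : ℤ) ^ 2 * ((q : ℤ) ^ 2 - 1)) else 0) + (if Fpf g then 2 else 0) := by
    intro g
    by_cases hg : g = 1
    · subst hg
      have h1 : ¬ Fpf (1 : Sz F m) := fun h => h.ne_one rfl
      rw [if_pos rfl, if_neg h1, hone]
      push_cast
      ring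
    · rw [if_neg hg]
      have hle : k g ≤ 2 := card_fix_le hF hm hg
      by_cases hf : Fpf g
      · rw [if_pos hf, (hzero g).2 hf]
        norm_num
      · rw [if_neg hf]
        have hne : k g ≠ 0 := fun h => hf ((hzero g).1 h)
        have : k g = 1 ∨ k g = 2 := by omega
        rcases this with h | h <;> rw [h] <;> norm_num
  have hsum : ∑ g : Sz F m, ((k g : ℤ) ^ 2 - 3 * (k g : ℤ) + 2) = (n : ℤ) := by
    rw [Finset.sum_add_distrib, Finset.sum_sub_distrib, ← Finset.mul_sum]
    have e1 : ∑ g : Sz F m, (k g : ℤ) ^ 2 = 2 * (n : ℤ) := by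
      have := congrArg (fun x : ℕ => (x : ℤ)) hsecond
      simpa using this
    have e2 : ∑ g : Sz F m, (k g : ℤ) = (n : ℤ) := by
      have := congrArg (fun x : ℕ => (x : ℤ)) hfirst
      simpa using this
    rw [e1, e2, Finset.sum_const, Finset.card_univ, hn']
    simp
    ring
  have hsum2 : ∑ g : Sz F m, ((if g = 1 then ((q : ℤ) ^ 2 * ((q : ℤ) ^ 2 - 1)) else 0) + (if Fpf g then (2 : ℤ) else 0)) = (q : ℤ) ^ 2 * ((q : ℤ) ^ 2 - 1) + 2 * Nat.card {g : Sz F m // Fpf g} := by
    rw [Finset.sum_add_distrib, Finset.sum_ite_eq' , if_pos (Finset.mem_univ _), Finset.sum_ite, Finset.sum_const_zero, add_zero, Finset.sum_const, nsmul_eq_mul, Nat.card_eq_fintype_card, Fintype.card_subtype]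
    ring
  simp only [hterm] at hsum
  rw [hsum2] at hsum
  have hq1 : 1 ≤ q ^ 2 := Nat.one_le_pow _ _ Fintype.card_pos
  have : ((2 * Nat.card {g : Sz F m // Fpf g} + q ^ 2 * (q ^ 2 - 1) : ℕ) : ℤ) = (n : ℤ) := by
    rw [← hsum]
    push_cast [Nat.cast_sub hq1]
    ring
  exact_mod_cast this

/-- The order of a point stabiliser. -/
theorem card_stab_eq (a : suzukiOvoid F m) : Nat.card (MulAction.stabilizer (Sz F m) a) = Fintype.card F ^ 2 * (Fintype.card F - 1) := by
  have h1 := card_stab hF hm a
  rw [card_Sz hF hm, hF] at h1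
  rw [hF]
  have h0 : 0 < (2 ^ (2 * m + 1)) ^ 2 + 1 := by positivity
  exact Nat.eq_of_mul_eq_mul_right h0 (h1.trans (by ring))

/-- A prime dividing `q² + 1` divides neither `q` nor `q - 1`. -/
lemma prime_not_dvd_W {p : ℕ} (hp : p.Prime) (hd : p ∣ Fintype.card F ^ 2 + 1) : ¬ p ∣ Fintype.card F ^ 2 * (Fintype.card F - 1) := by
  have hp2 : p ≠ 2 := by
    rintro rfl
    exact odd_card_O hF hd
  have hq1 : 1 ≤ Fintype.card F := Fintype.card_pos
  intro h
  rcases (Nat.Prime.dvd_mul hp).1 h with h | h
  · have h1 := hp.dvd_of_dvd_pow h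
    rw [hF] at h1
    have h2 := hp.dvd_of_dvd_pow h1
    exact hp2 ((Nat.prime_dvd_prime_iff_eq hp Nat.prime_two).1 h2)
  · have h1 : Fintype.card F ^ 2 + 1 = (Fintype.card F - 1) * (Fintype.card F + 1) + 2 := by
      obtain ⟨t, ht⟩ : ∃ t, Fintype.card F = t + 1 := ⟨Fintype.card F - 1, by omega⟩
      rw [ht]
      simp only [Nat.add_sub_cancel]
      ring
    rw [h1] at hd
    have h2 := (Nat.dvd_add_right (Dvd.dvd.mul_right h _)).1 hd
    exact hp2 ((Nat.prime_dvd_prime_iff_eq hp Nat.prime_two).1 h2)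

/-- Elements of prime order dividing `q² + 1` have no fixed points. -/
theorem elem_fpf {z : Sz F m} {p : ℕ} (hz : orderOf z = p) (hp : p.Prime) (hd : p ∣ Fintype.card F ^ 2 + 1) : Fpf z := by
  intro a ha
  have h1 : z ∈ MulAction.stabilizer (Sz F m) a := ha
  have h2 : orderOf (⟨z, h1⟩ : MulAction.stabilizer (Sz F m) a) = p := by
    rw [Subgroup.orderOf_mk, hz]
  have h3 := orderOf_dvd_natCard (⟨z, h1⟩ : MulAction.stabilizer (Sz F m) a)
  rw [h2, card_stab_eq hF hm] at h3
  exact prime_not_dvd_W hF hm hp hd h3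

/-- The prime parts of `q² + 1`. -/
theorem prime_torus {p : ℕ} (hp : p.Prime) (hd : p ∣ Fintype.card F ^ 2 + 1) : ∃ A : Subgroup (Sz F m), IsTorus A ∧
    p ^ (Fintype.card F ^ 2 + 1).factorization p ∣ Nat.card A ∧ ∀ B : Subgroup (Sz F m), IsTorus B → p ∣ Nat.card B → ConjT A B := by
  haveI : Fact p.Prime := ⟨hp⟩
  have hp2 : p ≠ 2 := by
    rintro rfl
    exact odd_card_O hF hd
  have hW := prime_not_dvd_W hF hm hp hd
  have hG : Nat.card (Sz F m) = (Fintype.card F ^ 2 * (Fintype.card F - 1)) * (Fintype.card F ^ 2 + 1) := by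
    rw [card_Sz hF hm, hF]
    ring
  have hW0 : Fintype.card F ^ 2 * (Fintype.card F - 1) ≠ 0 := by
    intro h
    rw [h] at hW
    exact hW (dvd_zero _)
  let P : Sylow p (Sz F m) := default
  have hcP : Nat.card P = p ^ (Fintype.card F ^ 2 + 1).factorization p := by
    rw [P.card_eq_multiplicity, hG, Nat.factorization_mul hW0 (by positivity)]
    simp [Nat.factorization_eq_zero_of_not_dvd hW]
  have hfac : 1 ≤ (Fintype.card F ^ 2 + 1).factorization p := by
    exact (hp.dvd_iff_one_le_factorization (by positivity)).1 hd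
  haveI hcyc := sylow_odd_cyclic hF hm hp2 P
  obtain ⟨z, hz⟩ := exists_prime_orderOf_dvd_card' (G := P) p (by
    rw [hcP]
    exact dvd_pow_self p (by omega))
  have hz' : orderOf (z : Sz F m) = p := (Subgroup.orderOf_coe z).trans hz
  have hzf := elem_fpf hF hm hz' hp hd
  have hPz : ∀ x ∈ (P : Subgroup (Sz F m)), x * z = z * x := by
    intro x hx
    exact congrArg Subtype.val (cyc_comm (⟨x, hx⟩ : P) z)
  refine ⟨Subgroup.centralizer ({(z : Sz F m)} : Set (Sz F m)), ⟨z, hzf, rfl⟩, ?_, ?_⟩
  · rw [← hcP]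
    apply Subgroup.card_dvd_of_le
    intro x hx
    rw [Subgroup.mem_centralizer_singleton_iff]
    exact hPz x hx
  · intro B hB hpB
    obtain ⟨z₁, hz₁⟩ := exists_prime_orderOf_dvd_card' (G := B) p hpB
    have hz₁' : orderOf (z₁ : Sz F m) = p := (Subgroup.orderOf_coe z₁).trans hz₁
    have hz₁1 : (z₁ : Sz F m) ≠ 1 := by
      intro h
      rw [h, orderOf_one] at hz₁'
      exact hp.one_lt.ne hz₁'
    have hQ : IsPGroup p (Subgroup.zpowers (z₁ : Sz F m)) := by
      apply IsPGroup.of_card (n := 1)
      rw [Nat.card_zpowers, hz₁', pow_one]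
    obtain ⟨Q, hQle⟩ := hQ.exists_le_sylow
    obtain ⟨x, hx⟩ := MulAction.exists_smul_eq (Sz F m) Q P
    -- `x z₁ x⁻¹` lies in `P`
    have h1 : x * z₁ * x⁻¹ ∈ (P : Subgroup (Sz F m)) := by
      have h2 : x * z₁ * x⁻¹ ∈ ((x • Q : Sylow p (Sz F m)) : Subgroup (Sz F m)) := by
        rw [Sylow.coe_subgroup_smul]
        exact ⟨z₁, hQle (Subgroup.mem_zpowers _), rfl⟩
      rwa [hx] at h2
    set w : Sz F m := x * z₁ * x⁻¹ with hw
    have hw1 : w ≠ 1 := by
      intro h
      apply hz₁1
      have : (z₁ : Sz F m) = x⁻¹ * w * x := by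
        rw [hw]
        group
      rw [this, h]
      group
    have hwA : w ∈ Subgroup.centralizer ({(z : Sz F m)} : Set (Sz F m)) := by
      rw [Subgroup.mem_centralizer_singleton_iff]
      exact hPz w h1
    have e1 := (torus_mem_eq hF hm ⟨z, hzf, rfl⟩ hwA hw1).2
    have e2 := (torus_mem_eq hF hm hB z₁.2 hz₁1).2
    refine ⟨x⁻¹, fun y => ?_⟩
    rw [← e1, ← e2, Subgroup.mem_centralizer_singleton_iff, Subgroup.mem_centralizer_singleton_iff, inv_inv, hw]
    constructor
    · intro h
      calc x * y * x⁻¹ * (x * z₁ * x⁻¹) = x * (y * z₁) * x⁻¹ := by group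
        _ = x * (z₁ * y) * x⁻¹ := by rw [h]
        _ = _ := by group
    · intro h
      calc y * z₁ = x⁻¹ * (x * y * x⁻¹ * (x * z₁ * x⁻¹)) * x := by group
        _ = x⁻¹ * ((x * z₁ * x⁻¹) * (x * y * x⁻¹)) * x := by rw [h]
        _ = _ := by group

/-- A torus exists. -/
theorem exists_torus : ∃ A : Subgroup (Sz F m), IsTorus A := by
  have hc : Fintype.card F ^ 2 + 1 ≠ 1 := by
    have : 0 < Fintype.card F ^ 2 := by positivity
    omega
  obtain ⟨A, hA, -, -⟩ := prime_torus hF hm (Nat.minFac_prime hc) (Nat.minFac_dvd _)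
  exact ⟨A, hA⟩

/-- The index of a torus in its normaliser. -/
theorem torus_index {A : Subgroup (Sz F m)} (hA : IsTorus A) : ∃ n, Nat.card (Subgroup.normalizer (A : Set (Sz F m))) = n * Nat.card A ∧ (n = 1 ∨ n = 2 ∨ n = 4) := by
  have h1 : Nat.card A ∣ Nat.card (Subgroup.normalizer (A : Set (Sz F m))) := by
    apply Subgroup.card_dvd_of_le
    exact Subgroup.le_normalizer
  obtain ⟨n, hn⟩ := h1
  refine ⟨n, by rw [hn, mul_comm], ?_⟩
  have hA0 : 0 < Nat.card A := Nat.card_pos
  have hN0 : 0 < Nat.card (Subgroup.normalizer (A : Set (Sz F m))) := Nat.card_pos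
  have h2 := normalizer_le hF hm hA
  have h3 : n ≤ 4 := by
    rw [hn] at h2
    exact Nat.le_of_mul_le_mul_left h2 hA0
  have h4 : n ≠ 0 := by
    rintro rfl
    rw [hn] at hN0
    simp at hN0
  have h5 : n ≠ 3 := by
    rintro rfl
    have h6 : 3 ∣ Nat.card (Sz F m) := by
      apply Dvd.dvd.trans _ (Subgroup.card_subgroup_dvd_card (Subgroup.normalizer (A : Set (Sz F m))))
      rw [hn]
      exact Dvd.intro_left _ rfl
    rw [card_Sz hF hm] at h6
    have h7 := three_not_dvd_q m
    obtain ⟨-, h8, -⟩ := c_mod hF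
    rw [hF] at h8
    have h9 : 1 ≤ (2 ^ (2 * m + 1) : ℕ) := Nat.one_le_two_pow
    rcases (Nat.Prime.dvd_mul Nat.prime_three).1 h6 with h | h
    · rcases (Nat.Prime.dvd_mul Nat.prime_three).1 h with h | h
      · have := Nat.prime_three.dvd_of_dvd_pow h
        omega
      · exact h8 h
    · omega
  omega

/-- The final count for classes of tori. -/
theorem class_card_eq {A : Subgroup (Sz F m)} (hA : IsTorus A) {n : ℕ} (hn : Nat.card (Subgroup.normalizer (A : Set (Sz F m))) = n * Nat.card A) :
    Nat.card (classOf A) * (n * Nat.card A) = (Fintype.card F ^ 2 * (Fintype.card F - 1)) * (Fintype.card F ^ 2 + 1) * (Nat.card A - 1) := by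
  have := torus_class_count hF hm hA
  rw [hn, card_Sz hF hm, ← hF] at this
  rw [this]
  ring

/-- The exceptional subgroups. -/
theorem exceptional : ∀ k ∈ ({2 ^ (2 * m + 1) + 2 ^ (m + 1) + 1, 2 ^ (2 * m + 1) - 2 ^ (m + 1) + 1} : Set ℕ),
    ∃ U : Subgroup (Sz F m), IsCyclic U ∧ Nat.card U = k ∧
      (∀ u ∈ U, u ≠ 1 → Subgroup.centralizer {u} = U) ∧ Nat.card (Subgroup.normalizer (U : Set (Sz F m))) = 4 * k := by
  classical
  set q := Fintype.card F with hq
  have hq8 : 8 ≤ q := by
    rw [hF]
    calc 8 = 2 ^ 3 := by norm_num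
      _ ≤ 2 ^ (2 * m + 1) := Nat.pow_le_pow_right (by norm_num) (by omega)
  set W := q ^ 2 * (q - 1) with hWdef
  have hW : 0 < W := by
    apply Nat.mul_pos (by positivity)
    omega
  set c := q ^ 2 + 1 with hc
  have hx0 : 2 * Nat.card {g : Sz F m // Fpf g} = W * (q * (q - 1)) := by
    have h1 := card_fpf hF hm
    have hG : Nat.card (Sz F m) = W * c := by
      rw [card_Sz hF hm, hWdef, hc, hF]
      ring
    obtain ⟨t, ht⟩ : ∃ t, q = t + 1 := ⟨q - 1, by omega⟩
    have e1 : q ^ 2 * (q ^ 2 - 1) = W * (q + 1) := by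
      rw [hWdef, ht]
      simp only [Nat.add_sub_cancel]
      have e : (t + 1) ^ 2 - 1 = t * (t + 2) := by
        have : (t + 1) ^ 2 = t * (t + 2) + 1 := by ring
        rw [this]
        simp
      rw [e]
      ring
    have e2 : W * c = W * (q * (q - 1)) + W * (q + 1) := by
      rw [← mul_add]
      congr 1
      rw [hc, ht]
      simp only [Nat.add_sub_cancel]
      ring
    rw [e1, hG, e2] at h1
    omega
  -- sets of fixed point free elements
  have hfpfcard : Nat.card {g : Sz F m // Fpf g} = ({g : Sz F m | Fpf g}).ncard := by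
    rw [← Nat.card_coe_set_eq]
    rfl
  have hcls : ∀ {A : Subgroup (Sz F m)}, IsTorus A → classOf A ⊆ {g : Sz F m | Fpf g} := fun hA y hy => class_sub_fpf hF hm hA hy
  have hclscard : ∀ A : Subgroup (Sz F m), Nat.card (classOf A) = (classOf A).ncard := fun A => by
    rw [← Nat.card_coe_set_eq]
  have hdisj : ∀ {A B : Subgroup (Sz F m)}, IsTorus A → IsTorus B → ¬ ConjT A B → Disjoint (classOf A) (classOf B) := by
    intro A B hA hB hAB
    rw [Set.disjoint_left]
    intro y h1 h2
    exact hAB (class_inter hF hm hA hB h1 h2)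
  have hfin : ∀ s : Set (Sz F m), s.Finite := fun s => s.toFinite
  obtain ⟨A₁, hA₁⟩ := exists_torus hF hm
  obtain ⟨n₁, hn₁, hn₁c⟩ := torus_index hF hm hA₁
  have hcl₁ := class_card_eq hF hm hA₁ hn₁
  have hfive₁ := torus_five_le hF hm hA₁
  -- every fixed point free element lies in the class of its centraliser
  have hcover : ∀ g : Sz F m, Fpf g → ∃ B : Subgroup (Sz F m), IsTorus B ∧ g ∈ classOf B := fun g hg =>
    ⟨_, ⟨g, hg, rfl⟩, fpf_mem_class hg⟩
  by_cases h1 : ∀ B : Subgroup (Sz F m), IsTorus B → ConjT A₁ B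
  · -- a single class
    exfalso
    have hset : {g : Sz F m | Fpf g} = classOf A₁ := by
      apply Set.Subset.antisymm
      · intro g hg
        obtain ⟨B, hB, hgB⟩ := hcover g hg
        rw [(h1 B hB).classOf_eq]
        exact hgB
      · exact hcls hA₁
    have hdvd : c ∣ Nat.card A₁ := by
      have hc0 : c ≠ 0 := by positivity
      rw [← Nat.factorization_prime_le_iff_dvd hc0 Nat.card_pos.ne']
      intro p hp
      by_cases hpc : p ∣ c
      · obtain ⟨A, hA, hd, -⟩ := prime_torus hF hm hp hpc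
        have := (h1 A hA).card_eq
        rw [this]
        exact (hp.pow_dvd_iff_le_factorization Nat.card_pos.ne').1 hd
      · rw [Nat.factorization_eq_zero_of_not_dvd hpc]
        exact Nat.zero_le _
    have hac : Nat.card A₁ = c := Nat.dvd_antisymm (torus_card_dvd hF hm hA₁) hdvd
    rw [hac] at hcl₁
    rw [hfpfcard, hset, ← hclscard] at hx0
    have hn₁4 : n₁ ≤ 4 := by omega
    exact arith_one hq8 hW rfl hn₁4 hcl₁ hx0
  · push Not at h1
    obtain ⟨A₂, hA₂, h12⟩ := h1
    obtain ⟨n₂, hn₂, hn₂c⟩ := torus_index hF hm hA₂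
    have hcl₂ := class_card_eq hF hm hA₂ hn₂
    have hfive₂ := torus_five_le hF hm hA₂
    have hd12 := hdisj hA₁ hA₂ h12
    by_cases h2 : ∀ B : Subgroup (Sz F m), IsTorus B → ConjT A₁ B ∨ ConjT A₂ B
    · -- two classes
      have hset : {g : Sz F m | Fpf g} = classOf A₁ ∪ classOf A₂ := by
        apply Set.Subset.antisymm
        · intro g hg
          obtain ⟨B, hB, hgB⟩ := hcover g hg
          rcases h2 B hB with h | h
          · rw [h.classOf_eq]
            exact Or.inl hgB
          · rw [h.classOf_eq]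
            exact Or.inr hgB
        · exact Set.union_subset (hcls hA₁) (hcls hA₂)
      have hcount : Nat.card {g : Sz F m // Fpf g} = Nat.card (classOf A₁) + Nat.card (classOf A₂) := by
        rw [hfpfcard, hset, Set.ncard_union_eq hd12 (hfin _) (hfin _), ← hclscard, ← hclscard]
      -- the orders are coprime
      have hcop : Nat.Coprime (Nat.card A₁) (Nat.card A₂) := by
        apply Nat.Coprime.symm
        apply Nat.coprime_of_dvd
        intro p hp h3 h4
        have hpc : p ∣ c := h3.trans (torus_card_dvd hF hm hA₂)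
        obtain ⟨A, hA, -, hconj⟩ := prime_torus hF hm hp hpc
        exact h12 ((hconj A₁ hA₁ h4).symm.trans (hconj A₂ hA₂ h3))
      have hprod : Nat.card A₁ * Nat.card A₂ = c := by
        apply Nat.dvd_antisymm
        · exact Nat.Coprime.mul_dvd_of_dvd_of_dvd hcop (torus_card_dvd hF hm hA₁) (torus_card_dvd hF hm hA₂)
        · have hc0 : c ≠ 0 := by positivity
          have hp0 : Nat.card A₁ * Nat.card A₂ ≠ 0 := Nat.mul_ne_zero Nat.card_pos.ne' Nat.card_pos.ne'
          rw [← Nat.factorization_prime_le_iff_dvd hc0 hp0]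
          intro p hp
          by_cases hpc : p ∣ c
          · obtain ⟨A, hA, hd, -⟩ := prime_torus hF hm hp hpc
            have h5 : p ^ c.factorization p ∣ Nat.card A₁ * Nat.card A₂ := by
              rcases h2 A hA with h | h
              · rw [h.card_eq]
                exact Dvd.dvd.mul_right hd _
              · rw [h.card_eq]
                exact Dvd.dvd.mul_left hd _
            exact (hp.pow_dvd_iff_le_factorization hp0).1 h5
          · rw [Nat.factorization_eq_zero_of_not_dvd hpc]
            exact Nat.zero_le _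
      have hx1 : 2 * (Nat.card (classOf A₁) + Nat.card (classOf A₂)) = W * (q * (q - 1)) := by
        rw [← hcount]
        exact hx0
      obtain ⟨e1, e2, e3⟩ := arith_two hW rfl hfive₁ hfive₂ hprod hn₁c hn₂c hcl₁ hcl₂ hx1
      subst e1
      subst e2
      -- the values of the orders
      set r : ℕ := 2 ^ m with hr
      have hqr : q = 2 * r ^ 2 := by
        rw [hF, hr]
        ring
      have hθ : (2 : ℕ) ^ (m + 1) = 2 * r := by
        rw [hr]
        ring
      have hvals : (Nat.card A₁ = q + 2 * r + 1 ∧ Nat.card A₂ = q - 2 * r + 1) ∨ (Nat.card A₁ = q - 2 * r + 1 ∧ Nat.card A₂ = q + 2 * r + 1) := by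
        have hle : 2 * r ≤ q := by
          rw [hqr]
          have : 1 ≤ r := Nat.one_le_two_pow
          nlinarith
        set a₁ := Nat.card A₁
        set a₂ := Nat.card A₂
        have hz : ((a₁ : ℤ) - (q + 2 * r + 1)) * ((a₁ : ℤ) - (q - 2 * r + 1)) = 0 := by
          have e4 : (a₂ : ℤ) = 2 * q + 2 - a₁ := by
            have : ((a₁ + a₂ : ℕ) : ℤ) = ((2 * q + 2 : ℕ) : ℤ) := by rw [e3]
            push_cast at this
            linarith
          have e5 : (a₁ : ℤ) * a₂ = (q : ℤ) ^ 2 + 1 := by
            have : ((a₁ * a₂ : ℕ) : ℤ) = ((q ^ 2 + 1 : ℕ) : ℤ) := by rw [hprod]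
            push_cast at this
            exact this
          have e6 : (q : ℤ) = 2 * (r : ℤ) ^ 2 := by
            have : ((q : ℕ) : ℤ) = ((2 * r ^ 2 : ℕ) : ℤ) := by rw [hqr]
            push_cast at this
            exact this
          rw [e4] at e5
          have e7 : ((a₁ : ℤ) - (q + 2 * r + 1)) * ((a₁ : ℤ) - (q - 2 * r + 1)) = (a₁ : ℤ) ^ 2 - 2 * (q + 1) * a₁ + ((q + 1) ^ 2 - 4 * r ^ 2) := by ring
          rw [e7]
          have e8 : 4 * (r : ℤ) ^ 2 = 2 * q := by rw [e6]; ring
          rw [e8]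
          linear_combination (-1 : ℤ) * e5
        rcases mul_eq_zero.1 hz with h | h
        · left
          have h6 : (a₁ : ℤ) = q + 2 * r + 1 := by linarith
          have h7 : a₁ = q + 2 * r + 1 := by exact_mod_cast h6
          refine ⟨h7, ?_⟩
          omega
        · right
          have h6 : (a₁ : ℤ) = q - 2 * r + 1 := by linarith
          have h7 : a₁ = q - 2 * r + 1 := by
            have : ((q - 2 * r + 1 : ℕ) : ℤ) = (q : ℤ) - 2 * r + 1 := by
              push_cast [Nat.cast_sub hle]
              ring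
            rw [← this] at h6
            exact_mod_cast h6
          refine ⟨h7, ?_⟩
          omega
      intro k hk
      rw [← hF, hθ] at hk
      have hk' : k = q + 2 * r + 1 ∨ k = q - 2 * r + 1 := by
        rcases hk with h | h
        · exact Or.inl h
        · exact Or.inr h
      have hcase : (Nat.card A₁ = k) ∨ (Nat.card A₂ = k) := by
        rcases hk' with h | h <;> rcases hvals with ⟨h3, h4⟩ | ⟨h3, h4⟩
        · left; rw [h3, h]
        · right; rw [h4, h]
        · right; rw [h4, h]
        · left; rw [h3, h]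
      rcases hcase with h | h
      · exact ⟨A₁, torus_cyclic hF hm hA₁, h, fun u hu hu1 => (torus_mem_eq hF hm hA₁ hu hu1).2, by rw [hn₁, h]⟩
      · exact ⟨A₂, torus_cyclic hF hm hA₂, h, fun u hu hu1 => (torus_mem_eq hF hm hA₂ hu hu1).2, by rw [hn₂, h]⟩
    · -- three classes are impossible
      exfalso
      push Not at h2
      obtain ⟨A₃, hA₃, h13, h23⟩ := h2
      obtain ⟨n₃, hn₃, hn₃c⟩ := torus_index hF hm hA₃
      have hcl₃ := class_card_eq hF hm hA₃ hn₃
      have hfive₃ := torus_five_le hF hm hA₃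
      have hle : Nat.card (classOf A₁) + Nat.card (classOf A₂) + Nat.card (classOf A₃) ≤ Nat.card {g : Sz F m // Fpf g} := by
        rw [hfpfcard, hclscard, hclscard, hclscard]
        rw [← Set.ncard_union_eq hd12 (hfin _) (hfin _)]
        have hd3 : Disjoint (classOf A₁ ∪ classOf A₂) (classOf A₃) := by
          rw [Set.disjoint_union_left]
          exact ⟨hdisj hA₁ hA₃ h13, hdisj hA₂ hA₃ h23⟩
        rw [← Set.ncard_union_eq hd3 (hfin _) (hfin _)]
        apply Set.ncard_le_ncard _ (hfin _)
        exact Set.union_subset (Set.union_subset (hcls hA₁) (hcls hA₂)) (hcls hA₃)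
      exact arith_three hW rfl (arith_low hfive₁ (by omega) hcl₁) (arith_low hfive₂ (by omega) hcl₂) (arith_low hfive₃ (by omega) hcl₃) hle hx0

end

end CfsgLib.Sz
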