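/-
Groups with the same prime graph as the Suzuki groups.
-/
import Cfsg.Agent.Lib.Sz.Cover
import Cfsg.Agent.Lib.Sz.Final

set_option autoImplicit false

namespace CfsgLib.Sz

open Matrix Cfsg
open scoped Pointwise

section abstract

variable (G V : Type*) [Group G] [AddCommGroup V] [DistribMulAction G V]

/-- The action as a homomorphism to the automorphisms. -/
def phiOf : G →* MulAut (Multiplicative V) where
  toFun g := AddEquiv.toMultiplicative (DistribMulAction.toAddEquiv V g)
  map_one' := by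
    ext v
    show Multiplicative.ofAdd ((1 : G) • Multiplicative.toAdd v) = v
    simp
  map_mul' g h := by
    ext v
    show Multiplicative.ofAdd ((g * h) • Multiplicative.toAdd v) = Multiplicative.ofAdd (g • h • Multiplicative.toAdd v)
    rw [mul_smul]

variable {G V}

lemma phiOf_apply (g : G) (v : Multiplicative V) : phiOf G V g v = Multiplicative.ofAdd (g • Multiplicative.toAdd v) := rfl

variable (h2V : ∀ v : V, v + v = 0)
  (hstar : ∀ g : G, Odd (orderOf g) → g ≠ 1 → ∀ v : V, g • v = v → v = 0)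
  (hstar2 : ∀ g : G, (∃ k, orderOf g = 2 ^ k) ∨ Odd (orderOf g))

include h2V hstar hstar2 in
theorem pg_order {r s : ℕ} (hr : r.Prime) (hs : s.Prime) (hrs : r ≠ s) (y : Multiplicative V ⋊[phiOf G V] G) (hy : orderOf y = r * s) :
    ∃ x : G, orderOf x = r * s := by
  set g := y.right with hg
  set d := orderOf g with hd
  have hdvd : d ∣ r * s := by
    rw [← hy]
    have : g = SemidirectProduct.rightHom y := rfl
    rw [hd, this]
    exact orderOf_map_dvd _ _
  have hpow : ∀ n : ℕ, (y ^ n).right = g ^ n := by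
    intro n
    show SemidirectProduct.rightHom (y ^ n) = (SemidirectProduct.rightHom y) ^ n
    exact map_pow _ _ _
  have hgd : (y ^ d).right = 1 := by
    rw [hpow, hd, pow_orderOf_eq_one]
  have hinl : y ^ d = SemidirectProduct.inl (y ^ d).left := by
    ext
    · rfl
    · rw [hgd]
      rfl
  have h2d : y ^ (d * 2) = 1 := by
    rw [pow_mul, pow_two, hinl, ← map_mul]
    have : (y ^ d).left * (y ^ d).left = 1 := by
      show Multiplicative.ofAdd (Multiplicative.toAdd (y ^ d).left + Multiplicative.toAdd (y ^ d).left) = 1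
      rw [h2V]
      rfl
    rw [this, map_one]
  have hdvd2 : r * s ∣ d * 2 := by
    rw [← hy]
    exact orderOf_dvd_of_pow_eq_one h2d
  rcases hstar2 g with ⟨k, hk⟩ | hodd
  · exfalso
    have e : r * s ∣ 2 ^ (k + 1) := by
      rw [pow_succ, ← hk]
      exact hdvd2
    have e1 : r ∣ 2 ^ (k + 1) := (Dvd.intro _ rfl).trans e
    have e2 : s ∣ 2 ^ (k + 1) := (Dvd.intro_left _ rfl).trans e
    have e3 := (Nat.prime_dvd_prime_iff_eq hr Nat.prime_two).1 (hr.dvd_of_dvd_pow e1)
    have e4 := (Nat.prime_dvd_prime_iff_eq hs Nat.prime_two).1 (hs.dvd_of_dvd_pow e2)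
    exact hrs (e3.trans e4.symm)
  · by_cases hg1 : g = 1
    · exfalso
      have e : r * s ∣ 2 := by
        have : d = 1 := by rw [hd, hg1, orderOf_one]
        rw [this, one_mul] at hdvd2
        exact hdvd2
      have e1 : r ∣ 2 := (Dvd.intro _ rfl).trans e
      have e2 : s ∣ 2 := (Dvd.intro_left _ rfl).trans e
      exact hrs (((Nat.prime_dvd_prime_iff_eq hr Nat.prime_two).1 e1).trans ((Nat.prime_dvd_prime_iff_eq hs Nat.prime_two).1 e2).symm)
    · -- the power is fixed by `g`
      have hcomm : y * y ^ d = y ^ d * y := (pow_succ' y d).symm.trans (pow_succ y d)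
      have e := congrArg SemidirectProduct.left hcomm
      rw [SemidirectProduct.mul_left, SemidirectProduct.mul_left, hgd, map_one] at e
      have e' : phiOf G V g (y ^ d).left = (y ^ d).left := by
        have e2 : y.left * phiOf G V g (y ^ d).left = (y ^ d).left * y.left := e
        rw [mul_comm (y ^ d).left] at e2
        exact mul_left_cancel e2
      have e3 : g • Multiplicative.toAdd (y ^ d).left = Multiplicative.toAdd (y ^ d).left := e'
      have e4 := hstar g hodd hg1 _ e3
      have e5 : y ^ d = 1 := by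
        rw [hinl]
        have : (y ^ d).left = 1 := e4
        rw [this, map_one]
      have e6 : r * s ∣ d := by
        rw [← hy]
        exact orderOf_dvd_of_pow_eq_one e5
      exact ⟨g, Nat.dvd_antisymm hdvd e6⟩

include h2V in
lemma pg_prime [Finite G] [Finite V] (hev : 2 ∣ Nat.card G) {r : ℕ} (hr : r.Prime) :
    r ∣ Nat.card G ↔ r ∣ Nat.card (Multiplicative V ⋊[phiOf G V] G) := by
  have hcard : Nat.card (Multiplicative V ⋊[phiOf G V] G) = Nat.card V * Nat.card G := by
    rw [Nat.card_congr SemidirectProduct.equivProd, Nat.card_prod]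
    rfl
  rw [hcard]
  constructor
  · intro h
    exact h.trans (Dvd.intro_left _ rfl)
  · intro h
    rcases hr.dvd_mul.1 h with h | h
    · haveI : Fact r.Prime := ⟨hr⟩
      obtain ⟨v, hv⟩ := exists_prime_addOrderOf_dvd_card' r h
      have e : addOrderOf v ∣ 2 := by
        apply addOrderOf_dvd_of_nsmul_eq_zero
        rw [two_nsmul, h2V]
      rw [hv] at e
      have := (Nat.prime_dvd_prime_iff_eq hr Nat.prime_two).1 e
      rw [this]
      exact hev
    · exact h

end abstract

section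

variable {F : Type*} [Field F] [Fintype F] {m : ℕ}

local notation "SL4" => Matrix.SpecialLinearGroup (Fin 4) F

local notation "θm" => (2 ^ (m + 1) : ℕ)

local notation "∞'" => suzukiPointInfinity F

variable (hF : Fintype.card F = 2 ^ (2 * m + 1)) (hm : 1 ≤ m)

include hF hm

/-- The classification of elements. -/
lemma elem_cases (g : ↥(Sz F m)) : Fpf g ∨ (∃ (x : ↥(Sz F m)) (a b : F), g = x * sS hF a b * x⁻¹) ∨ (∃ (x : ↥(Sz F m)) (α : Fˣ), g = x * sM hF α * x⁻¹) := by
  by_cases hf : Fpf g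
  · exact Or.inl hf
  right
  unfold Fpf at hf
  push Not at hf
  obtain ⟨p, hp⟩ := hf
  -- a transporter
  obtain ⟨x, hx⟩ : ∃ x : ↥(Sz F m), x • (ptInf : suzukiOvoid F m) = p := by
    obtain ⟨p, hp'⟩ := p
    rcases ovoid_cases hp' with rfl | ⟨a, b, rfl⟩
    · exact ⟨1, one_smul _ _⟩
    · refine ⟨sS hF a b * sT hF, ?_⟩
      apply Subtype.ext
      show ((sS hF a b * sT hF : ↥(Sz F m)) : SL4) • ∞' = P θm a b
      rw [act_mul hF, sT_inf, sS_P]
      simp
  have hk : (x⁻¹ * g * x) • (ptInf : suzukiOvoid F m) = ptInf := by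
    rw [mul_smul, mul_smul, hx, hp, ← hx, inv_smul_smul]
  obtain ⟨a, b, β, hab⟩ := stab_cases hF hm (x⁻¹ * g * x) (congrArg Subtype.val hk)
  by_cases hβ : β = 1
  · left
    refine ⟨x, a, b, ?_⟩
    rw [hβ, sM_one hF hm, mul_one] at hab
    rw [← hab]
    group
  · right
    obtain ⟨u, v, huv⟩ := SM_fixed hF hm a b hβ
    have hfix : ((x⁻¹ * g * x : ↥(Sz F m)) : SL4) • P θm u v = P θm u v := by
      rw [hab]
      exact huv
    set w := sS hF u v with hw
    have hw0 : (w : SL4) • P θm (0 : F) 0 = P θm u v := by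
      rw [hw, sS_P]
      simp
    have hw1 : ((w⁻¹ : ↥(Sz F m)) : SL4) • P θm u v = P θm (0 : F) 0 := by
      rw [← hw0, ← act_mul hF, inv_mul_cancel]
      simp
    have hwinf : ((w⁻¹ : ↥(Sz F m)) : SL4) • ∞' = ∞' := by
      have e := sS_inf hF u v
      rw [← hw] at e
      conv_lhs => rw [← e]
      rw [← act_mul hF, inv_mul_cancel]
      simp
    obtain ⟨γ, hγ⟩ := two_cases hF hm (w⁻¹ * (x⁻¹ * g * x) * w)
      (by
        have hk' : ((x⁻¹ * g * x : ↥(Sz F m)) : SL4) • ∞' = ∞' := congrArg Subtype.val hk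
        have hw' : (w : SL4) • ∞' = ∞' := sS_inf hF u v
        rw [act_mul hF, act_mul hF, hw', hk', hwinf])
      (by rw [act_mul hF, act_mul hF, hw0, hfix, hw1])
    refine ⟨x * w, γ, ?_⟩
    rw [← hγ]
    group

omit hm in
lemma sM_pow (hm : 1 ≤ m) (α : Fˣ) (n : ℕ) : sM hF α ^ n = sM hF (α ^ n) := by
  induction n with
  | zero => simp [sM_one hF hm]
  | succ n ih => rw [pow_succ, ih, sM_mul hF hm, pow_succ]

lemma order_S (a b : F) : ∃ k, orderOf (sS hF a b) = 2 ^ k := by
  have C := ctx_of_card (m := m) hF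
  have h2 : (2 : F) = 0 := C.two
  have hadd : ∀ x : F, x + x = 0 := add_self C
  have e1 : sS hF a b * sS hF a b = sS hF 0 (a ^ θm * a) := by
    rw [sS_mul hF hm, hadd, hadd, zero_add]
  have hθ0 : (0 : F) ^ θm = 0 := zero_pow (by positivity)
  have e2 : (sS hF a b) ^ 4 = 1 := by
    have : (sS hF a b) ^ 4 = (sS hF a b * sS hF a b) * (sS hF a b * sS hF a b) := by
      simp only [pow_succ, pow_zero, one_mul, mul_assoc]
    rw [this, e1, sS_mul hF hm, hadd, hadd, hθ0, zero_mul, add_zero, sS_zero hF hm]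
  have e3 : orderOf (sS hF a b) ∣ 2 ^ 2 := orderOf_dvd_of_pow_eq_one (by simpa using e2)
  obtain ⟨k, -, hk⟩ := (Nat.dvd_prime_pow Nat.prime_two).1 e3
  exact ⟨k, hk⟩

lemma order_M (α : Fˣ) : Odd (orderOf (sM hF α)) := by
  classical
  have e : (sM hF α) ^ (Fintype.card F - 1) = 1 := by
    rw [sM_pow hF hm, ← Fintype.card_units, pow_card_eq_one, sM_one hF hm]
  have h1 : orderOf (sM hF α) ∣ Fintype.card F - 1 := orderOf_dvd_of_pow_eq_one e
  have h2 : Odd (Fintype.card F - 1) := by
    rw [hF]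
    have : 2 ^ (2 * m + 1) = 2 * 2 ^ (2 * m) := pow_succ' 2 _
    have hp : 0 < 2 ^ (2 * m) := by positivity
    refine ⟨2 ^ (2 * m) - 1, ?_⟩
    omega
  exact Odd.of_dvd_nat h2 h1

lemma order_fpf {g : ↥(Sz F m)} (hg : Fpf g) : Odd (orderOf g) := by
  have hT : IsTorus (Subgroup.centralizer ({g} : Set ↥(Sz F m))) := ⟨g, hg, rfl⟩
  have h1 := torus_card_dvd hF hm hT
  have h2 : orderOf g ∣ Nat.card (Subgroup.centralizer ({g} : Set ↥(Sz F m))) :=
    Subgroup.orderOf_dvd_natCard _ (by
      rw [Subgroup.mem_centralizer_singleton_iff])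
  have h3 : Odd (Fintype.card F ^ 2 + 1) := by
    rw [Nat.odd_iff]
    have := (c_mod (m := m) hF).1
    omega
  exact Odd.of_dvd_nat h3 (h2.trans h1)

lemma order_conj (x y : ↥(Sz F m)) : orderOf (x * y * x⁻¹) = orderOf y := by
  have := MulEquiv.orderOf_eq (MulAut.conj x) y
  rwa [MulAut.conj_apply] at this

/-- The orders of the elements of the Suzuki groups. -/
theorem order_cases (g : ↥(Sz F m)) : (∃ k, orderOf g = 2 ^ k) ∨ Odd (orderOf g) := by
  rcases elem_cases hF hm g with h | ⟨x, a, b, rfl⟩ | ⟨x, α, rfl⟩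
  · exact Or.inr (order_fpf hF hm h)
  · left
    rw [order_conj hF hm]
    exact order_S hF hm a b
  · right
    rw [order_conj hF hm]
    exact order_M hF hm α

lemma pow_r_ne {β : Fˣ} (hβ : β ≠ 1) : β ^ (2 ^ m) ≠ 1 := by
  have C := ctx_of_card (m := m) hF
  intro h
  have key : ∀ n : ℕ, β ^ (2 ^ n) = 1 → β = 1 := by
    intro n
    induction n with
    | zero => simp
    | succ n ih =>
      intro h
      apply ih
      apply unit_sq_eq_one hF hm
      rw [pow_succ, pow_mul, pow_two] at h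
      exact h
  exact hβ (key m h)

lemma pow_r1_ne {β : Fˣ} (hβ : β ≠ 1) : β ^ (2 ^ m + 1) ≠ 1 := by
  intro h
  have h1 : β ^ (2 ^ m) = β⁻¹ := by
    rw [pow_succ] at h
    exact eq_inv_of_mul_eq_one_left h
  have h2 : β ^ (2 ^ m * 2 ^ m) = β := by
    rw [pow_mul, h1, inv_pow, h1, inv_inv]
  have h3 : β ^ (Fintype.card F) = β := by
    have := FiniteField.pow_card (β : F)
    apply Units.ext
    simpa using this
  have h4 : β ^ (Fintype.card F) = β * β := by
    have e : Fintype.card F = 2 ^ m * 2 ^ m * 2 := by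
      rw [hF]
      ring
    rw [e, pow_mul, h2, pow_two]
  rw [h4] at h3
  exact hβ (by simpa using h3)

/-- Torus elements have no non-zero fixed vectors. -/
lemma M_no_fix {α : Fˣ} (hα : α ≠ 1) {v : Fin 4 → F} (h : sM hF α • v = v) : v = 0 := by
  have hα' : α⁻¹ ≠ 1 := fun e => hα (inv_eq_one.1 e)
  have e : ∀ i, (mmat (2 ^ m) α *ᵥ v) i = v i := fun i => congrFun h i
  have h0 := e 0
  have h1 := e 1
  have h2 := e 2
  have h3 := e 3
  simp only [mmat, Matrix.mulVec_diagonal] at h0 h1 h2 h3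
  simp only [Matrix.cons_val_zero, Matrix.cons_val_one, Matrix.cons_val] at h0 h1 h2 h3
  have key : ∀ (c : F) (x : F), c ≠ 1 → c * x = x → x = 0 := by
    intro c x hc hx
    have : (c - 1) * x = 0 := by rw [sub_mul, hx]; ring
    exact (mul_eq_zero.1 this).resolve_left (sub_ne_zero.2 hc)
  have d0 : (α : F) ^ (2 ^ m + 1) ≠ 1 := fun e => pow_r1_ne hF hm hα (Units.ext (by simpa using e))
  have d1 : (α : F) ^ (2 ^ m) ≠ 1 := fun e => pow_r_ne hF hm hα (Units.ext (by simpa using e))
  have d2 : ((α⁻¹ : Fˣ) : F) ^ (2 ^ m) ≠ 1 := fun e => pow_r_ne hF hm hα' (Units.ext (by simpa using e))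
  have d3 : ((α⁻¹ : Fˣ) : F) ^ (2 ^ m + 1) ≠ 1 := fun e => pow_r1_ne hF hm hα' (Units.ext (by simpa using e))
  ext i
  fin_cases i
  · exact key _ _ d0 h0
  · exact key _ _ d1 h1
  · exact key _ _ d2 h2
  · exact key _ _ d3 h3

/-- Fixed point free elements have no non-zero fixed vectors. -/
lemma fpf_no_fix {g : ↥(Sz F m)} (hg : Fpf g) {v : Fin 4 → F} (h : g • v = v) : v = 0 := by
  obtain ⟨E, _, _, _, b, k, hk⟩ := fpf_embed hF hm hg
  obtain ⟨u, hu⟩ := hk g rfl
  by_contra hv
  set w : Fin 4 → F := (k : Matrix (Fin 4) (Fin 4) F) *ᵥ v with hw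
  have hg1 : g ≠ 1 := hg.ne_one
  have hmul : (sing b u : Matrix (Fin 4) (Fin 4) F) *ᵥ w = w := by
    have e : (sing b u : Matrix (Fin 4) (Fin 4) F) * (k : Matrix (Fin 4) (Fin 4) F) = (k : Matrix (Fin 4) (Fin 4) F) * ((iGL g : GL (Fin 4) F) : Matrix (Fin 4) (Fin 4) F) := by
      have e2 : sing b u * k = k * iGL g := by
        rw [hu]
        group
      exact congrArg (fun z : GL (Fin 4) F => (z : Matrix (Fin 4) (Fin 4) F)) e2
    rw [hw, Matrix.mulVec_mulVec, e, ← Matrix.mulVec_mulVec]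
    congr 1
  have hw0 : w ≠ 0 := by
    intro h0
    apply hv
    have e : ((k⁻¹ : GL (Fin 4) F) : Matrix (Fin 4) (Fin 4) F) *ᵥ w = v := by
      rw [hw, Matrix.mulVec_mulVec]
      have : ((k⁻¹ : GL (Fin 4) F) : Matrix (Fin 4) (Fin 4) F) * (k : Matrix (Fin 4) (Fin 4) F) = 1 := by
        rw [← Units.val_mul, inv_mul_cancel, Units.val_one]
      rw [this, Matrix.one_mulVec]
    rw [← e, h0, Matrix.mulVec_zero]
  set e₀ : E := b.equivFun.symm w with he₀
  have hrepr : ∀ i, b.repr e₀ i = w i := by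
    intro i
    have := b.equivFun_apply e₀
    have h2 := LinearEquiv.apply_symm_apply b.equivFun w
    rw [← he₀] at h2
    exact congrFun h2 i
  have hrepr' : (⇑(b.repr e₀) : Fin 4 → F) = w := funext hrepr
  have h3 : (Algebra.leftMulMatrix b (u : E)) *ᵥ (⇑(b.repr e₀) : Fin 4 → F) = ⇑(b.repr ((u : E) * e₀)) :=
    Algebra.leftMulMatrix_mulVec_repr b (u : E) e₀
  rw [hrepr', ← sing_coe, hmul] at h3
  have h4 : (u : E) * e₀ = e₀ := by
    apply b.repr.injective
    apply Finsupp.ext
    intro i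
    rw [hrepr]
    exact (congrFun h3 i).symm
  have he0 : e₀ ≠ 0 := by
    intro h0
    rw [h0] at hrepr'
    apply hw0
    rw [← hrepr']
    simp
  have hu1 : (u : E) = 1 := by
    have : ((u : E) - 1) * e₀ = 0 := by rw [sub_mul, h4]; ring
    exact sub_eq_zero.1 ((mul_eq_zero.1 this).resolve_right he0)
  have hu2 : u = 1 := Units.ext hu1
  rw [hu2, map_one] at hu
  have h5 : iGL g = 1 := by
    have : k * iGL g * k⁻¹ = 1 := hu.symm
    have h6 : iGL g = k⁻¹ * (k * iGL g * k⁻¹) * k := by group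
    rw [h6, this]
    group
  exact hg1 (iGL_inj (by rw [h5, map_one]))

/-- Odd order elements have no non-zero fixed vectors. -/
theorem odd_no_fix {g : ↥(Sz F m)} (hodd : Odd (orderOf g)) (hg1 : g ≠ 1) {v : Fin 4 → F} (h : g • v = v) : v = 0 := by
  rcases elem_cases hF hm g with hf | ⟨x, a, b, rfl⟩ | ⟨x, α, rfl⟩
  · exact fpf_no_fix hF hm hf h
  · exfalso
    rw [order_conj hF hm] at hodd
    obtain ⟨k, hk⟩ := order_S hF hm a b
    rw [hk] at hodd
    rcases k with _ | k
    · have : sS hF a b = 1 := by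
        rw [← orderOf_eq_one_iff, hk]
        rfl
      rw [this] at hg1
      simp at hg1
    · rw [pow_succ] at hodd
      exact (Nat.not_even_iff_odd.2 hodd) (even_two.mul_left _)
  · have hα : α ≠ 1 := by
      rintro rfl
      rw [sM_one hF hm] at hg1
      simp at hg1
    have e : sM hF α • (x⁻¹ • v) = x⁻¹ • v := by
      have h' : x • (sM hF α • (x⁻¹ • v)) = v := by
        rw [← mul_smul, ← mul_smul]
        exact h
      exact eq_inv_smul_iff.2 h'
    have e2 := M_no_fix hF hm hα e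
    have e3 := congrArg (fun w => x • w) e2
    simpa using e3

/-- The statement for the product of copies. -/
theorem odd_no_fix_pi (k : ℕ) {g : ↥(Sz F m)} (hodd : Odd (orderOf g)) (hg1 : g ≠ 1) {v : Fin k → Fin 4 → F} (h : g • v = v) : v = 0 := by
  ext i
  have : g • v i = v i := congrFun h i
  rw [odd_no_fix hF hm hodd hg1 this]
  rfl

/-- The main construction. -/
theorem exists_same_graph (N : ℕ) :
    ∃ (H : Type) (_ : Group H) (_ : Fintype H), N < Fintype.card H ∧ ((∀ r : ℕ, r.Prime → (r ∣ Nat.card ↥(Lie.Sz F (2 ^ (m + 1))) ↔ r ∣ Nat.card H)) ∧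
      (∀ r s : ℕ, r.Prime → s.Prime → r ≠ s → ((∃ x : ↥(Lie.Sz F (2 ^ (m + 1))), orderOf x = r * s) ↔ (∃ y : H, orderOf y = r * s)))) := by
  classical
  have C := ctx_of_card (m := m) hF
  set e := lieEquiv hF hm with he
  let V := Fin (N + 1) → Fin 4 → F
  have h2V : ∀ v : V, v + v = 0 := by
    intro v
    ext i j
    exact add_self C _
  let H' := Multiplicative V ⋊[phiOf ↥(Sz F m) V] ↥(Sz F m)
  haveI : Finite ↥(Sz F m) := finite_Sz
  haveI : Finite H' := Finite.of_equiv _ (SemidirectProduct.equivProd (N := Multiplicative V) (G := ↥(Sz F m)) (φ := phiOf ↥(Sz F m) V)).symm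
  haveI : Fintype H' := Fintype.ofFinite _
  let eqm : Shrink.{0, _} H' ≃* H' := Shrink.mulEquiv
  haveI : Finite (Shrink.{0, _} H') := Finite.of_equiv _ eqm.symm.toEquiv
  have hev : 2 ∣ Nat.card ↥(Sz F m) := by
    have h1 : orderOf (sS hF (0 : F) 1) = 2 := by
      apply orderOf_eq_prime
      · rw [pow_two, sS_mul hF hm, add_self C, add_self C]
        simp [zero_pow, sS_zero hF hm]
      · exact sS_ne_one hF hm (Or.inr one_ne_zero)
    rw [← h1]
    exact orderOf_dvd_natCard _
  refine ⟨Shrink.{0, _} H', inferInstance, inferInstance, ?_, ?_, ?_⟩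
  · rw [← Nat.card_eq_fintype_card, Nat.card_congr eqm.toEquiv, Nat.card_congr SemidirectProduct.equivProd, Nat.card_prod]
    have h1 : N + 1 ≤ Nat.card (Multiplicative V) := by
      show N + 1 ≤ Nat.card (Fin (N + 1) → Fin 4 → F)
      rw [Nat.card_fun, Nat.card_fin]
      exact (Nat.lt_pow_self Finite.one_lt_card).le
    have h2 : 0 < Nat.card ↥(Sz F m) := Nat.card_pos
    calc N < N + 1 := Nat.lt_succ_self N
      _ ≤ Nat.card (Multiplicative V) := h1
      _ ≤ _ := Nat.le_mul_of_pos_right _ h2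
  · intro r hr
    rw [← Nat.card_congr e.toEquiv, Nat.card_congr eqm.toEquiv]
    exact pg_prime h2V hev hr
  · intro r s hr hs hrs
    constructor
    · rintro ⟨x, hx⟩
      refine ⟨eqm.symm (SemidirectProduct.inr (e.symm x)), ?_⟩
      have h1 : orderOf (eqm.symm (SemidirectProduct.inr (e.symm x))) = orderOf (SemidirectProduct.inr (e.symm x) : H') :=
        orderOf_injective eqm.symm.toMonoidHom eqm.symm.injective _
      have h2 : orderOf (SemidirectProduct.inr (e.symm x) : H') = orderOf (e.symm x) :=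
        orderOf_injective _ SemidirectProduct.inr_injective _
      have h3 : orderOf (e.symm x) = orderOf x := orderOf_injective e.symm.toMonoidHom e.symm.injective _
      rw [h1, h2, h3, hx]
    · rintro ⟨y, hy⟩
      have hy' : orderOf (eqm y) = r * s := by
        rw [← hy]
        exact orderOf_injective eqm.toMonoidHom eqm.injective y
      obtain ⟨x, hx⟩ := pg_order h2V (fun g hodd hg1 v hv => odd_no_fix_pi hF hm (N + 1) hodd hg1 hv) (order_cases hF hm) hr hs hrs (eqm y) hy'
      exact ⟨e x, by rw [← hx]; exact orderOf_injective e.toMonoidHom e.injective x⟩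

end

end CfsgLib.Sz
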