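/-
Further properties of the Suzuki groups: real two-elements, the maximal subgroups containing a
Sylow two-subgroup, and generation by two elements.
-/
import Cfsg.Agent.Lib.Sz.Aut2
import Cfsg.Agent.Lib.Sz.PrimeGraph

set_option autoImplicit false

namespace CfsgLib.Sz

open Matrix Cfsg
open scoped Pointwise

section

variable {F : Type*} [Field F] [Fintype F] {m : ℕ}

local notation "θm" => (2 ^ (m + 1) : ℕ)

local notation "∞'" => suzukiPointInfinity F

variable (hF : Fintype.card F = 2 ^ (2 * m + 1)) (hm : 1 ≤ m)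

include hF hm

lemma sS_inv' (a b : F) : (sS hF a b)⁻¹ = sS hF a (b + a ^ (θm + 1)) :=
  Subtype.ext (S_inv hF hm a b)

lemma sS_sq (a b : F) : sS hF a b * sS hF a b = sS hF 0 (a ^ (θm + 1)) := by
  have C := ctx_of_card (m := m) hF
  rw [sS_mul hF hm, add_self C, add_self C, zero_add, ← pow_succ]

omit hm in
/-- The additive form of the key fact. -/
lemma no_trace_one (w : F) : w ^ θm + w ≠ 1 := by
  have C := ctx_of_card (m := m) hF
  intro h
  have h1 : w ^ θm = w + 1 := by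
    linear_combination h - (add_self C w)
  have h2 := C.sq w
  rw [h1, C.add, h1, one_pow] at h2
  have h3 : w + 1 + 1 = w := by
    linear_combination add_self C (1 : F)
  rw [h3] at h2
  have h4 : w * (w - 1) = 0 := by
    linear_combination -h2
  rcases mul_eq_zero.1 h4 with h5 | h5
  · rw [h5, zero_pow (by positivity), zero_add] at h
    exact zero_ne_one h
  · have h6 : w = 1 := sub_eq_zero.1 h5
    rw [h6, one_pow] at h
    have h7 : (1 : F) = 0 := by
      linear_combination h - (add_self C (1 : F)) + (add_self C (1 : F))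
    have h8 := add_self C (1 : F)
    rw [h] at h8
    exact one_ne_zero h8

/-- Elements of order four are not real. -/
theorem not_real {a : F} (b : F) (ha : a ≠ 0) : ¬ IsConj (sS hF a b) (sS hF a b)⁻¹ := by
  have C := ctx_of_card (m := m) hF
  intro h
  obtain ⟨c, hc⟩ := isConj_iff.1 h
  rw [sS_inv' hF hm] at hc
  have hcinf : c • (ptInf : suzukiOvoid F m) = ptInf := by
    apply S_unique_fix hF hm (a := a) (b := b + a ^ (θm + 1)) (Or.inl ha)
    rw [← hc, ← mul_smul]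
    have e : c * sS hF a b * c⁻¹ * c = c * sS hF a b := by group
    rw [e, mul_smul, S_fix_inf hF hm]
  obtain ⟨x, y, α, rfl⟩ := stab_cases hF hm c (congrArg Subtype.val hcinf)
  have e : sS hF x y * sM hF α * sS hF a b * (sS hF x y * sM hF α)⁻¹ = sS hF x y * (sM hF α * sS hF a b * (sM hF α)⁻¹) * (sS hF x y)⁻¹ := by group
  rw [e, sM_conj hF hm, mul_inv_eq_iff_eq_mul, sS_mul hF hm, sS_mul hF hm] at hc
  obtain ⟨h1, h2⟩ := sS_inj hF hm hc
  have hα : (α : F) * a = a := by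
    linear_combination h1
  have hα1 : (α : F) = 1 := mul_right_cancel₀ ha (by rw [hα, one_mul])
  rw [hα1] at h2
  simp only [one_pow, one_mul] at h2
  have h3 : x ^ θm * a + a ^ θm * x = a ^ θm * a := by
    rw [pow_succ] at h2
    linear_combination h2 + (add_self C (a ^ θm * x))
  apply no_trace_one hF (m := m) (x / a)
  rw [div_pow]
  have h4 : a ^ θm ≠ 0 := pow_ne_zero _ ha
  field_simp
  linear_combination h3

/-- The criterion for translations. -/
theorem real_iff {a b : F} (hab : a ≠ 0 ∨ b ≠ 0) : IsConj (sS hF a b) (sS hF a b)⁻¹ ↔ orderOf (sS hF a b) = 2 := by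
  have C := ctx_of_card (m := m) hF
  by_cases ha : a = 0
  · subst ha
    have h2 : sS hF (0 : F) b * sS hF 0 b = 1 := by
      rw [sS_sq hF hm, zero_pow (by positivity), sS_zero hF hm]
    haveI : Fact (Nat.Prime 2) := ⟨Nat.prime_two⟩
    have hord : orderOf (sS hF (0 : F) b) = 2 := orderOf_eq_prime (by rw [pow_two, h2]) (sS_ne_one hF hm hab)
    simp only [hord, iff_true]
    have e : (sS hF (0 : F) b)⁻¹ = sS hF 0 b := inv_eq_of_mul_eq_one_left h2
    rw [e]
  · constructor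
    · intro h
      exact absurd h (not_real hF hm b ha)
    · intro h
      exfalso
      have h1 : sS hF a b ^ 2 = 1 := by
        rw [← h]
        exact pow_orderOf_eq_one _
      rw [pow_two, sS_sq hF hm, ← sS_zero hF hm] at h1
      have h2 := (sS_inj hF hm h1).2
      exact ha (by simpa using h2)

/-- Membership in a Sylow subgroup. -/
lemma exists_sylow_conj (P : Sylow 2 ↥(Sz F m)) : ∃ x : ↥(Sz F m), ∀ y, y ∈ (P : Subgroup ↥(Sz F m)) ↔ x⁻¹ * y * x ∈ Usub hF hm := by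
  haveI : Finite ↥(Sz F m) := finite_Sz
  haveI : Fact (Nat.Prime 2) := ⟨Nat.prime_two⟩
  obtain ⟨x, hx⟩ := MulAction.exists_smul_eq ↥(Sz F m) (uSylow hF hm) P
  refine ⟨x, fun y => ?_⟩
  rw [← hx, Sylow.coe_subgroup_smul, Subgroup.mem_pointwise_smul_iff_inv_smul_mem, uSylow_coe]
  simp [MulAut.conj_apply]

/-- Real elements of Sylow subgroups. -/
theorem real_main (P : Sylow 2 ↥(Sz F m)) (g : ↥(Sz F m)) (hg : g ∈ (P : Subgroup ↥(Sz F m))) (h1 : g ≠ 1) :
    IsConj g g⁻¹ ↔ orderOf g = 2 := by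
  obtain ⟨x, hx⟩ := exists_sylow_conj hF hm P
  obtain ⟨a, b, e⟩ := (mem_Q hF hm _).1 ((hx g).1 hg)
  have hg' : g = x * sS hF a b * x⁻¹ := by
    rw [← e]
    group
  have hab : a ≠ 0 ∨ b ≠ 0 := by
    by_contra hcon
    push Not at hcon
    rw [hcon.1, hcon.2, sS_zero hF hm] at hg'
    exact h1 (by rw [hg']; group)
  have h3 : orderOf g = orderOf (sS hF a b) := by
    rw [hg']
    exact order_conj hF hm x _
  have c1 : IsConj (sS hF a b) g := isConj_iff.2 ⟨x, hg'.symm⟩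
  have c2 : IsConj (sS hF a b)⁻¹ g⁻¹ := isConj_iff.2 ⟨x, by rw [hg']; group⟩
  rw [h3, ← real_iff hF hm hab]
  exact ⟨fun h => c1.trans (h.trans c2.symm), fun h => c1.symm.trans (h.trans c2)⟩

/-- Overgroups of `Q`. -/
theorem over_Q (H : Subgroup ↥(Sz F m)) (hQ : Usub hF hm ≤ H)
    (hne : ¬ H ≤ Subgroup.normalizer ((Usub hF hm : Subgroup ↥(Sz F m)) : Set ↥(Sz F m))) : H = ⊤ := by
  obtain ⟨h, hH, hh⟩ := SetLike.not_le_iff_exists.1 hne
  have hpt : h • (⟨∞', inf_mem⟩ : suzukiOvoid F m) ≠ ⟨∞', inf_mem⟩ := fun e => hh ((mem_normalizer_U hF hm h).2 e)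
  have htrans : ∀ g : ↥(Sz F m), ∃ h' ∈ H, h' • (⟨∞', inf_mem⟩ : suzukiOvoid F m) = g • ⟨∞', inf_mem⟩ := by
    intro g
    by_cases hg : g • (⟨∞', inf_mem⟩ : suzukiOvoid F m) = ⟨∞', inf_mem⟩
    · exact ⟨1, one_mem _, by rw [one_smul, hg]⟩
    · obtain ⟨s, hs, -⟩ := reg_U hF hm (h • (⟨∞', inf_mem⟩ : suzukiOvoid F m)) (g • ⟨∞', inf_mem⟩) hpt hg
      exact ⟨s * h, H.mul_mem (hQ s.2) hH, by rw [mul_smul, hs]⟩
  have hconj : ∀ g : ↥(Sz F m), ∀ u ∈ Usub hF hm, g * u * g⁻¹ ∈ H := by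
    intro g u hu
    obtain ⟨h', hh', e⟩ := htrans g
    have hb : h'⁻¹ * g ∈ Subgroup.normalizer ((Usub hF hm : Subgroup ↥(Sz F m)) : Set ↥(Sz F m)) :=
      (mem_normalizer_U hF hm _).2 (by rw [mul_smul, ← e, inv_smul_smul])
    have h2 : (h'⁻¹ * g) * u * (h'⁻¹ * g)⁻¹ ∈ Usub hF hm := (Subgroup.mem_normalizer_iff.1 hb u).1 hu
    have e2 : g * u * g⁻¹ = h' * ((h'⁻¹ * g) * u * (h'⁻¹ * g)⁻¹) * h'⁻¹ := by group
    rw [e2]
    exact H.mul_mem (H.mul_mem hh' (hQ h2)) (H.inv_mem hh')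
  have hcore : Usub hF hm ≤ H.normalCore := by
    intro u hu g
    exact hconj g u hu
  have hsimple := simple hF hm
  rcases hsimple.eq_bot_or_eq_top_of_normal H.normalCore (Subgroup.normalCore_normal H) with h0 | h0
  · exfalso
    rw [h0] at hcore
    have h1 : sS hF (1 : F) 0 ∈ (⊥ : Subgroup ↥(Sz F m)) := hcore (sS_mem_Q hF hm _ _)
    exact sS_ne_one hF hm (a := (1 : F)) (b := 0) (Or.inl one_ne_zero) (Subgroup.mem_bot.1 h1)
  · rw [eq_top_iff, ← h0]
    exact Subgroup.normalCore_le H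

/-- The normaliser of a Sylow 2-subgroup is maximal, and the unique maximal overgroup. -/
theorem borel_main (P : Sylow 2 ↥(Sz F m)) :
    IsCoatom (Subgroup.normalizer ((P : Subgroup ↥(Sz F m)) : Set ↥(Sz F m))) ∧
    ∀ M : Subgroup ↥(Sz F m), IsCoatom M → (P : Subgroup ↥(Sz F m)) ≤ M → M = Subgroup.normalizer ((P : Subgroup ↥(Sz F m)) : Set ↥(Sz F m)) := by
  obtain ⟨x, hx⟩ := exists_sylow_conj hF hm P
  set Q := Usub hF hm with hQ
  have hN : ∀ y, y ∈ Subgroup.normalizer ((P : Subgroup ↥(Sz F m)) : Set ↥(Sz F m)) ↔ x⁻¹ * y * x ∈ Subgroup.normalizer ((Q : Subgroup ↥(Sz F m)) : Set ↥(Sz F m)) := by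
    intro y
    rw [Subgroup.mem_normalizer_iff, Subgroup.mem_normalizer_iff]
    constructor
    · intro h u
      have e1 := h (x * u * x⁻¹)
      rw [hx, hx] at e1
      have e2 : x⁻¹ * (x * u * x⁻¹) * x = u := by group
      have e3 : x⁻¹ * (y * (x * u * x⁻¹) * y⁻¹) * x = x⁻¹ * y * x * u * (x⁻¹ * y * x)⁻¹ := by group
      rw [e2, e3] at e1
      exact e1
    · intro h u
      have e1 := h (x⁻¹ * u * x)
      rw [hx, hx]
      have e3 : x⁻¹ * (y * u * y⁻¹) * x = x⁻¹ * y * x * (x⁻¹ * u * x) * (x⁻¹ * y * x)⁻¹ := by group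
      rw [e3]
      exact e1
  have key : ∀ H : Subgroup ↥(Sz F m), (P : Subgroup ↥(Sz F m)) ≤ H → ¬ H ≤ Subgroup.normalizer ((P : Subgroup ↥(Sz F m)) : Set ↥(Sz F m)) → H = ⊤ := by
    intro H hPH hnot
    set H' := H.comap (MulAut.conj x).toMonoidHom with hH'
    have hmem : ∀ y, y ∈ H' ↔ x * y * x⁻¹ ∈ H := by
      intro y
      simp [hH', MulAut.conj_apply]
    have h1 : Q ≤ H' := by
      intro u hu
      rw [hmem]
      apply hPH
      rw [hx]
      have e : x⁻¹ * (x * u * x⁻¹) * x = u := by group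
      rw [e]
      exact hu
    have h2 : ¬ H' ≤ Subgroup.normalizer ((Q : Subgroup ↥(Sz F m)) : Set ↥(Sz F m)) := by
      obtain ⟨y, hy, hy'⟩ := SetLike.not_le_iff_exists.1 hnot
      intro hle
      apply hy'
      rw [hN]
      apply hle
      rw [hmem]
      have e : x * (x⁻¹ * y * x) * x⁻¹ = y := by group
      rw [e]
      exact hy
    have h3 := over_Q hF hm H' h1 h2
    rw [eq_top_iff]
    intro y _
    have h4 : x⁻¹ * y * x ∈ H' := by
      rw [h3]
      exact Subgroup.mem_top _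
    rw [hmem] at h4
    have e : x * (x⁻¹ * y * x) * x⁻¹ = y := by group
    rwa [e] at h4
  have hne : Subgroup.normalizer ((P : Subgroup ↥(Sz F m)) : Set ↥(Sz F m)) ≠ ⊤ := by
    intro h
    have h1 : x * sT hF * x⁻¹ ∈ Subgroup.normalizer ((P : Subgroup ↥(Sz F m)) : Set ↥(Sz F m)) := by
      rw [h]
      exact Subgroup.mem_top _
    rw [hN] at h1
    have e : x⁻¹ * (x * sT hF * x⁻¹) * x = sT hF := by group
    rw [e, ← fix_inf_iff hF hm, sT_inf] at h1
    exact P_ne_inf _ _ h1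
  have hle : (P : Subgroup ↥(Sz F m)) ≤ Subgroup.normalizer ((P : Subgroup ↥(Sz F m)) : Set ↥(Sz F m)) := Subgroup.le_normalizer
  refine ⟨⟨hne, fun H hlt => key H (hle.trans hlt.le) (not_le_of_gt hlt)⟩, ?_⟩
  intro M hM hPM
  have h1 : M ≤ Subgroup.normalizer ((P : Subgroup ↥(Sz F m)) : Set ↥(Sz F m)) := by
    by_contra hcon
    exact hM.1 (key M hPM hcon)
  by_contra hcon
  exact hne (hM.2 _ (lt_of_le_of_ne h1 hcon))

/-- Two generators. -/
theorem two_gen : ∃ a b : ↥(Sz F m), Subgroup.closure ({a, b} : Set ↥(Sz F m)) = ⊤ := by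
  classical
  have C := ctx_of_card (m := m) hF
  obtain ⟨γ, hγ⟩ := IsCyclic.exists_generator (α := Fˣ)
  have hγ1 : γ ≠ 1 := by
    rintro rfl
    obtain ⟨β, hβ⟩ := exists_unit_ne_one hF hm
    have h1 := hγ β
    rw [Subgroup.zpowers_one_eq_bot, Subgroup.mem_bot] at h1
    exact hβ h1
  set a := sM hF γ with ha
  set s := sS hF (1 : F) 0 with hs
  set H := Subgroup.closure ({a, s * sT hF} : Set ↥(Sz F m)) with hH
  have hamem : a ∈ H := Subgroup.subset_closure (by simp)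
  have hbmem : s * sT hF ∈ H := Subgroup.subset_closure (by simp)
  have hT : ∀ α : Fˣ, sM hF α ∈ H := by
    intro α
    obtain ⟨n, hn⟩ := mem_powers_iff_mem_zpowers.2 (hγ α)
    rw [← hn, ← sM_pow hF hm]
    exact H.pow_mem hamem n
  have htconj : sT hF * a * (sT hF)⁻¹ = a⁻¹ := by
    rw [ha, sT_M hF hm, sM_inv hF hm]
    group
  have hz : s * a⁻¹ * s⁻¹ * a ∈ H := by
    have h1 : (s * sT hF) * a * (s * sT hF)⁻¹ = s * a⁻¹ * s⁻¹ := by
      rw [← htconj]
      group
    rw [← h1]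
    exact H.mul_mem (H.mul_mem (H.mul_mem hbmem hamem) (H.inv_mem hbmem)) hamem
  have hz' : ∃ c d : F, c ≠ 0 ∧ sS hF c d ∈ H := by
    have e : s * a⁻¹ * s⁻¹ * a = s * (sM hF γ⁻¹ * s⁻¹ * (sM hF γ⁻¹)⁻¹) := by
      rw [ha, ← sM_inv hF hm, inv_inv]
      group
    rw [e, hs, sS_inv' hF hm, sM_conj hF hm, sS_mul hF hm] at hz
    refine ⟨_, _, ?_, hz⟩
    intro h0
    have h1 : (γ⁻¹ : Fˣ) = 1 := by
      apply Units.ext
      rw [mul_one] at h0
      rw [Units.val_one]
      linear_combination h0 - (add_self C (1 : F))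
    exact hγ1 (inv_eq_one.1 h1)
  obtain ⟨c, d, hc, hcd⟩ := hz'
  have hconj : ∀ α : Fˣ, sS hF ((α : F) * c) ((α : F) ^ (θm + 1) * d) ∈ H := by
    intro α
    rw [← sM_conj hF hm]
    exact H.mul_mem (H.mul_mem (hT α) hcd) (H.inv_mem (hT α))
  have hex : ∀ u : F, u ≠ 0 → ∃ d' : F, sS hF u d' ∈ H := by
    intro u hu
    have h1 := hconj (Units.mk0 (u / c) (div_ne_zero hu hc))
    rw [Units.val_mk0, div_mul_cancel₀ _ hc] at h1
    exact ⟨_, h1⟩
  have hcent : ∀ b : F, sS hF 0 b ∈ H := by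
    intro b
    by_cases hb : b = 0
    · rw [hb, sS_zero hF hm]
      exact one_mem _
    · obtain ⟨u, hu⟩ := pow_succ_surj hF hm b
      simp only at hu
      have hu0 : u ≠ 0 := by
        rintro rfl
        rw [zero_pow (by positivity)] at hu
        exact hb hu.symm
      obtain ⟨d', hd'⟩ := hex u hu0
      have h1 := H.mul_mem hd' hd'
      rwa [sS_sq hF hm, hu] at h1
  have hQ : ∀ u v : F, sS hF u v ∈ H := by
    intro u v
    by_cases hu : u = 0
    · rw [hu]
      exact hcent v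
    · obtain ⟨d', hd'⟩ := hex u hu
      have h1 := H.mul_mem hd' (hcent (v + d'))
      rw [sS_mul hF hm, add_zero, mul_zero, add_zero] at h1
      have e : d' + (v + d') = v := by
        linear_combination add_self C d'
      rwa [e] at h1
  have hTm : sT hF ∈ H := by
    have h1 := H.mul_mem (H.inv_mem (hQ 1 0)) hbmem
    rwa [hs, inv_mul_cancel_left] at h1
  have hB : ∀ b : ↥(Sz F m), ((b : ↥(Sz F m)) : Matrix.SpecialLinearGroup (Fin 4) F) • ∞' = ∞' → b ∈ H := by
    intro b hb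
    obtain ⟨x, y, α, rfl⟩ := stab_cases hF hm b hb
    exact H.mul_mem (hQ _ _) (hT _)
  refine ⟨a, s * sT hF, ?_⟩
  rw [eq_top_iff]
  intro g _
  rcases bruhat_cases hF hm g with h | ⟨x, y, b, hb, rfl⟩
  · exact hB g h
  · exact H.mul_mem (H.mul_mem (hQ _ _) hTm) (hB b hb)

end

end CfsgLib.Sz
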