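/-
The partition of the Suzuki groups into Sylow 2-subgroups and cyclic subgroups.
-/
import Cfsg.Agent.Lib.Sz.Real

set_option autoImplicit false

namespace CfsgLib.Sz

open Matrix Cfsg
open scoped Pointwise

section arith

lemma cop_ab {a b r : ℕ} (ha : a + 1 = 2 * r ^ 2) (hb : b = 2 * r ^ 2 + 2 * r + 1) : Nat.Coprime a b := by
  rw [← Nat.isCoprime_iff_coprime]
  have ha' : (a : ℤ) = 2 * (r : ℤ) ^ 2 - 1 := by
    have : ((a + 1 : ℕ) : ℤ) = ((2 * r ^ 2 : ℕ) : ℤ) := by rw [ha]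
    push_cast at this
    linarith
  have hb' : (b : ℤ) = 2 * (r : ℤ) ^ 2 + 2 * r + 1 := by
    rw [hb]
    push_cast
    ring
  refine ⟨r, -((r : ℤ) - 1), ?_⟩
  rw [ha', hb']
  ring

lemma cop_ac {a c r : ℕ} (ha : a + 1 = 2 * r ^ 2) (hc : c + 2 * r = 2 * r ^ 2 + 1) : Nat.Coprime a c := by
  rw [← Nat.isCoprime_iff_coprime]
  have ha' : (a : ℤ) = 2 * (r : ℤ) ^ 2 - 1 := by
    have : ((a + 1 : ℕ) : ℤ) = ((2 * r ^ 2 : ℕ) : ℤ) := by rw [ha]
    push_cast at this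
    linarith
  have hc' : (c : ℤ) = 2 * (r : ℤ) ^ 2 - 2 * r + 1 := by
    have : ((c + 2 * r : ℕ) : ℤ) = ((2 * r ^ 2 + 1 : ℕ) : ℤ) := by rw [hc]
    push_cast at this
    linarith
  refine ⟨-(r : ℤ), (r : ℤ) + 1, ?_⟩
  rw [ha', hc']
  ring

lemma cop_bc {b c r : ℕ} (hb : b = 2 * r ^ 2 + 2 * r + 1) (hc : c + 2 * r = 2 * r ^ 2 + 1) : Nat.Coprime b c := by
  rw [← Nat.isCoprime_iff_coprime]
  have hb' : (b : ℤ) = 2 * (r : ℤ) ^ 2 + 2 * r + 1 := by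
    rw [hb]
    push_cast
    ring
  have hc' : (c : ℤ) = 2 * (r : ℤ) ^ 2 - 2 * r + 1 := by
    have : ((c + 2 * r : ℕ) : ℤ) = ((2 * r ^ 2 + 1 : ℕ) : ℤ) := by rw [hc]
    push_cast at this
    linarith
  refine ⟨1 - ((r : ℤ) ^ 2 + r) * (1 - r), -(((r : ℤ) ^ 2 + r) * (1 + r)), ?_⟩
  rw [hb', hc']
  ring

/-- The values in the list are mutually prime. -/
theorem list_dvd {m : ℕ} (hm : 1 ≤ m) {X Y : ℕ}
    (hX : X ∈ ({2 ^ (2 * m + 1) - 1, 2 ^ (2 * m + 1) + 2 ^ (m + 1) + 1, 2 ^ (2 * m + 1) - 2 ^ (m + 1) + 1} : Set ℕ))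
    (hY : Y ∈ ({2 ^ (2 * m + 1) - 1, 2 ^ (2 * m + 1) + 2 ^ (m + 1) + 1, 2 ^ (2 * m + 1) - 2 ^ (m + 1) + 1} : Set ℕ))
    (h : X ∣ Y) : X = Y := by
  set r := 2 ^ m with hr
  have hr2 : 2 ≤ r := by
    calc 2 = 2 ^ 1 := by norm_num
      _ ≤ 2 ^ m := Nat.pow_le_pow_right (by norm_num) hm
  have hq : 2 ^ (2 * m + 1) = 2 * r ^ 2 := by
    rw [hr]
    ring
  have h2r : 2 ^ (m + 1) = 2 * r := by
    rw [hr]
    ring
  rw [hq, h2r] at hX hY
  have hle : 2 * r + 2 ≤ 2 * r ^ 2 := by nlinarith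
  have ha : (2 * r ^ 2 - 1) + 1 = 2 * r ^ 2 := by omega
  have hc : (2 * r ^ 2 - 2 * r + 1) + 2 * r = 2 * r ^ 2 + 1 := by omega
  have hab := cop_ab ha rfl
  have hac := cop_ac ha hc
  have hbc := cop_bc (c := 2 * r ^ 2 - 2 * r + 1) (b := 2 * r ^ 2 + 2 * r + 1) rfl hc
  have key : ∀ {u v : ℕ}, Nat.Coprime u v → u ∣ v → 2 ≤ u → False := by
    intro u v huv hd h2
    have := Nat.Coprime.eq_one_of_dvd huv hd
    omega
  have l1 : 2 ≤ 2 * r ^ 2 - 1 := by omega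
  have l2 : 2 ≤ 2 * r ^ 2 + 2 * r + 1 := by omega
  have l3 : 2 ≤ 2 * r ^ 2 - 2 * r + 1 := by omega
  rcases hX with rfl | rfl | rfl <;> rcases hY with rfl | rfl | rfl
  · rfl
  · exact (key hab h l1).elim
  · exact (key hac h l1).elim
  · exact (key hab.symm h l2).elim
  · rfl
  · exact (key hbc h l2).elim
  · exact (key hac.symm h l3).elim
  · exact (key hbc.symm h l3).elim
  · rfl

/-- The product of the two torus orders. -/
theorem list_prod {m : ℕ} (hm : 1 ≤ m) :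
    (2 ^ (2 * m + 1) + 2 ^ (m + 1) + 1) * (2 ^ (2 * m + 1) - 2 ^ (m + 1) + 1) = (2 ^ (2 * m + 1)) ^ 2 + 1 := by
  set r := 2 ^ m with hr
  have hr2 : 2 ≤ r := by
    calc 2 = 2 ^ 1 := by norm_num
      _ ≤ 2 ^ m := Nat.pow_le_pow_right (by norm_num) hm
  have hq : 2 ^ (2 * m + 1) = 2 * r ^ 2 := by
    rw [hr]
    ring
  have h2r : 2 ^ (m + 1) = 2 * r := by
    rw [hr]
    ring
  rw [hq, h2r]
  have hle : 2 * r + 2 ≤ 2 * r ^ 2 := by nlinarith
  obtain ⟨t, ht⟩ : ∃ t, 2 * r ^ 2 = 2 * r + t := ⟨2 * r ^ 2 - 2 * r, by omega⟩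
  rw [ht]
  have e : 2 * r + t - 2 * r = t := by omega
  rw [e]
  have ht2 : (t : ℤ) = 2 * (r : ℤ) ^ 2 - 2 * r := by
    have : ((2 * r ^ 2 : ℕ) : ℤ) = ((2 * r + t : ℕ) : ℤ) := by rw [ht]
    push_cast at this
    linarith
  zify
  rw [ht2]
  ring

end arith

section

variable {F : Type*} [Field F] [Fintype F] {m : ℕ}

local notation "θm" => (2 ^ (m + 1) : ℕ)

local notation "∞'" => suzukiPointInfinity F

variable (hF : Fintype.card F = 2 ^ (2 * m + 1)) (hm : 1 ≤ m)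

include hF hm

/-- The exceptional subgroups are tori. -/
lemma torus_of_exc {U : Subgroup ↥(Sz F m)} (hcard : Nat.card U ∣ Fintype.card F ^ 2 + 1) (h1 : Nat.card U ≠ 1)
    (hC : ∀ u ∈ U, u ≠ 1 → Subgroup.centralizer {u} = U) : IsTorus U := by
  haveI : Finite ↥(Sz F m) := finite_Sz
  obtain ⟨p, hp, hpd⟩ := Nat.exists_prime_and_dvd h1
  haveI : Fact p.Prime := ⟨hp⟩
  obtain ⟨z, hz⟩ := exists_prime_orderOf_dvd_card' (G := U) p hpd
  have hz' : orderOf (z : ↥(Sz F m)) = p := by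
    rw [Subgroup.orderOf_coe, hz]
  have hz1 : (z : ↥(Sz F m)) ≠ 1 := by
    intro h
    rw [h, orderOf_one] at hz'
    exact hp.one_lt.ne hz'
  exact ⟨z, elem_fpf hF hm hz' hp (hpd.trans hcard), (hC z z.2 hz1).symm⟩

/-- The orders of the tori. -/
theorem torus_card_cases {A : Subgroup ↥(Sz F m)} (hA : IsTorus A) :
    Nat.card A = 2 ^ (2 * m + 1) + 2 ^ (m + 1) + 1 ∨ Nat.card A = 2 ^ (2 * m + 1) - 2 ^ (m + 1) + 1 := by
  obtain ⟨U₁, -, h1, hC1, -⟩ := exceptional hF hm (2 ^ (2 * m + 1) + 2 ^ (m + 1) + 1) (Or.inl rfl)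
  obtain ⟨U₂, -, h2, hC2, -⟩ := exceptional hF hm (2 ^ (2 * m + 1) - 2 ^ (m + 1) + 1) (Or.inr rfl)
  have hprod := list_prod hm
  have hr2 : 2 ≤ 2 ^ m := by
    calc 2 = 2 ^ 1 := by norm_num
      _ ≤ 2 ^ m := Nat.pow_le_pow_right (by norm_num) hm
  have hq : 2 ^ (2 * m + 1) = 2 * (2 ^ m) ^ 2 := by
    ring
  have h2r : 2 ^ (m + 1) = 2 * 2 ^ m := by
    ring
  have hle : 2 * 2 ^ m + 2 ≤ 2 * (2 ^ m) ^ 2 := by nlinarith
  have hT1 : IsTorus U₁ := torus_of_exc hF hm (by rw [h1, hF, ← hprod]; exact dvd_mul_right _ _)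
    (by rw [h1]; omega) hC1
  have hT2 : IsTorus U₂ := torus_of_exc hF hm (by rw [h2, hF, ← hprod]; exact dvd_mul_left _ _)
    (by rw [h2]; omega) hC2
  have h5 := torus_five_le hF hm hA
  obtain ⟨p, hp, hpd⟩ := Nat.exists_prime_and_dvd (n := Nat.card A) (by omega)
  have hc := torus_card_dvd hF hm hA
  have hpc : p ∣ Fintype.card F ^ 2 + 1 := hpd.trans hc
  obtain ⟨A', -, -, hconj⟩ := prime_torus hF hm hp hpc
  have hpc' := hpc
  rw [hF, ← hprod] at hpc'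
  rcases (Nat.Prime.dvd_mul hp).1 hpc' with h | h
  · left
    rw [← h1] at h ⊢
    exact ((hconj A hA hpd).symm.trans (hconj U₁ hT1 h)).card_eq
  · right
    rw [← h2] at h ⊢
    exact ((hconj A hA hpd).symm.trans (hconj U₂ hT2 h)).card_eq

omit hF hm in
lemma list_odd (hm : 1 ≤ m) {X : ℕ} (hX : X ∈ ({2 ^ (2 * m + 1) - 1, 2 ^ (2 * m + 1) + 2 ^ (m + 1) + 1, 2 ^ (2 * m + 1) - 2 ^ (m + 1) + 1} : Set ℕ)) : Odd X := by
  have e1 : 2 ^ (2 * m + 1) = 2 * 2 ^ (2 * m) := pow_succ' 2 _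
  have e2 : 2 ^ (m + 1) = 2 * 2 ^ m := pow_succ' 2 _
  have hr2 : 2 ≤ 2 ^ m := by
    calc 2 = 2 ^ 1 := by norm_num
      _ ≤ 2 ^ m := Nat.pow_le_pow_right (by norm_num) hm
  have hq : 2 ^ (2 * m) = (2 ^ m) ^ 2 := by
    ring
  have hle : 2 ^ m + 1 ≤ (2 ^ m) ^ 2 := by nlinarith
  rw [Nat.odd_iff]
  rcases hX with rfl | rfl | rfl
  · omega
  · omega
  · omega

/-- The units of odd order sit in a cyclic subgroup containing their centraliser. -/
lemma odd_unit (g : ↥(Sz F m)) (hg : g ≠ 1) (h : Fpf g ∨ ∃ (x : ↥(Sz F m)) (α : Fˣ), g = x * sM hF α * x⁻¹) :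
    ∃ U : Subgroup ↥(Sz F m), IsCyclic U ∧
      Nat.card U ∈ ({2 ^ (2 * m + 1) - 1, 2 ^ (2 * m + 1) + 2 ^ (m + 1) + 1, 2 ^ (2 * m + 1) - 2 ^ (m + 1) + 1} : Set ℕ) ∧
      g ∈ U ∧ ∀ y, y * g = g * y → y ∈ U := by
  classical
  rcases h with h | ⟨x, α, rfl⟩
  · refine ⟨Subgroup.centralizer ({g} : Set ↥(Sz F m)), (fpf_cent hF hm h).1, ?_, ?_, ?_⟩
    · rcases torus_card_cases hF hm (A := Subgroup.centralizer ({g} : Set ↥(Sz F m))) ⟨g, h, rfl⟩ with h1 | h1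
      · exact Or.inr (Or.inl h1)
      · exact Or.inr (Or.inr h1)
    · rw [Subgroup.mem_centralizer_singleton_iff]
    · intro y hy
      rw [Subgroup.mem_centralizer_singleton_iff]
      exact hy
  · let Tm : Fˣ →* ↥(Sz F m) :=
      { toFun := sM hF
        map_one' := sM_one hF hm
        map_mul' := fun a b => (sM_mul hF hm a b).symm }
    have hTm : ∀ β, Tm β = sM hF β := fun _ => rfl
    let f : Fˣ →* ↥(Sz F m) := (MulAut.conj x).toMonoidHom.comp Tm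
    have hf : ∀ β, f β = x * sM hF β * x⁻¹ := fun _ => rfl
    have hfinj : Function.Injective f := by
      intro β γ e
      rw [hf, hf] at e
      have e1 : sM hF β = sM hF γ := by
        have e2 := congrArg (fun z => x⁻¹ * z * x) e
        simpa [mul_assoc] using e2
      exact sM_inj hF hm e1
    have hα : α ≠ 1 := by
      rintro rfl
      apply hg
      rw [sM_one hF hm, mul_one, mul_inv_cancel]
    refine ⟨f.range, ?_, ?_, ⟨α, rfl⟩, ?_⟩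
    · exact isCyclic_of_surjective f.rangeRestrict f.rangeRestrict_surjective
    · left
      rw [Nat.card_congr (MonoidHom.ofInjective hfinj).toEquiv.symm, Nat.card_eq_fintype_card, Fintype.card_units, hF]
    · intro y hy
      have hcomm : (x⁻¹ * y * x) * sM hF α = sM hF α * (x⁻¹ * y * x) := by
        have e1 : (x⁻¹ * y * x) * sM hF α = x⁻¹ * (y * (x * sM hF α * x⁻¹)) * x := by group
        have e2 : sM hF α * (x⁻¹ * y * x) = x⁻¹ * ((x * sM hF α * x⁻¹) * y) * x := by group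
        rw [e1, e2, hy]
      have h1 := two_fixed_comm hF hm (sM_ne_one hF hm hα) (ptInf_ne hF hm 0 0) (M_fix_inf hF hm α) (M_fix_zero hF hm α) hcomm
      obtain ⟨β, hβ⟩ := two_cases hF hm _ (congrArg Subtype.val h1.1) (congrArg Subtype.val h1.2)
      refine ⟨β, ?_⟩
      rw [hf, ← hβ]
      group

/-- Membership in a conjugate of `Q`. -/
lemma mem_conj_uSylow (x y : ↥(Sz F m)) : y ∈ ((x • uSylow hF hm : Sylow 2 ↥(Sz F m)) : Subgroup ↥(Sz F m)) ↔ x⁻¹ * y * x ∈ Usub hF hm := by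
  rw [Sylow.coe_subgroup_smul, Subgroup.mem_pointwise_smul_iff_inv_smul_mem, uSylow_coe]
  simp [MulAut.conj_apply]

/-- A translation lies in a unique Sylow 2-subgroup. -/
lemma two_unit (x : ↥(Sz F m)) {a b : F} (hab : a ≠ 0 ∨ b ≠ 0) (P : Sylow 2 ↥(Sz F m))
    (hg : x * sS hF a b * x⁻¹ ∈ (P : Subgroup ↥(Sz F m))) :
    (P : Subgroup ↥(Sz F m)) = ((x • uSylow hF hm : Sylow 2 ↥(Sz F m)) : Subgroup ↥(Sz F m)) := by
  obtain ⟨x', hx'⟩ := exists_sylow_conj hF hm P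
  obtain ⟨c, d, e⟩ := (mem_Q hF hm _).1 ((hx' _).1 hg)
  have hfix : (x⁻¹ * x') • (ptInf : suzukiOvoid F m) = ptInf := by
    apply S_unique_fix hF hm hab
    have e1 : sS hF a b * (x⁻¹ * x') = (x⁻¹ * x') * sS hF c d := by
      rw [← e]
      group
    rw [← mul_smul, e1, mul_smul, S_fix_inf hF hm]
  have hb : x⁻¹ * x' ∈ Subgroup.normalizer ((Usub hF hm : Subgroup ↥(Sz F m)) : Set ↥(Sz F m)) :=
    (fix_inf_iff hF hm _).1 (congrArg Subtype.val hfix)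
  ext y
  rw [hx', mem_conj_uSylow]
  have h2 := Subgroup.mem_normalizer_iff.1 hb (x'⁻¹ * y * x')
  rw [h2]
  have e2 : x⁻¹ * x' * (x'⁻¹ * y * x') * (x⁻¹ * x')⁻¹ = x⁻¹ * y * x := by group
  rw [e2]

/-- Orders of elements in Sylow 2-subgroups. -/
lemma order_sylow (P : Sylow 2 ↥(Sz F m)) {g : ↥(Sz F m)} (hg : g ∈ (P : Subgroup ↥(Sz F m))) : ∃ k, orderOf g = 2 ^ k := by
  obtain ⟨x, hx⟩ := exists_sylow_conj hF hm P
  obtain ⟨c, d, e⟩ := (mem_Q hF hm _).1 ((hx _).1 hg)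
  have e1 : g = x * sS hF c d * x⁻¹ := by
    rw [← e]
    group
  rw [e1, order_conj hF hm]
  exact order_S hF hm c d

/-- The partition theorem. -/
theorem partition_main (g : ↥(Sz F m)) (hg : g ≠ 1) :
    ∃! U : Subgroup ↥(Sz F m), ((∃ P : Sylow 2 ↥(Sz F m), U = (P : Subgroup ↥(Sz F m))) ∨
      (IsCyclic ↥U ∧ Nat.card ↥U ∈ ({2 ^ (2 * m + 1) - 1, 2 ^ (2 * m + 1) + 2 ^ (m + 1) + 1, 2 ^ (2 * m + 1) - 2 ^ (m + 1) + 1} : Set ℕ))) ∧ g ∈ U := by
  haveI : Finite ↥(Sz F m) := finite_Sz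
  have hoddcase : (Fpf g ∨ ∃ (x : ↥(Sz F m)) (α : Fˣ), g = x * sM hF α * x⁻¹) → ∃! U : Subgroup ↥(Sz F m), ((∃ P : Sylow 2 ↥(Sz F m), U = (P : Subgroup ↥(Sz F m))) ∨
      (IsCyclic ↥U ∧ Nat.card ↥U ∈ ({2 ^ (2 * m + 1) - 1, 2 ^ (2 * m + 1) + 2 ^ (m + 1) + 1, 2 ^ (2 * m + 1) - 2 ^ (m + 1) + 1} : Set ℕ))) ∧ g ∈ U := by
    intro h
    have hodd : Odd (orderOf g) := by
      rcases h with h | ⟨x, α, rfl⟩
      · exact order_fpf hF hm h
      · rw [order_conj hF hm]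
        exact order_M hF hm α
    obtain ⟨U, hcyc, hcard, hgU, hcent⟩ := odd_unit hF hm g hg h
    refine ⟨U, ⟨Or.inr ⟨hcyc, hcard⟩, hgU⟩, ?_⟩
    rintro U' ⟨⟨P', rfl⟩ | ⟨hcyc', hcard'⟩, hgU'⟩
    · exfalso
      obtain ⟨k, hk⟩ := order_sylow hF hm P' hgU'
      rw [hk] at hodd
      rcases k with _ | k
      · apply hg
        rw [← orderOf_eq_one_iff, hk]
        rfl
      · rw [pow_succ] at hodd
        exact (Nat.not_even_iff_odd.2 hodd) (even_two.mul_left _)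
    · have hle : U' ≤ U := by
        intro y hy
        apply hcent
        have := cyc_comm (⟨y, hy⟩ : U') ⟨g, hgU'⟩
        exact congrArg Subtype.val this
      have h1 := list_dvd hm hcard' hcard (Subgroup.card_dvd_of_le hle)
      exact Subgroup.eq_of_le_of_card_ge hle (by rw [h1])
  rcases elem_cases hF hm g with h | ⟨x, a, b, h⟩ | h
  · exact hoddcase (Or.inl h)
  · have hab : a ≠ 0 ∨ b ≠ 0 := by
      by_contra hcon
      push Not at hcon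
      rw [hcon.1, hcon.2, sS_zero hF hm] at h
      exact hg (by rw [h]; group)
    refine ⟨((x • uSylow hF hm : Sylow 2 ↥(Sz F m)) : Subgroup ↥(Sz F m)), ⟨Or.inl ⟨_, rfl⟩, ?_⟩, ?_⟩
    · rw [mem_conj_uSylow, h]
      have e : x⁻¹ * (x * sS hF a b * x⁻¹) * x = sS hF a b := by group
      rw [e]
      exact sS_mem_Q hF hm a b
    · rintro U' ⟨⟨P', rfl⟩ | ⟨hcyc', hcard'⟩, hgU'⟩
      · rw [h] at hgU'
        exact two_unit hF hm x hab P' hgU'
      · exfalso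
        have h1 : orderOf g ∣ Nat.card U' := Subgroup.orderOf_dvd_natCard _ hgU'
        have h2 := list_odd hm hcard'
        have h3 := Odd.of_dvd_nat h2 h1
        rw [h, order_conj hF hm] at h3
        obtain ⟨k, hk⟩ := order_S hF hm a b
        rw [hk] at h3
        rcases k with _ | k
        · apply sS_ne_one hF hm hab
          rw [← orderOf_eq_one_iff, hk]
          rfl
        · rw [pow_succ] at h3
          exact (Nat.not_even_iff_odd.2 h3) (even_two.mul_left _)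
  · exact hoddcase (Or.inr h)

end

end CfsgLib.Sz
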