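/-
The normaliser of every fixed point free torus of the Suzuki group.
-/
import Cfsg.Agent.Lib.Sz.Final

set_option autoImplicit false

namespace CfsgLib.Sz

open Matrix Cfsg

lemma ConjT.card_norm {G : Type*} [Group G] {A B : Subgroup G} (h : ConjT A B) :
    Nat.card (Subgroup.normalizer (A : Set G)) = Nat.card (Subgroup.normalizer (B : Set G)) := by
  obtain ⟨x, hx⟩ := h
  have hB : B = A.map (MulAut.conj x).toMonoidHom := by
    ext y
    rw [hx y]
    constructor
    · intro h
      exact ⟨_, h, by simp [MulAut.conj_apply, mul_assoc]⟩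
    · rintro ⟨z, hz, rfl⟩
      simpa [MulAut.conj_apply, mul_assoc] using hz
  rw [hB, ← Subgroup.map_equiv_normalizer_eq, Subgroup.card_map_of_injective (MulAut.conj x).injective]

section

variable {F : Type*} [Field F] [Fintype F] {m : ℕ}

variable (hF : Fintype.card F = 2 ^ (2 * m + 1)) (hm : 1 ≤ m)

include hF hm

theorem torus_four {A : Subgroup (Sz F m)} (hA : IsTorus A) : Nat.card (Subgroup.normalizer (A : Set (Sz F m))) = 4 * Nat.card A := by
  classical
  set q := Fintype.card F with hq
  have hq8 : 8 ≤ q := by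
    rw [hF]
    calc 8 = 2 ^ 3 := by norm_num
      _ ≤ 2 ^ (2 * m + 1) := Nat.pow_le_pow_right (by norm_num) (by omega)
  set W := q ^ 2 * (q - 1) with hWdef
  have hW : 0 < W := by
    apply Nat.mul_pos (by positivity)
    omega
  set c := q ^ 2 + 1 with hc
  have hx0 : 2 * Nat.card {g : Sz F m // Fpf g} = W * (q * (q - 1)) := by
    have h1 := card_fpf hF hm
    have hG : Nat.card (Sz F m) = W * c := by
      rw [card_Sz hF hm, hWdef, hc, hF]
      ring
    obtain ⟨t, ht⟩ : ∃ t, q = t + 1 := ⟨q - 1, by omega⟩
    have e1 : q ^ 2 * (q ^ 2 - 1) = W * (q + 1) := by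
      rw [hWdef, ht]
      simp only [Nat.add_sub_cancel]
      have e : (t + 1) ^ 2 - 1 = t * (t + 2) := by
        have : (t + 1) ^ 2 = t * (t + 2) + 1 := by ring
        rw [this]
        simp
      rw [e]
      ring
    have e2 : W * c = W * (q * (q - 1)) + W * (q + 1) := by
      rw [← mul_add]
      congr 1
      rw [hc, ht]
      simp only [Nat.add_sub_cancel]
      ring
    rw [e1, hG, e2] at h1
    omega
  -- sets of fixed point free elements
  have hfpfcard : Nat.card {g : Sz F m // Fpf g} = ({g : Sz F m | Fpf g}).ncard := by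
    rw [← Nat.card_coe_set_eq]
    rfl
  have hcls : ∀ {A : Subgroup (Sz F m)}, IsTorus A → classOf A ⊆ {g : Sz F m | Fpf g} := fun hA y hy => class_sub_fpf hF hm hA hy
  have hclscard : ∀ A : Subgroup (Sz F m), Nat.card (classOf A) = (classOf A).ncard := fun A => by
    rw [← Nat.card_coe_set_eq]
  have hdisj : ∀ {A B : Subgroup (Sz F m)}, IsTorus A → IsTorus B → ¬ ConjT A B → Disjoint (classOf A) (classOf B) := by
    intro A B hA hB hAB
    rw [Set.disjoint_left]
    intro y h1 h2
    exact hAB (class_inter hF hm hA hB h1 h2)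
  have hfin : ∀ s : Set (Sz F m), s.Finite := fun s => s.toFinite
  obtain ⟨A₁, hA₁⟩ := exists_torus hF hm
  obtain ⟨n₁, hn₁, hn₁c⟩ := torus_index hF hm hA₁
  have hcl₁ := class_card_eq hF hm hA₁ hn₁
  have hfive₁ := torus_five_le hF hm hA₁
  -- every fixed point free element lies in the class of its centraliser
  have hcover : ∀ g : Sz F m, Fpf g → ∃ B : Subgroup (Sz F m), IsTorus B ∧ g ∈ classOf B := fun g hg =>
    ⟨_, ⟨g, hg, rfl⟩, fpf_mem_class hg⟩
  by_cases h1 : ∀ B : Subgroup (Sz F m), IsTorus B → ConjT A₁ B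
  · -- a single class
    exfalso
    have hset : {g : Sz F m | Fpf g} = classOf A₁ := by
      apply Set.Subset.antisymm
      · intro g hg
        obtain ⟨B, hB, hgB⟩ := hcover g hg
        rw [(h1 B hB).classOf_eq]
        exact hgB
      · exact hcls hA₁
    have hdvd : c ∣ Nat.card A₁ := by
      have hc0 : c ≠ 0 := by positivity
      rw [← Nat.factorization_prime_le_iff_dvd hc0 Nat.card_pos.ne']
      intro p hp
      by_cases hpc : p ∣ c
      · obtain ⟨A, hA, hd, -⟩ := prime_torus hF hm hp hpc
        have := (h1 A hA).card_eq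
        rw [this]
        exact (hp.pow_dvd_iff_le_factorization Nat.card_pos.ne').1 hd
      · rw [Nat.factorization_eq_zero_of_not_dvd hpc]
        exact Nat.zero_le _
    have hac : Nat.card A₁ = c := Nat.dvd_antisymm (torus_card_dvd hF hm hA₁) hdvd
    rw [hac] at hcl₁
    rw [hfpfcard, hset, ← hclscard] at hx0
    have hn₁4 : n₁ ≤ 4 := by omega
    exact arith_one hq8 hW rfl hn₁4 hcl₁ hx0
  · push Not at h1
    obtain ⟨A₂, hA₂, h12⟩ := h1
    obtain ⟨n₂, hn₂, hn₂c⟩ := torus_index hF hm hA₂
    have hcl₂ := class_card_eq hF hm hA₂ hn₂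
    have hfive₂ := torus_five_le hF hm hA₂
    have hd12 := hdisj hA₁ hA₂ h12
    by_cases h2 : ∀ B : Subgroup (Sz F m), IsTorus B → ConjT A₁ B ∨ ConjT A₂ B
    · -- two classes
      have hset : {g : Sz F m | Fpf g} = classOf A₁ ∪ classOf A₂ := by
        apply Set.Subset.antisymm
        · intro g hg
          obtain ⟨B, hB, hgB⟩ := hcover g hg
          rcases h2 B hB with h | h
          · rw [h.classOf_eq]
            exact Or.inl hgB
          · rw [h.classOf_eq]
            exact Or.inr hgB
        · exact Set.union_subset (hcls hA₁) (hcls hA₂)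
      have hcount : Nat.card {g : Sz F m // Fpf g} = Nat.card (classOf A₁) + Nat.card (classOf A₂) := by
        rw [hfpfcard, hset, Set.ncard_union_eq hd12 (hfin _) (hfin _), ← hclscard, ← hclscard]
      -- the orders are coprime
      have hcop : Nat.Coprime (Nat.card A₁) (Nat.card A₂) := by
        apply Nat.Coprime.symm
        apply Nat.coprime_of_dvd
        intro p hp h3 h4
        have hpc : p ∣ c := h3.trans (torus_card_dvd hF hm hA₂)
        obtain ⟨A, hA, -, hconj⟩ := prime_torus hF hm hp hpc
        exact h12 ((hconj A₁ hA₁ h4).symm.trans (hconj A₂ hA₂ h3))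
      have hprod : Nat.card A₁ * Nat.card A₂ = c := by
        apply Nat.dvd_antisymm
        · exact Nat.Coprime.mul_dvd_of_dvd_of_dvd hcop (torus_card_dvd hF hm hA₁) (torus_card_dvd hF hm hA₂)
        · have hc0 : c ≠ 0 := by positivity
          have hp0 : Nat.card A₁ * Nat.card A₂ ≠ 0 := Nat.mul_ne_zero Nat.card_pos.ne' Nat.card_pos.ne'
          rw [← Nat.factorization_prime_le_iff_dvd hc0 hp0]
          intro p hp
          by_cases hpc : p ∣ c
          · obtain ⟨A, hA, hd, -⟩ := prime_torus hF hm hp hpc
            have h5 : p ^ c.factorization p ∣ Nat.card A₁ * Nat.card A₂ := by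
              rcases h2 A hA with h | h
              · rw [h.card_eq]
                exact Dvd.dvd.mul_right hd _
              · rw [h.card_eq]
                exact Dvd.dvd.mul_left hd _
            exact (hp.pow_dvd_iff_le_factorization hp0).1 h5
          · rw [Nat.factorization_eq_zero_of_not_dvd hpc]
            exact Nat.zero_le _
      have hx1 : 2 * (Nat.card (classOf A₁) + Nat.card (classOf A₂)) = W * (q * (q - 1)) := by
        rw [← hcount]
        exact hx0
      obtain ⟨e1, e2, e3⟩ := arith_two hW rfl hfive₁ hfive₂ hprod hn₁c hn₂c hcl₁ hcl₂ hx1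
      subst e1
      subst e2
      have hconc : Nat.card (Subgroup.normalizer (A : Set (Sz F m))) = 4 * Nat.card A := by
        rcases h2 A hA with h | h
        · rw [← h.card_norm, hn₁, h.card_eq]
        · rw [← h.card_norm, hn₂, h.card_eq]
      exact hconc
    · -- three classes are impossible
      exfalso
      push Not at h2
      obtain ⟨A₃, hA₃, h13, h23⟩ := h2
      obtain ⟨n₃, hn₃, hn₃c⟩ := torus_index hF hm hA₃
      have hcl₃ := class_card_eq hF hm hA₃ hn₃
      have hfive₃ := torus_five_le hF hm hA₃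
      have hle : Nat.card (classOf A₁) + Nat.card (classOf A₂) + Nat.card (classOf A₃) ≤ Nat.card {g : Sz F m // Fpf g} := by
        rw [hfpfcard, hclscard, hclscard, hclscard]
        rw [← Set.ncard_union_eq hd12 (hfin _) (hfin _)]
        have hd3 : Disjoint (classOf A₁ ∪ classOf A₂) (classOf A₃) := by
          rw [Set.disjoint_union_left]
          exact ⟨hdisj hA₁ hA₃ h13, hdisj hA₂ hA₃ h23⟩
        rw [← Set.ncard_union_eq hd3 (hfin _) (hfin _)]
        apply Set.ncard_le_ncard _ (hfin _)
        exact Set.union_subset (Set.union_subset (hcls hA₁) (hcls hA₂)) (hcls hA₃)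
      exact arith_three hW rfl (arith_low hfive₁ (by omega) hcl₁) (arith_low hfive₂ (by omega) hcl₂) (arith_low hfive₃ (by omega) hcl₃) hle hx0

end

end CfsgLib.Sz
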