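/-
Solvable subgroups of the Suzuki groups: the classification and the structure of the normalisers.
-/
import Cfsg.Agent.Lib.Sz.Partition
import Cfsg.Agent.Lib.Sz.TorusFour

set_option autoImplicit false

namespace CfsgLib.Sz

open Matrix Cfsg
open scoped Pointwise

/-- A nontrivial solvable group has a nontrivial abelian normal subgroup. -/
theorem exists_abelian_normal' {H : Type*} [Group H] [hs : Group.IsSolvable H] [Nontrivial H] :
    ∃ N : Subgroup H, N.Normal ∧ N ≠ ⊥ ∧ ∀ a ∈ N, ∀ b ∈ N, a * b = b * a := by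
  classical
  have hex : ∃ n, derivedSeries H n = ⊥ := (Group.isSolvable_def H).1 hs
  set k := Nat.find hex with hk
  have hk0 : k ≠ 0 := by
    intro h0
    have h1 := Nat.find_spec hex
    rw [← hk, h0, derivedSeries_zero] at h1
    exact top_ne_bot h1
  obtain ⟨j, hj⟩ := Nat.exists_eq_succ_of_ne_zero hk0
  refine ⟨derivedSeries H j, derivedSeries_normal H j, ?_, ?_⟩
  · exact Nat.find_min hex (m := j) (by rw [← hk, hj]; exact Nat.lt_succ_self j)
  · intro a ha b hb
    have h1 := Nat.find_spec hex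
    rw [← hk, hj, Nat.succ_eq_add_one, derivedSeries_succ] at h1
    have h2 := Subgroup.commutator_mem_commutator ha hb
    rw [h1, Subgroup.mem_bot] at h2
    exact commutatorElement_eq_one_iff_mul_comm.1 h2

/-- A group with a commutative normal subgroup with 2-group quotient is solvable. -/
theorem solv_of_core {G : Type*} [Group G] [Finite G] (M K : Subgroup G) (hKM : K ≤ M)
    (hcomm : ∀ a ∈ K, ∀ b ∈ K, a * b = b * a) (hnorm : ∀ m ∈ M, ∀ k ∈ K, m * k * m⁻¹ ∈ K)
    (j : ℕ) (hpow : ∀ y ∈ M, y ^ (2 ^ j) ∈ K) : Group.IsSolvable M := by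
  classical
  haveI : Fact (Nat.Prime 2) := ⟨Nat.prime_two⟩
  set K' : Subgroup M := K.subgroupOf M with hK'
  haveI hn : K'.Normal := by
    constructor
    intro a ha g
    rw [hK', Subgroup.mem_subgroupOf] at ha ⊢
    exact hnorm g g.2 a ha
  haveI h1 : Group.IsSolvable K' := by
    apply isSolvable_of_comm
    intro a b
    apply Subtype.ext
    apply Subtype.ext
    exact hcomm _ (Subgroup.mem_subgroupOf.1 a.2) _ (Subgroup.mem_subgroupOf.1 b.2)
  have hP : IsPGroup 2 (M ⧸ K') := by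
    intro g
    obtain ⟨y, rfl⟩ := QuotientGroup.mk_surjective g
    refine ⟨j, ?_⟩
    rw [← QuotientGroup.mk_pow, QuotientGroup.eq_one_iff]
    rw [hK', Subgroup.mem_subgroupOf]
    exact hpow y y.2
  haveI : Finite (M ⧸ K') := inferInstance
  haveI : Group.IsNilpotent (M ⧸ K') := hP.isNilpotent
  haveI h2 : Group.IsSolvable (M ⧸ K') := inferInstance
  exact Group.isSolvable_of_ker_le_range K'.subtype (QuotientGroup.mk' K') (by
    intro y hy
    rw [MonoidHom.mem_ker, QuotientGroup.mk'_apply, QuotientGroup.eq_one_iff] at hy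
    exact ⟨⟨y, hy⟩, rfl⟩)

lemma odd_mem_of_sq_mem {G : Type*} [Group G] (K : Subgroup G) {x : G} (hx : Odd (orderOf x)) (h : x ^ 2 ∈ K) : x ∈ K := by
  obtain ⟨n, hn⟩ := hx
  have h1 : (x ^ 2) ^ (n + 1) = x := by
    rw [← pow_mul]
    have : 2 * (n + 1) = orderOf x + 1 := by omega
    rw [this, pow_succ, pow_orderOf_eq_one, one_mul]
  rw [← h1]
  exact K.pow_mem h _

lemma odd_mem_of_four_mem {G : Type*} [Group G] (K : Subgroup G) {x : G} (hx : Odd (orderOf x)) (h : x ^ 4 ∈ K) : x ∈ K := by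
  apply odd_mem_of_sq_mem K hx
  have h2 : Odd (orderOf (x ^ 2)) := by
    have : orderOf (x ^ 2) ∣ orderOf x := orderOf_pow_dvd 2
    exact Odd.of_dvd_nat hx this
  apply odd_mem_of_sq_mem K h2
  rwa [← pow_mul]

section generic

variable {G : Type*} [Group G] [Finite G]

lemma ncard_eq_filter' {α : Type*} [Fintype α] [DecidablePred (fun a : α => a ∈ (∅ : Set α))] (S : Set α) [DecidablePred (· ∈ S)] :
    S.ncard = (Finset.univ.filter (· ∈ S)).card := by
  classical
  rw [Set.ncard_eq_toFinset_card']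
  congr 1
  ext a
  simp

/-- The number of conjugators taking an element into a subgroup. -/
noncomputable def nu (M : Subgroup G) (x : G) : ℕ := Set.ncard {g : G | g⁻¹ * x * g ∈ M}

lemma nu_conj (M : Subgroup G) (x h : G) : nu M (h * x * h⁻¹) = nu M x := by
  unfold nu
  have e : {g : G | g⁻¹ * (h * x * h⁻¹) * g ∈ M} = (fun g => h * g) '' {g : G | g⁻¹ * x * g ∈ M} := by
    ext g
    simp only [Set.mem_ofPred_eq, Set.mem_image]
    constructor
    · intro hg
      refine ⟨h⁻¹ * g, ?_, by group⟩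
      have e1 : (h⁻¹ * g)⁻¹ * x * (h⁻¹ * g) = g⁻¹ * (h * x * h⁻¹) * g := by group
      rwa [e1]
    · rintro ⟨g', hg', rfl⟩
      have e1 : (h * g')⁻¹ * (h * x * h⁻¹) * (h * g') = g'⁻¹ * x * g' := by group
      rwa [e1]
  rw [e, Set.ncard_image_of_injective _ (mul_right_injective h)]

lemma nu_inv (M : Subgroup G) (x : G) : nu M x⁻¹ = nu M x := by
  unfold nu
  congr 1
  ext g
  simp only [Set.mem_ofPred_eq]
  have e1 : g⁻¹ * x⁻¹ * g = (g⁻¹ * x * g)⁻¹ := by group
  rw [e1, inv_mem_iff]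

/-- The basic double count. -/
theorem nu_sum (M : Subgroup G) (S : Set G) (hS : ∀ u h, u ∈ S → h * u * h⁻¹ ∈ S) (v : ℕ) (hv : ∀ u ∈ S, nu M u = v) :
    v * S.ncard = Nat.card G * (S ∩ (M : Set G)).ncard := by
  classical
  haveI : Fintype G := Fintype.ofFinite G
  set sS : Finset G := Finset.univ.filter (· ∈ S) with hsS
  have hcS : S.ncard = sS.card := ncard_eq_filter' S
  have hdc := Finset.sum_card_bipartiteAbove_eq_sum_card_bipartiteBelow (s := sS) (t := (Finset.univ : Finset G)) (fun u g => g⁻¹ * u * g ∈ M)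
  have hl : ∀ u ∈ sS, (Finset.bipartiteAbove (fun u g => g⁻¹ * u * g ∈ M) (Finset.univ : Finset G) u).card = v := by
    intro u hu
    have hu' : u ∈ S := (Finset.mem_filter.1 hu).2
    rw [← hv u hu']
    unfold nu
    rw [ncard_eq_filter']
    rfl
  have hr : ∀ g ∈ (Finset.univ : Finset G), (Finset.bipartiteBelow (fun u g => g⁻¹ * u * g ∈ M) sS g).card = (S ∩ (M : Set G)).ncard := by
    intro g _
    rw [ncard_eq_filter' (S ∩ (M : Set G))]
    apply Finset.card_bij (fun u _ => g⁻¹ * u * g)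
    · intro u hu
      simp only [Finset.mem_bipartiteBelow, hsS, Finset.mem_filter, Finset.mem_univ, true_and] at hu
      simp only [Finset.mem_filter, Finset.mem_univ, true_and]
      refine ⟨?_, hu.2⟩
      have := hS u g⁻¹ hu.1
      rwa [inv_inv] at this
    · intro u _ w _ e
      exact mul_left_cancel (mul_right_cancel e)
    · intro w hw
      simp only [Finset.mem_filter, Finset.mem_univ, true_and] at hw
      refine ⟨g * w * g⁻¹, ?_, by group⟩
      simp only [Finset.mem_bipartiteBelow, hsS, Finset.mem_filter, Finset.mem_univ, true_and]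
      refine ⟨hS w g hw.1, ?_⟩
      have e : g⁻¹ * (g * w * g⁻¹) * g = w := by group
      rw [e]
      exact hw.2
  rw [Finset.sum_congr rfl hl, Finset.sum_congr rfl hr, Finset.sum_const, Finset.sum_const, Finset.card_univ, smul_eq_mul, smul_eq_mul, ← Nat.card_eq_fintype_card] at hdc
  rw [hcS, ← hdc, mul_comm]

/-- The count of elements in a family of conjugates through a given element. -/
theorem Y_count (M : Subgroup G) (x : G) (B : Set G) (e : ℕ)
    (h1 : ∀ g, g⁻¹ * x * g ∈ M → Set.ncard {y | g⁻¹ * y * g ∈ M ∧ y ∉ B} = e)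
    (h2 : ∀ g g' y, g⁻¹ * x * g ∈ M → g⁻¹ * y * g ∈ M → g'⁻¹ * x * g' ∈ M → g'⁻¹ * y * g' ∈ M → y ∉ B → g⁻¹ * g' ∈ M) :
    Set.ncard {y | y ∉ B ∧ ∃ g, g⁻¹ * x * g ∈ M ∧ g⁻¹ * y * g ∈ M} * Nat.card M = nu M x * e := by
  classical
  haveI : Fintype G := Fintype.ofFinite G
  set sG : Finset G := Finset.univ.filter (· ∈ {g : G | g⁻¹ * x * g ∈ M}) with hsG
  set Y : Set G := {y | y ∉ B ∧ ∃ g, g⁻¹ * x * g ∈ M ∧ g⁻¹ * y * g ∈ M} with hY
  set sY : Finset G := Finset.univ.filter (· ∈ Y) with hsY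
  have hcY : Y.ncard = sY.card := ncard_eq_filter' Y
  have hcG : nu M x = sG.card := ncard_eq_filter' _
  have hdc := Finset.sum_card_bipartiteAbove_eq_sum_card_bipartiteBelow (s := sG) (t := sY) (fun g y => g⁻¹ * y * g ∈ M)
  have hl : ∀ g ∈ sG, (Finset.bipartiteAbove (fun g y => g⁻¹ * y * g ∈ M) sY g).card = e := by
    intro g hg
    have hg' : g⁻¹ * x * g ∈ M := (Finset.mem_filter.1 hg).2
    rw [← h1 g hg', ncard_eq_filter']
    congr 1
    ext y
    simp only [Finset.mem_bipartiteAbove, hsY, Finset.mem_filter, Finset.mem_univ, true_and, hY, Set.mem_ofPred_eq]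
    constructor
    · rintro ⟨⟨h3, -⟩, h4⟩
      exact ⟨h4, h3⟩
    · rintro ⟨h4, h3⟩
      exact ⟨⟨h3, g, hg', h4⟩, h4⟩
  have hr : ∀ y ∈ sY, (Finset.bipartiteBelow (fun g y => g⁻¹ * y * g ∈ M) sG y).card = Nat.card M := by
    intro y hy
    have hy' : y ∈ Y := (Finset.mem_filter.1 hy).2
    obtain ⟨hyB, g₀, hg₀, hg₀y⟩ := hy'
    rw [Nat.card_eq_fintype_card, ← Finset.card_univ]
    symm
    apply Finset.card_bij (fun (m : ↥M) (_ : m ∈ (Finset.univ : Finset ↥M)) => g₀ * (m : G))
    · intro m _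
      simp only [Finset.mem_bipartiteBelow, hsG, Finset.mem_filter, Finset.mem_univ, true_and, Set.mem_ofPred_eq]
      have e1 : ∀ z : G, (g₀ * (m : G))⁻¹ * z * (g₀ * (m : G)) = (m : G)⁻¹ * (g₀⁻¹ * z * g₀) * (m : G) := by
        intro z
        group
      rw [e1, e1]
      exact ⟨M.mul_mem (M.mul_mem (M.inv_mem m.2) hg₀) m.2, M.mul_mem (M.mul_mem (M.inv_mem m.2) hg₀y) m.2⟩
    · intro m _ m' _ e
      exact Subtype.ext (mul_left_cancel e)
    · intro g hg
      simp only [Finset.mem_bipartiteBelow, hsG, Finset.mem_filter, Finset.mem_univ, true_and, Set.mem_ofPred_eq] at hg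
      refine ⟨⟨g₀⁻¹ * g, h2 g₀ g y hg₀ hg₀y hg.1 hg.2 hyB⟩, Finset.mem_univ _, ?_⟩
      simp
  rw [Finset.sum_congr rfl hl, Finset.sum_congr rfl hr, Finset.sum_const, Finset.sum_const, smul_eq_mul, smul_eq_mul] at hdc
  rw [hcY, hcG, hdc]

end generic

section

variable {F : Type*} [Field F] [Fintype F] {m : ℕ}

local notation "θm" => (2 ^ (m + 1) : ℕ)

local notation "∞'" => suzukiPointInfinity F

set_option quotPrecheck false in
local notation "GG" => ↥(Sz F m)

set_option quotPrecheck false in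
local notation "OO" => ↥(suzukiOvoid F m)

/-- The pointwise stabiliser of two points. -/
def Tp (a b : OO) : Subgroup GG := MulAction.stabilizer GG a ⊓ MulAction.stabilizer GG b

/-- The setwise stabiliser of two points. -/
def Dp (a b : OO) : Subgroup GG where
  carrier := {g | (g • a = a ∧ g • b = b) ∨ (g • a = b ∧ g • b = a)}
  mul_mem' := by
    rintro g h (⟨h1, h2⟩ | ⟨h1, h2⟩) (⟨h3, h4⟩ | ⟨h3, h4⟩)
    · exact Or.inl ⟨by rw [mul_smul, h3, h1], by rw [mul_smul, h4, h2]⟩
    · exact Or.inr ⟨by rw [mul_smul, h3, h2], by rw [mul_smul, h4, h1]⟩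
    · exact Or.inr ⟨by rw [mul_smul, h3, h1], by rw [mul_smul, h4, h2]⟩
    · exact Or.inl ⟨by rw [mul_smul, h3, h2], by rw [mul_smul, h4, h1]⟩
  one_mem' := Or.inl ⟨one_smul _ _, one_smul _ _⟩
  inv_mem' := by
    rintro g (⟨h1, h2⟩ | ⟨h1, h2⟩)
    · exact Or.inl ⟨by rw [inv_smul_eq_iff, h1], by rw [inv_smul_eq_iff, h2]⟩
    · exact Or.inr ⟨by rw [inv_smul_eq_iff, h2], by rw [inv_smul_eq_iff, h1]⟩

lemma mem_Tp {a b : OO} {g : GG} : g ∈ Tp a b ↔ g • a = a ∧ g • b = b := Iff.rfl

lemma mem_Dp {a b : OO} {g : GG} : g ∈ Dp a b ↔ (g • a = a ∧ g • b = b) ∨ (g • a = b ∧ g • b = a) := Iff.rfl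

lemma Dp_comm (a b : OO) : Dp a b = Dp b a := by
  ext g
  rw [mem_Dp, mem_Dp]
  constructor
  · rintro (⟨h1, h2⟩ | ⟨h1, h2⟩)
    · exact Or.inl ⟨h2, h1⟩
    · exact Or.inr ⟨h2, h1⟩
  · rintro (⟨h1, h2⟩ | ⟨h1, h2⟩)
    · exact Or.inl ⟨h2, h1⟩
    · exact Or.inr ⟨h2, h1⟩

lemma Tp_le_Dp (a b : OO) : Tp a b ≤ Dp a b := fun _ h => Or.inl h

variable (hF : Fintype.card F = 2 ^ (2 * m + 1)) (hm : 1 ≤ m)

include hF hm

/-- At most two fixed points. -/
lemma fix_three {c : GG} (hc1 : c ≠ 1) {a b d : OO} (hab : a ≠ b) (h1 : c • a = a) (h2 : c • b = b) (h3 : c • d = d) : d = a ∨ d = b := by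
  by_contra hcon
  push Not at hcon
  apply hc1
  apply Subtype.ext
  exact three_pt hF hm c.2 a.2 b.2 d.2 (fun h => hab (Subtype.ext h)) (fun h => hcon.2 (Subtype.ext h).symm) (fun h => hcon.1 (Subtype.ext h).symm)
    (congrArg Subtype.val h1) (congrArg Subtype.val h2) (congrArg Subtype.val h3)

/-- Every point is an image of the point at infinity. -/
lemma exists_transport (p : OO) : ∃ x : GG, x • (ptInf : OO) = p := by
  obtain ⟨p, hp'⟩ := p
  rcases ovoid_cases hp' with rfl | ⟨a, b, rfl⟩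
  · exact ⟨1, one_smul _ _⟩
  · refine ⟨sS hF a b * sT hF, ?_⟩
    apply Subtype.ext
    show ((sS hF a b * sT hF : GG) : Matrix.SpecialLinearGroup (Fin 4) F) • ∞' = P θm a b
    rw [act_mul hF, sT_inf, sS_P]
    simp

/-- An element of order dividing four is conjugate to a translation, so has a unique fixed point. -/
theorem two_elem_fix {u : GG} (hu : u ≠ 1) (h4 : u ^ 4 = 1) : ∃ p : OO, u • p = p ∧ ∀ p' : OO, u • p' = p' → p' = p := by
  have hord : orderOf u ∣ 4 := orderOf_dvd_of_pow_eq_one h4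
  have hodd : ¬ Odd (orderOf u) := by
    intro h
    have h1 : Nat.Coprime (orderOf u) (2 ^ 2) := Nat.Coprime.pow_right 2 (Nat.coprime_two_right.2 h)
    have h2 := Nat.Coprime.eq_one_of_dvd h1 hord
    exact hu (orderOf_eq_one_iff.1 h2)
  rcases elem_cases hF hm u with h | ⟨x, a, b, rfl⟩ | ⟨x, α, rfl⟩
  · exact absurd (order_fpf hF hm h) hodd
  · have hab : a ≠ 0 ∨ b ≠ 0 := by
      by_contra hcon
      push Not at hcon
      rw [hcon.1, hcon.2, sS_zero hF hm] at hu
      exact hu (by group)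
    refine ⟨x • ptInf, ?_, ?_⟩
    · rw [← mul_smul]
      have e : x * sS hF a b * x⁻¹ * x = x * sS hF a b := by group
      rw [e, mul_smul, S_fix_inf hF hm]
    · intro p' hp'
      have h1 : sS hF a b • (x⁻¹ • p') = x⁻¹ • p' := by
        rw [← mul_smul]
        have e : sS hF a b * x⁻¹ = x⁻¹ * (x * sS hF a b * x⁻¹) := by group
        rw [e, mul_smul, hp']
      have h2 := S_unique_fix hF hm hab h1
      rw [← h2, smul_inv_smul]
  · rw [order_conj hF hm] at hodd
    exact absurd (order_M hF hm α) hodd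

/-- The classification of solvable subgroups. -/
theorem solv_classify (H : Subgroup GG) (hsolv : Group.IsSolvable H) (hne : H ≠ ⊥) :
    (∃ p : OO, ∀ h ∈ H, h • p = p) ∨ (∃ a b : OO, a ≠ b ∧ H ≤ Dp a b) ∨
    (∃ A : Subgroup GG, IsTorus A ∧ H ≤ Subgroup.normalizer (A : Set GG)) := by
  haveI : Nontrivial H := (Subgroup.nontrivial_iff_ne_bot H).2 hne
  obtain ⟨N, hNn, hNb, hNc⟩ := exists_abelian_normal' (H := H)
  obtain ⟨a₀, ha₀, ha₀1⟩ := (Subgroup.ne_bot_iff_exists_ne_one.1 hNb).elim fun z hz => (⟨z.1, z.2, fun e => hz (Subtype.ext e)⟩ : ∃ z : H, z ∈ N ∧ z ≠ 1)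
  set a : GG := (a₀ : GG) with ha
  have ha1 : a ≠ 1 := fun e => ha₀1 (Subtype.ext e)
  have hc : ∀ h ∈ H, (h * a * h⁻¹) * a = a * (h * a * h⁻¹) := by
    intro h hh
    have h1 := hNn.conj_mem a₀ ha₀ ⟨h, hh⟩
    have h2 := hNc _ h1 _ ha₀
    exact congrArg Subtype.val h2
  have hc1 : ∀ h : GG, h * a * h⁻¹ ≠ 1 := by
    intro h e
    apply ha1
    have e2 : a = h⁻¹ * (h * a * h⁻¹) * h := by group
    rw [e2, e]
    group
  have hcfix : ∀ (h : GG) (p : OO), (h * a * h⁻¹) • (h • p) = h • (a • p) := by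
    intro h p
    rw [← mul_smul, ← mul_smul]
    congr 1
    group
  rcases elem_cases hF hm a with hfpf | ⟨x, c, d, hx⟩ | ⟨x, α, hx⟩
  · right; right
    refine ⟨Subgroup.centralizer ({a} : Set GG), ⟨a, hfpf, rfl⟩, ?_⟩
    intro h hh
    rw [Subgroup.mem_normalizer_iff]
    intro u
    have h1 : h * a * h⁻¹ ∈ Subgroup.centralizer ({a} : Set GG) := by
      rw [Subgroup.mem_centralizer_singleton_iff]
      exact hc h hh
    have key := (fpf_cent_eq hF hm hfpf h1 (hc1 h)).2
    have e0 : h * u * h⁻¹ ∈ Subgroup.centralizer ({a} : Set GG) ↔ h * u * h⁻¹ ∈ Subgroup.centralizer ({h * a * h⁻¹} : Set GG) := by rw [key]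
    rw [e0, Subgroup.mem_centralizer_singleton_iff, Subgroup.mem_centralizer_singleton_iff]
    constructor
    · intro e
      have e1 : h * u * h⁻¹ * (h * a * h⁻¹) = h * (u * a) * h⁻¹ := by group
      have e2 : h * a * h⁻¹ * (h * u * h⁻¹) = h * (a * u) * h⁻¹ := by group
      rw [e1, e2, e]
    · intro e
      have e1 : h * u * h⁻¹ * (h * a * h⁻¹) = h * (u * a) * h⁻¹ := by group
      have e2 : h * a * h⁻¹ * (h * u * h⁻¹) = h * (a * u) * h⁻¹ := by group
      rw [e1, e2] at e
      have e3 := mul_left_cancel (mul_right_cancel e)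
      exact e3
  · left
    have hcd : c ≠ 0 ∨ d ≠ 0 := by
      by_contra hcon
      push Not at hcon
      rw [hcon.1, hcon.2, sS_zero hF hm] at hx
      exact ha1 (by rw [hx]; group)
    have huniq : ∀ p' : OO, a • p' = p' → p' = x • ptInf := by
      intro p' hp'
      have h1 : sS hF c d • (x⁻¹ • p') = x⁻¹ • p' := by
        rw [← mul_smul]
        have e : sS hF c d * x⁻¹ = x⁻¹ * (x * sS hF c d * x⁻¹) := by group
        rw [e, mul_smul, ← hx, hp']
      have h2 := S_unique_fix hF hm hcd h1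
      rw [← h2, smul_inv_smul]
    have hfix : a • (x • (ptInf : OO)) = x • ptInf := by
      rw [← mul_smul]
      have e : a * x = x * sS hF c d := by
        rw [hx]
        group
      rw [e, mul_smul, S_fix_inf hF hm]
    refine ⟨x • ptInf, fun h hh => ?_⟩
    set p := x • (ptInf : OO) with hp
    have h1 : a • ((h * a * h⁻¹) • p) = (h * a * h⁻¹) • p := by
      rw [← mul_smul, ← hc h hh, mul_smul, hfix]
    have h2 := huniq _ h1
    have h3 : a • (h⁻¹ • p) = h⁻¹ • p := by
      have h4 : h⁻¹ • ((h * a * h⁻¹) • p) = h⁻¹ • p := by rw [h2]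
      rw [← mul_smul] at h4
      have e : h⁻¹ * (h * a * h⁻¹) = a * h⁻¹ := by group
      rw [e, mul_smul] at h4
      exact h4
    have h5 := huniq _ h3
    have h6 : h • (h⁻¹ • p) = p := smul_inv_smul h p
    rwa [h5] at h6
  · right; left
    have hα : α ≠ 1 := by
      rintro rfl
      rw [sM_one hF hm] at hx
      exact ha1 (by rw [hx]; group)
    set a₁ : OO := x • ptInf with ha₁
    set a₂ : OO := x • ptP 0 0 with ha₂
    have h12 : a₁ ≠ a₂ := by
      intro e
      exact ptInf_ne hF hm 0 0 (smul_left_cancel x e)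
    have hfa₁ : a • a₁ = a₁ := by
      rw [ha₁, ← mul_smul]
      have e : a * x = x * sM hF α := by
        rw [hx]
        group
      rw [e, mul_smul, M_fix_inf hF hm]
    have hfa₂ : a • a₂ = a₂ := by
      rw [ha₂, ← mul_smul]
      have e : a * x = x * sM hF α := by
        rw [hx]
        group
      rw [e, mul_smul, M_fix_zero hF hm]
    refine ⟨a₁, a₂, h12, fun h hh => ?_⟩
    obtain ⟨h3, h4⟩ := two_fixed_comm hF hm ha1 h12 hfa₁ hfa₂ (hc h hh)
    have h5 : (h * a * h⁻¹) • (h • a₁) = h • a₁ := by rw [hcfix, hfa₁]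
    have h6 : (h * a * h⁻¹) • (h • a₂) = h • a₂ := by rw [hcfix, hfa₂]
    have h7 := fix_three hF hm (hc1 h) h12 h3 h4 h5
    have h8 := fix_three hF hm (hc1 h) h12 h3 h4 h6
    have hne' : h • a₁ ≠ h • a₂ := fun e => h12 (smul_left_cancel h e)
    rw [mem_Dp]
    rcases h7 with h7 | h7 <;> rcases h8 with h8 | h8
    · exact absurd (h7.trans h8.symm) hne'
    · exact Or.inl ⟨h7, h8⟩
    · exact Or.inr ⟨h7, h8⟩
    · exact absurd (h7.trans h8.symm) hne'


/-- Two point stabilisers are commutative. -/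
lemma Tp_comm {a b : OO} (hab : a ≠ b) {u v : GG} (hu : u ∈ Tp a b) (hv : v ∈ Tp a b) : u * v = v * u := by
  obtain ⟨x, hx1, hx2⟩ := two_trans hF hm (ptInf_ne hF hm 0 0) hab
  have key : ∀ w ∈ Tp a b, ∃ α : Fˣ, x⁻¹ * w * x = sM hF α := by
    intro w hw
    obtain ⟨h1, h2⟩ := mem_Tp.1 hw
    have h3 : (x⁻¹ * w * x) • (ptInf : OO) = ptInf := by
      rw [mul_smul, mul_smul, hx1, h1, ← hx1, inv_smul_smul]
    have h4 : (x⁻¹ * w * x) • (ptP 0 0 : OO) = ptP 0 0 := by
      rw [mul_smul, mul_smul, hx2, h2, ← hx2, inv_smul_smul]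
    exact two_cases hF hm _ (congrArg Subtype.val h3) (congrArg Subtype.val h4)
  obtain ⟨α, hα⟩ := key u hu
  obtain ⟨β, hβ⟩ := key v hv
  have e : (x⁻¹ * u * x) * (x⁻¹ * v * x) = (x⁻¹ * v * x) * (x⁻¹ * u * x) := by
    rw [hα, hβ, sM_mul hF hm, sM_mul hF hm, mul_comm]
  have e1 : x⁻¹ * (u * v) * x = x⁻¹ * (v * u) * x := by
    have e2 : x⁻¹ * (u * v) * x = (x⁻¹ * u * x) * (x⁻¹ * v * x) := by group
    have e3 : x⁻¹ * (v * u) * x = (x⁻¹ * v * x) * (x⁻¹ * u * x) := by group
    rw [e2, e3, e]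
  exact mul_left_cancel (mul_right_cancel e1)

omit hF hm in
lemma Dp_sq_mem {a b : OO} {y : GG} (hy : y ∈ Dp a b) : y ^ 2 ∈ Tp a b := by
  rw [pow_two, mem_Tp]
  rcases mem_Dp.1 hy with ⟨h1, h2⟩ | ⟨h1, h2⟩
  · exact ⟨by rw [mul_smul, h1, h1], by rw [mul_smul, h2, h2]⟩
  · exact ⟨by rw [mul_smul, h1, h2], by rw [mul_smul, h2, h1]⟩

omit hF hm in
lemma Dp_norm {a b : OO} {y k : GG} (hy : y ∈ Dp a b) (hk : k ∈ Tp a b) : y * k * y⁻¹ ∈ Tp a b := by
  obtain ⟨h3, h4⟩ := mem_Tp.1 hk
  rw [mem_Tp]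
  rcases mem_Dp.1 hy with ⟨h1, h2⟩ | ⟨h1, h2⟩
  · have e1 : y⁻¹ • a = a := by rw [inv_smul_eq_iff, h1]
    have e2 : y⁻¹ • b = b := by rw [inv_smul_eq_iff, h2]
    exact ⟨by rw [mul_smul, mul_smul, e1, h3, h1], by rw [mul_smul, mul_smul, e2, h4, h2]⟩
  · have e1 : y⁻¹ • a = b := by rw [inv_smul_eq_iff, h2]
    have e2 : y⁻¹ • b = a := by rw [inv_smul_eq_iff, h1]
    exact ⟨by rw [mul_smul, mul_smul, e1, h4, h2], by rw [mul_smul, mul_smul, e2, h3, h1]⟩

theorem Dp_solv {a b : OO} (hab : a ≠ b) : Group.IsSolvable (Dp a b) :=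
  haveI : Finite GG := finite_Sz
  solv_of_core (Dp a b) (Tp a b) (Tp_le_Dp a b) (fun _ hu _ hv => Tp_comm hF hm hab hu hv) (fun _ h _ hk => Dp_norm h hk) 1
    (fun y hy => by simpa using Dp_sq_mem hy)

lemma eq_one_of_odd_of_four {u : GG} (hu : Odd (orderOf u)) (h4 : u ^ 4 = 1) : u = 1 := by
  have hord : orderOf u ∣ 4 := orderOf_dvd_of_pow_eq_one h4
  have h1 : Nat.Coprime (orderOf u) (2 ^ 2) := Nat.Coprime.pow_right 2 (Nat.coprime_two_right.2 hu)
  exact orderOf_eq_one_iff.1 (Nat.Coprime.eq_one_of_dvd h1 hord)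

lemma q_sub_odd : Odd (Fintype.card F - 1) := by
  rw [hF]
  have : 2 ^ (2 * m + 1) = 2 * 2 ^ (2 * m) := pow_succ' 2 _
  have hp : 0 < 2 ^ (2 * m) := by positivity
  refine ⟨2 ^ (2 * m) - 1, ?_⟩
  omega

lemma Tp_card {a b : OO} (hab : a ≠ b) : Nat.card (Tp a b) = Fintype.card F - 1 :=
  card_two_stab hF hm hab

lemma Tp_odd {a b : OO} (hab : a ≠ b) {u : GG} (hu : u ∈ Tp a b) : Odd (orderOf u) := by
  have h1 : orderOf u ∣ Nat.card (Tp a b) := Subgroup.orderOf_dvd_natCard _ hu
  rw [Tp_card hF hm hab] at h1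
  exact Odd.of_dvd_nat (q_sub_odd hF hm) h1

/-- Elements swapping the two points are involutions. -/
lemma Dp_swap_order {a b : OO} (hab : a ≠ b) {y : GG} (hy : y ∈ Dp a b) (hn : y ∉ Tp a b) : orderOf y = 2 := by
  haveI : Fact (Nat.Prime 2) := ⟨Nat.prime_two⟩
  have h2 := Dp_sq_mem hy
  have hy2 : y ^ 2 = 1 := by
    by_contra hne
    obtain ⟨h3, h4⟩ := mem_Tp.1 h2
    have hc : y * y ^ 2 = y ^ 2 * y := by
      rw [pow_two, mul_assoc]
    exact hn (two_fixed_comm hF hm hne hab h3 h4 hc)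
  refine orderOf_eq_prime hy2 ?_
  rintro rfl
  exact hn (one_mem _)

/-- A subgroup containing another with index two. -/
lemma Dp_card_aux {a b : OO} (hab : a ≠ b) :
    Set.ncard ({y : GG | orderOf y = 2} ∩ (Dp a b : Set GG)) = Fintype.card F - 1 ∧ Nat.card (Dp a b) = 2 * (Fintype.card F - 1) := by
  classical
  haveI : Finite GG := finite_Sz
  obtain ⟨s, hs1, hs2⟩ := two_trans hF hm hab hab.symm
  have hs : s ∈ Dp a b := Or.inr ⟨hs1, hs2⟩
  have hTc : (Tp a b : Set GG).ncard = Fintype.card F - 1 := by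
    rw [← Nat.card_coe_set_eq]
    exact Tp_card hF hm hab
  have hsT : (fun t => s * t) '' (Tp a b : Set GG) = (Dp a b : Set GG) \ (Tp a b : Set GG) := by
    ext y
    simp only [Set.mem_image, SetLike.mem_coe, Set.mem_sdiff]
    constructor
    · rintro ⟨t, ht, rfl⟩
      obtain ⟨h3, h4⟩ := mem_Tp.1 ht
      refine ⟨Subgroup.mul_mem _ hs (Tp_le_Dp a b ht), ?_⟩
      intro h5
      obtain ⟨h6, h7⟩ := mem_Tp.1 h5
      rw [mul_smul, h3, hs1] at h6
      exact hab h6.symm
    · rintro ⟨h3, h4⟩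
      refine ⟨s⁻¹ * y, ?_, by group⟩
      rw [mem_Tp, mul_smul, mul_smul]
      rcases mem_Dp.1 h3 with h5 | ⟨h5, h6⟩
      · exact absurd h5 h4
      · rw [h5, h6]
        exact ⟨by rw [inv_smul_eq_iff, hs1], by rw [inv_smul_eq_iff, hs2]⟩
  have hdiff : ((Dp a b : Set GG) \ (Tp a b : Set GG)).ncard = Fintype.card F - 1 := by
    rw [← hsT, Set.ncard_image_of_injective _ (mul_right_injective s), hTc]
  constructor
  · have e : {y : GG | orderOf y = 2} ∩ (Dp a b : Set GG) = (Dp a b : Set GG) \ (Tp a b : Set GG) := by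
      ext y
      simp only [Set.mem_inter_iff, Set.mem_ofPred_eq, SetLike.mem_coe, Set.mem_sdiff]
      constructor
      · rintro ⟨h1, h2⟩
        refine ⟨h2, fun h3 => ?_⟩
        have h4 := Tp_odd hF hm hab h3
        rw [h1] at h4
        exact absurd h4 (by decide)
      · rintro ⟨h1, h2⟩
        exact ⟨Dp_swap_order hF hm hab h1 h2, h1⟩
    rw [e, hdiff]
  · rw [show Nat.card (Dp a b) = (Dp a b : Set GG).ncard from Nat.card_coe_set_eq _]
    have h5 := Set.ncard_diff_add_ncard_of_subset (s := (Tp a b : Set GG)) (t := (Dp a b : Set GG)) (Tp_le_Dp a b)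
    rw [hdiff, hTc] at h5
    omega

/-- The order of the normaliser of a torus and powers. -/
lemma torus_pow_four {A : Subgroup GG} (hA : IsTorus A) {y : GG} (hy : y ∈ Subgroup.normalizer (A : Set GG)) : y ^ 4 ∈ A := by
  haveI : Finite GG := finite_Sz
  have hle : A ≤ Subgroup.normalizer (A : Set GG) := Subgroup.le_normalizer
  set A' := A.subgroupOf (Subgroup.normalizer (A : Set GG)) with hA'
  have h1 : Nat.card A' = Nat.card A := Nat.card_congr (Subgroup.subgroupOfEquivOfLe hle).toEquiv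
  have h2 := Subgroup.card_mul_index A'
  rw [h1, torus_four hF hm hA] at h2
  have hpos : 0 < Nat.card A := Nat.card_pos
  have h3 : A'.index = 4 := by
    have : Nat.card A * A'.index = Nat.card A * 4 := by rw [h2]; ring
    exact Nat.eq_of_mul_eq_mul_left hpos this
  haveI : A'.Normal := Subgroup.normal_in_normalizer
  have h4 := Subgroup.pow_index_mem A' (⟨y, hy⟩ : Subgroup.normalizer (A : Set GG))
  rw [h3, hA', Subgroup.mem_subgroupOf] at h4
  exact h4

theorem torus_solv {A : Subgroup GG} (hA : IsTorus A) : Group.IsSolvable (Subgroup.normalizer (A : Set GG)) := by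
  haveI : Finite GG := finite_Sz
  haveI := torus_cyclic hF hm hA
  refine solv_of_core _ A Subgroup.le_normalizer ?_ ?_ 2 (fun y hy => by simpa using torus_pow_four hF hm hA hy)
  · intro a ha b hb
    exact congrArg Subtype.val (cyc_comm (⟨a, ha⟩ : A) ⟨b, hb⟩)
  · intro y hy k hk
    exact (Subgroup.mem_normalizer_iff.1 hy k).1 hk

lemma torus_odd {A : Subgroup GG} (hA : IsTorus A) : Odd (Nat.card A) := by
  have h1 := torus_card_dvd hF hm hA
  have h3 : Odd (Fintype.card F ^ 2 + 1) := by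
    rw [Nat.odd_iff]
    have := (c_mod (m := m) hF).1
    omega
  exact Odd.of_dvd_nat h3 h1

lemma torus_elem_odd {A : Subgroup GG} (hA : IsTorus A) {u : GG} (hu : u ∈ A) : Odd (orderOf u) :=
  Odd.of_dvd_nat (torus_odd hF hm hA) (Subgroup.orderOf_dvd_natCard _ hu)

lemma torus_comm {A : Subgroup GG} (hA : IsTorus A) {a b : GG} (ha : a ∈ A) (hb : b ∈ A) : a * b = b * a := by
  haveI := torus_cyclic hF hm hA
  exact congrArg Subtype.val (cyc_comm (⟨a, ha⟩ : A) ⟨b, hb⟩)

/-- Involutions in the normaliser invert the torus. -/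
lemma torus_inverts {A : Subgroup GG} (hA : IsTorus A) {i : GG} (hi : i ∈ Subgroup.normalizer (A : Set GG)) (hi2 : orderOf i = 2)
    {a : GG} (ha : a ∈ A) : i * a * i⁻¹ = a⁻¹ := by
  have hii : i * i = 1 := by
    rw [← pow_two, ← hi2]
    exact pow_orderOf_eq_one i
  have hinv : i⁻¹ = i := inv_eq_of_mul_eq_one_left hii
  have hσ : i * a * i⁻¹ ∈ A := (Subgroup.mem_normalizer_iff.1 hi a).1 ha
  set b := i * a * i⁻¹ with hb
  have hs : a * b ∈ A := A.mul_mem ha hσ
  have hc : i * (a * b) = (a * b) * i := by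
    have e1 : i * b = a * i := by
      rw [hb, hinv]
      calc i * (i * a * i) = (i * i) * a * i := by group
        _ = a * i := by rw [hii, one_mul]
    have e2 : i * a = b * i := by
      rw [hb, hinv]
      calc i * a = i * a * (i * i) := by rw [hii, mul_one]
        _ = i * a * i * i := by group
    calc i * (a * b) = (i * a) * b := by group
      _ = (b * i) * b := by rw [e2]
      _ = b * (i * b) := by group
      _ = b * (a * i) := by rw [e1]
      _ = (b * a) * i := by group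
      _ = (a * b) * i := by rw [torus_comm hF hm hA ha hσ]
  by_contra hne
  have hab : a * b ≠ 1 := by
    intro e
    apply hne
    exact eq_inv_of_mul_eq_one_right e
  have h1 := (torus_mem_eq hF hm hA hs hab).2
  have h2 : i ∈ A := by
    rw [← h1, Subgroup.mem_centralizer_singleton_iff]
    exact hc
  have h3 := torus_elem_odd hF hm hA h2
  rw [hi2] at h3
  exact absurd h3 (by decide)

/-- The involutions in the normaliser of a torus. -/
theorem torus_inv_set {A : Subgroup GG} (hA : IsTorus A) :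
    Set.ncard ({y : GG | orderOf y = 2} ∩ (Subgroup.normalizer (A : Set GG) : Set GG)) = Nat.card A := by
  classical
  haveI : Finite GG := finite_Sz
  haveI : Fact (Nat.Prime 2) := ⟨Nat.prime_two⟩
  have hcardN := torus_four hF hm hA
  obtain ⟨i₀, hi₀⟩ := exists_prime_orderOf_dvd_card' (G := Subgroup.normalizer (A : Set GG)) 2 (by
    rw [hcardN]
    exact ⟨2 * Nat.card A, by ring⟩)
  set i : GG := (i₀ : GG) with hidef
  have hiN : i ∈ Subgroup.normalizer (A : Set GG) := i₀.2
  have hi2 : orderOf i = 2 := by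
    rw [hidef, Subgroup.orderOf_coe, hi₀]
  have hii : i * i = 1 := by
    rw [← pow_two, ← hi2]
    exact pow_orderOf_eq_one i
  have hA1 : ∃ a ∈ A, a ≠ 1 := by
    have h5 := torus_five_le hF hm hA
    have : Nontrivial A := Finite.one_lt_card_iff_nontrivial.1 (by omega)
    exact (Subgroup.nontrivial_iff_exists_ne_one A).1 this
  have e : {y : GG | orderOf y = 2} ∩ (Subgroup.normalizer (A : Set GG) : Set GG) = (fun t => i * t) '' (A : Set GG) := by
    ext y
    simp only [Set.mem_inter_iff, Set.mem_ofPred_eq, SetLike.mem_coe, Set.mem_image]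
    constructor
    · rintro ⟨h1, h2⟩
      refine ⟨i * y, ?_, by rw [← mul_assoc, hii, one_mul]⟩
      obtain ⟨a, ha, ha1⟩ := hA1
      have h3 := (torus_mem_eq hF hm hA ha ha1).2
      rw [← h3, Subgroup.mem_centralizer_singleton_iff]
      have h4 := torus_inverts hF hm hA h2 h1 ha
      have h5 := torus_inverts hF hm hA hiN hi2 (A.inv_mem ha)
      rw [inv_inv] at h5
      have hyy : y * y = 1 := by
        rw [← pow_two, ← h1]
        exact pow_orderOf_eq_one y
      have hyinv : y⁻¹ = y := inv_eq_of_mul_eq_one_left hyy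
      have hiinv : i⁻¹ = i := inv_eq_of_mul_eq_one_left hii
      rw [hyinv] at h4
      rw [hiinv] at h5
      symm
      calc a * (i * y) = (i * a⁻¹ * i) * (i * y) := by rw [h5]
        _ = i * a⁻¹ * (i * i) * y := by group
        _ = i * a⁻¹ * y := by rw [hii, mul_one]
        _ = i * (y * a * y) * y := by rw [h4]
        _ = i * y * a * (y * y) := by group
        _ = i * y * a := by rw [hyy, mul_one]
    · rintro ⟨t, ht, rfl⟩
      refine ⟨?_, Subgroup.mul_mem _ hiN (Subgroup.le_normalizer ht)⟩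
      have h1 := torus_inverts hF hm hA hiN hi2 ht
      have hiinv : i⁻¹ = i := inv_eq_of_mul_eq_one_left hii
      rw [hiinv] at h1
      refine orderOf_eq_prime ?_ ?_
      · rw [pow_two]
        calc i * t * (i * t) = (i * t * i) * t := by group
          _ = 1 := by rw [h1, inv_mul_cancel]
      · intro h2
        have h3 : i = t⁻¹ := eq_inv_of_mul_eq_one_left h2
        have h4 := torus_elem_odd hF hm hA (A.inv_mem ht)
        rw [← h3, hi2] at h4
        exact absurd h4 (by decide)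
  rw [e, Set.ncard_image_of_injective _ (mul_right_injective i), ← Nat.card_coe_set_eq]
  rfl

/-- The elements of order four in the normaliser of a torus. -/
theorem torus_ord4_set {A : Subgroup GG} (hA : IsTorus A) :
    Set.ncard ({y : GG | orderOf y = 4} ∩ (Subgroup.normalizer (A : Set GG) : Set GG)) = 2 * Nat.card A := by
  classical
  haveI : Finite GG := finite_Sz
  have hcardN := torus_four hF hm hA
  have hinv := torus_inv_set hF hm hA
  set N := (Subgroup.normalizer (A : Set GG) : Set GG) with hN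
  set I := {y : GG | orderOf y = 2} ∩ N with hI
  set R := {y : GG | orderOf y = 4} ∩ N with hR
  have hAc : (A : Set GG).ncard = Nat.card A := by
    rw [← Nat.card_coe_set_eq]
    rfl
  have hNc : N.ncard = 4 * Nat.card A := by
    rw [hN, ← Nat.card_coe_set_eq, ← hcardN]
    rfl
  have hunion : N = (A : Set GG) ∪ I ∪ R := by
    ext y
    simp only [hI, hR, Set.mem_union, Set.mem_inter_iff, Set.mem_ofPred_eq, SetLike.mem_coe]
    constructor
    · intro hy
      by_cases hyA : y ∈ A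
      · exact Or.inl (Or.inl hyA)
      by_cases hy2 : y ^ 2 = 1
      · left; right
        refine ⟨?_, hy⟩
        haveI : Fact (Nat.Prime 2) := ⟨Nat.prime_two⟩
        refine orderOf_eq_prime hy2 ?_
        rintro rfl
        exact hyA (one_mem _)
      · right
        refine ⟨?_, hy⟩
        have h4 := torus_pow_four hF hm hA hy
        have h5 : y ^ 4 = 1 := by
          by_contra hne
          apply hyA
          have h6 := (torus_mem_eq hF hm hA h4 hne).2
          rw [← h6, Subgroup.mem_centralizer_singleton_iff]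
          exact (Commute.pow_right (Commute.refl y) 4).eq
        have h6 : orderOf y = 2 ^ 2 := by
          apply orderOf_eq_prime_pow (p := 2)
          · simpa using hy2
          · simpa using h5
        simpa using h6
    · rintro ((h | ⟨-, h⟩) | ⟨-, h⟩)
      · exact Subgroup.le_normalizer h
      · exact h
      · exact h
  have hd1 : Disjoint (A : Set GG) I := by
    rw [Set.disjoint_left]
    rintro y hy ⟨h2, -⟩
    have h3 := torus_elem_odd hF hm hA hy
    rw [Set.mem_ofPred_eq] at h2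
    rw [h2] at h3
    exact absurd h3 (by decide)
  have hd2 : Disjoint ((A : Set GG) ∪ I) R := by
    rw [Set.disjoint_left]
    rintro y (hy | ⟨h2, -⟩) ⟨h3, -⟩
    · have h4 := torus_elem_odd hF hm hA hy
      rw [Set.mem_ofPred_eq] at h3
      rw [h3] at h4
      exact absurd h4 (by decide)
    · rw [Set.mem_ofPred_eq] at h2 h3
      rw [h2] at h3
      exact absurd h3 (by decide)
  have hfin : ∀ s : Set GG, s.Finite := fun s => s.toFinite
  have h := congrArg Set.ncard hunion
  rw [Set.ncard_union_eq hd2 (hfin _) (hfin _), Set.ncard_union_eq hd1 (hfin _) (hfin _), hNc, hAc, hinv] at h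
  omega

end

end CfsgLib.Sz
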