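/-
Solvable subgroups of the Suzuki groups: the solubilisers of elements of odd order.
-/
import Cfsg.Agent.Lib.Sz.SolA

set_option autoImplicit false

namespace CfsgLib.Sz

open Matrix Cfsg
open scoped Pointwise

section

variable {F : Type*} [Field F] [Fintype F] {m : ℕ}

local notation "θm" => (2 ^ (m + 1) : ℕ)

local notation "∞'" => suzukiPointInfinity F

set_option quotPrecheck false in
local notation "GG" => ↥(Sz F m)

set_option quotPrecheck false in
local notation "OO" => ↥(suzukiOvoid F m)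

variable (hF : Fintype.card F = 2 ^ (2 * m + 1)) (hm : 1 ≤ m)

include hF hm

/-- Point stabilisers are solvable. -/
theorem stab_solv (p : OO) : Group.IsSolvable (MulAction.stabilizer GG p) := by
  obtain ⟨x, rfl⟩ := exists_transport hF hm p
  haveI : Group.IsSolvable (MulAction.stabilizer GG (ptInf : OO)) := stab_solvable hF hm
  rw [MulAction.stabilizer_smul_eq_stabilizer_map_conj]
  let e := Subgroup.equivMapOfInjective (MulAction.stabilizer GG (ptInf : OO)) (MulAut.conj x).toMonoidHom (MulAut.conj x).injective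
  exact Group.isSolvable_of_surjective (f := e.toMonoidHom) e.surjective

/-- When two elements generate a solvable subgroup. -/
theorem sol_iff {x : GG} (hx : x ≠ 1) (y : GG) :
    Group.IsSolvable (Subgroup.closure ({x, y} : Set GG)) ↔
      (∃ p : OO, x • p = p ∧ y • p = p) ∨ (∃ a b : OO, a ≠ b ∧ x ∈ Dp a b ∧ y ∈ Dp a b) ∨
      (∃ A : Subgroup GG, IsTorus A ∧ x ∈ Subgroup.normalizer (A : Set GG) ∧ y ∈ Subgroup.normalizer (A : Set GG)) := by
  have hxm : x ∈ Subgroup.closure ({x, y} : Set GG) := Subgroup.subset_closure (by simp)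
  have hym : y ∈ Subgroup.closure ({x, y} : Set GG) := Subgroup.subset_closure (by simp)
  constructor
  · intro hs
    have hne : Subgroup.closure ({x, y} : Set GG) ≠ ⊥ := by
      intro h
      rw [h] at hxm
      exact hx (Subgroup.mem_bot.1 hxm)
    rcases solv_classify hF hm _ hs hne with ⟨p, h⟩ | ⟨a, b, hab, h⟩ | ⟨A, hA, h⟩
    · exact Or.inl ⟨p, h x hxm, h y hym⟩
    · exact Or.inr (Or.inl ⟨a, b, hab, h hxm, h hym⟩)
    · exact Or.inr (Or.inr ⟨A, hA, h hxm, h hym⟩)
  · have key : ∀ M : Subgroup GG, Group.IsSolvable M → x ∈ M → y ∈ M → Group.IsSolvable (Subgroup.closure ({x, y} : Set GG)) := by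
      intro M hM h1 h2
      have hle : Subgroup.closure ({x, y} : Set GG) ≤ M := (Subgroup.closure_le _).2 (by
        rintro z (rfl | rfl)
        · exact h1
        · exact h2)
      exact Group.isSolvable_of_isSolvable_injective (f := Subgroup.inclusion hle) (Subgroup.inclusion_injective hle)
    rintro (⟨p, h1, h2⟩ | ⟨a, b, hab, h1, h2⟩ | ⟨A, hA, h1, h2⟩)
    · exact key (MulAction.stabilizer GG p) (stab_solv hF hm p) h1 h2
    · exact key _ (Dp_solv hF hm hab) h1 h2
    · exact key _ (torus_solv hF hm hA) h1 h2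

/-- The solubiliser of a fixed point free element. -/
theorem sol_fpf {x : GG} (hx : Fpf x) (y : GG) :
    Group.IsSolvable (Subgroup.closure ({x, y} : Set GG)) ↔ y ∈ Subgroup.normalizer ((Subgroup.centralizer ({x} : Set GG) : Subgroup GG) : Set GG) := by
  have hx1 := hx.ne_one
  rw [sol_iff hF hm hx1]
  have hxC : x ∈ Subgroup.centralizer ({x} : Set GG) := by
    rw [Subgroup.mem_centralizer_singleton_iff]
  have hodd := order_fpf hF hm hx
  have hT : IsTorus (Subgroup.centralizer ({x} : Set GG)) := ⟨x, hx, rfl⟩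
  constructor
  · rintro (⟨p, h1, -⟩ | ⟨a, b, hab, h1, -⟩ | ⟨A, hA, h1, h2⟩)
    · exact absurd h1 (hx p)
    · have h2 := odd_mem_of_sq_mem _ hodd (Dp_sq_mem h1)
      exact absurd (mem_Tp.1 h2).1 (hx a)
    · have h3 := odd_mem_of_four_mem _ hodd (torus_pow_four hF hm hA h1)
      have h4 := (torus_mem_eq hF hm hA h3 hx1).2
      rw [h4]
      exact h2
  · intro h
    exact Or.inr (Or.inr ⟨_, hT, Subgroup.le_normalizer hxC, h⟩)

/-- Orders of the elements of the split torus. -/
lemma order_sM_dvd (α : Fˣ) : orderOf (sM hF α) ∣ Fintype.card F - 1 := by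
  classical
  apply orderOf_dvd_of_pow_eq_one
  rw [sM_pow hF hm, ← Fintype.card_units, pow_card_eq_one, sM_one hF hm]

/-- Pairwise coprime orders. -/
lemma list_coprime {X Y : ℕ}
    (hX : X ∈ ({2 ^ (2 * m + 1) - 1, 2 ^ (2 * m + 1) + 2 ^ (m + 1) + 1, 2 ^ (2 * m + 1) - 2 ^ (m + 1) + 1} : Set ℕ))
    (hY : Y ∈ ({2 ^ (2 * m + 1) - 1, 2 ^ (2 * m + 1) + 2 ^ (m + 1) + 1, 2 ^ (2 * m + 1) - 2 ^ (m + 1) + 1} : Set ℕ))
    (h : X ≠ Y) : Nat.Coprime X Y := by
  clear hF
  set r := 2 ^ m with hr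
  have hr2 : 2 ≤ r := by
    calc 2 = 2 ^ 1 := by norm_num
      _ ≤ 2 ^ m := Nat.pow_le_pow_right (by norm_num) hm
  have hq : 2 ^ (2 * m + 1) = 2 * r ^ 2 := by
    rw [hr]
    ring
  have h2r : 2 ^ (m + 1) = 2 * r := by
    rw [hr]
    ring
  rw [hq, h2r] at hX hY
  have hle : 2 * r + 2 ≤ 2 * r ^ 2 := by nlinarith
  have ha : (2 * r ^ 2 - 1) + 1 = 2 * r ^ 2 := by omega
  have hc : (2 * r ^ 2 - 2 * r + 1) + 2 * r = 2 * r ^ 2 + 1 := by omega
  have hab := cop_ab ha rfl
  have hac := cop_ac ha hc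
  have hbc := cop_bc (c := 2 * r ^ 2 - 2 * r + 1) (b := 2 * r ^ 2 + 2 * r + 1) rfl hc
  rcases hX with rfl | rfl | rfl <;> rcases hY with rfl | rfl | rfl
  · exact absurd rfl h
  · exact hab
  · exact hac
  · exact hab.symm
  · exact absurd rfl h
  · exact hbc
  · exact hac.symm
  · exact hbc.symm
  · exact absurd rfl h

lemma list_q_mem : 2 ^ (2 * m + 1) - 1 ∈ ({2 ^ (2 * m + 1) - 1, 2 ^ (2 * m + 1) + 2 ^ (m + 1) + 1, 2 ^ (2 * m + 1) - 2 ^ (m + 1) + 1} : Set ℕ) := Or.inl rfl

/-- A torus order is in the list. -/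
lemma torus_card_mem {A : Subgroup GG} (hA : IsTorus A) :
    Nat.card A ∈ ({2 ^ (2 * m + 1) - 1, 2 ^ (2 * m + 1) + 2 ^ (m + 1) + 1, 2 ^ (2 * m + 1) - 2 ^ (m + 1) + 1} : Set ℕ) := by
  rcases torus_card_cases hF hm hA with h | h
  · exact Or.inr (Or.inl h)
  · exact Or.inr (Or.inr h)

/-- Elements of order dividing one of the torus orders are fixed point free. -/
lemma fpf_of_order {x : GG} (hx1 : x ≠ 1) {k : ℕ} (hk : k ∈ ({2 ^ (2 * m + 1) + 2 ^ (m + 1) + 1, 2 ^ (2 * m + 1) - 2 ^ (m + 1) + 1} : Set ℕ)) (hord : orderOf x ∣ k) :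
    Fpf x ∧ Nat.card (Subgroup.centralizer ({x} : Set GG)) = k := by
  have hk' : k ∈ ({2 ^ (2 * m + 1) - 1, 2 ^ (2 * m + 1) + 2 ^ (m + 1) + 1, 2 ^ (2 * m + 1) - 2 ^ (m + 1) + 1} : Set ℕ) := Or.inr hk
  have hkq : k ≠ 2 ^ (2 * m + 1) - 1 := by
    have hr2 : 2 ≤ 2 ^ m := by
      calc 2 = 2 ^ 1 := by norm_num
        _ ≤ 2 ^ m := Nat.pow_le_pow_right (by norm_num) hm
    have e1 : 2 ^ (2 * m + 1) = 2 * (2 ^ m) ^ 2 := by ring
    have e2 : 2 ^ (m + 1) = 2 * 2 ^ m := by ring
    have hle : 2 * 2 ^ m + 2 ≤ 2 * (2 ^ m) ^ 2 := by nlinarith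
    rcases hk with rfl | rfl
    · omega
    · intro h
      have := Nat.mul_le_mul hr2 hr2
      have h3 : 2 * 2 ^ m = 2 := by omega
      omega
  have hfpf : Fpf x := by
    rcases elem_cases hF hm x with h | ⟨t, a, b, rfl⟩ | ⟨t, α, rfl⟩
    · exact h
    · exfalso
      rw [order_conj hF hm] at hord
      obtain ⟨j, hj⟩ := order_S hF hm a b
      have h2 := list_odd hm hk'
      have h3 := Odd.of_dvd_nat h2 hord
      rw [hj] at h3 hord
      apply hx1
      rcases j with _ | j
      · have h4 : sS hF a b = 1 := by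
          rw [← orderOf_eq_one_iff, hj]
          rfl
        rw [h4]
        group
      · rw [pow_succ] at h3
        exact absurd h3 (Nat.not_odd_iff_even.2 (even_two.mul_left _))
    · exfalso
      rw [order_conj hF hm] at hord
      have h1 := order_sM_dvd hF hm α
      rw [hF] at h1
      have hc := list_coprime hF hm (list_q_mem (hF := hF) (hm := hm)) hk' (Ne.symm hkq)
      have h2 := Nat.Coprime.eq_one_of_dvd (Nat.Coprime.coprime_dvd_left h1 hc) hord
      apply hx1
      have h4 : sM hF α = 1 := orderOf_eq_one_iff.1 h2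
      rw [h4]
      group
  refine ⟨hfpf, ?_⟩
  have hT : IsTorus (Subgroup.centralizer ({x} : Set GG)) := ⟨x, hfpf, rfl⟩
  by_contra hne
  have hc := list_coprime hF hm (torus_card_mem hF hm hT) hk' hne
  have h1 : orderOf x ∣ Nat.card (Subgroup.centralizer ({x} : Set GG)) :=
    Subgroup.orderOf_dvd_natCard _ (by rw [Subgroup.mem_centralizer_singleton_iff])
  have h2 := Nat.Coprime.eq_one_of_dvd (Nat.Coprime.coprime_dvd_left h1 hc) hord
  exact hx1 (orderOf_eq_one_iff.1 h2)

/-- The count for elements of order dividing a torus order. -/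
theorem sol_card_fpf {x : GG} (hx1 : x ≠ 1) {k : ℕ} (hk : k ∈ ({2 ^ (2 * m + 1) + 2 ^ (m + 1) + 1, 2 ^ (2 * m + 1) - 2 ^ (m + 1) + 1} : Set ℕ)) (hord : orderOf x ∣ k) :
    Nat.card {y : GG // Group.IsSolvable (Subgroup.closure ({x, y} : Set GG))} = 4 * k := by
  obtain ⟨hfpf, hc⟩ := fpf_of_order hF hm hx1 hk hord
  have hT : IsTorus (Subgroup.centralizer ({x} : Set GG)) := ⟨x, hfpf, rfl⟩
  rw [← hc, ← torus_four hF hm hT]
  exact Nat.card_congr (Equiv.subtypeEquivRight (fun y => sol_fpf hF hm hfpf y))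

/-- Elements of order dividing `q - 1`. -/
lemma split_of_order {x : GG} (hx1 : x ≠ 1) (hord : orderOf x ∣ 2 ^ (2 * m + 1) - 1) :
    ∃ (t : GG) (α : Fˣ), α ≠ 1 ∧ x = t * sM hF α * t⁻¹ := by
  rcases elem_cases hF hm x with h | ⟨t, a, b, rfl⟩ | ⟨t, α, rfl⟩
  · exfalso
    have hT : IsTorus (Subgroup.centralizer ({x} : Set GG)) := ⟨x, h, rfl⟩
    have h1 : orderOf x ∣ Nat.card (Subgroup.centralizer ({x} : Set GG)) :=
      Subgroup.orderOf_dvd_natCard _ (by rw [Subgroup.mem_centralizer_singleton_iff])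
    have hk := torus_card_mem hF hm hT
    have hne : Nat.card (Subgroup.centralizer ({x} : Set GG)) ≠ 2 ^ (2 * m + 1) - 1 := by
      have h5 := torus_card_dvd hF hm hT
      intro e
      rw [e] at h5
      have h6 := list_coprime hF hm (X := 2 ^ (2 * m + 1) - 1) (Y := 2 ^ (2 * m + 1) + 2 ^ (m + 1) + 1) (Or.inl rfl) (Or.inr (Or.inl rfl)) (by
        have h0 : 2 ^ (2 * m + 1) - 1 < 2 ^ (2 * m + 1) + 2 ^ (m + 1) + 1 := by
          have := Nat.sub_le (2 ^ (2 * m + 1)) 1
          exact Nat.lt_succ_of_le (this.trans (Nat.le_add_right _ _))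
        exact h0.ne)
      have h7 := list_coprime hF hm (X := 2 ^ (2 * m + 1) - 1) (Y := 2 ^ (2 * m + 1) - 2 ^ (m + 1) + 1) (Or.inl rfl) (Or.inr (Or.inr rfl)) (by
        intro e2
        have hr2 : 2 ≤ 2 ^ m := by
          calc 2 = 2 ^ 1 := by norm_num
            _ ≤ 2 ^ m := Nat.pow_le_pow_right (by norm_num) hm
        have e3 : 2 ^ (2 * m + 1) = 2 * (2 ^ m) ^ 2 := by ring
        have e4 : 2 ^ (m + 1) = 2 * 2 ^ m := by ring
        have hle : 2 * 2 ^ m + 2 ≤ 2 * (2 ^ m) ^ 2 := by nlinarith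
        omega)
      have h8 := Nat.Coprime.mul_right h6 h7
      rw [list_prod hm] at h8
      rw [hF] at h5
      have h9 := Nat.Coprime.eq_one_of_dvd h8 h5
      have h10 : 8 ≤ 2 ^ (2 * m + 1) := by
        calc 8 = 2 ^ 3 := by norm_num
          _ ≤ 2 ^ (2 * m + 1) := Nat.pow_le_pow_right (by norm_num) (by omega)
      omega
    have hc := list_coprime hF hm hk (list_q_mem (hF := hF) (hm := hm)) hne
    have h2 := Nat.Coprime.eq_one_of_dvd (Nat.Coprime.coprime_dvd_left h1 hc) hord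
    exact hx1 (orderOf_eq_one_iff.1 h2)
  · exfalso
    rw [order_conj hF hm] at hord
    obtain ⟨j, hj⟩ := order_S hF hm a b
    have h2 := list_odd hm (list_q_mem (hF := hF) (hm := hm))
    have h3 := Odd.of_dvd_nat h2 hord
    rw [hj] at h3 hord
    apply hx1
    rcases j with _ | j
    · have h4 : sS hF a b = 1 := by
        rw [← orderOf_eq_one_iff, hj]
        rfl
      rw [h4]
      group
    · rw [pow_succ] at h3
      exact absurd h3 (Nat.not_odd_iff_even.2 (even_two.mul_left _))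
  · refine ⟨t, α, ?_, rfl⟩
    rintro rfl
    apply hx1
    rw [sM_one hF hm]
    group

/-- The count for elements of the split tori. -/
theorem sol_card_split {x : GG} (hx1 : x ≠ 1) (hord : orderOf x ∣ 2 ^ (2 * m + 1) - 1) :
    Nat.card {y : GG // Group.IsSolvable (Subgroup.closure ({x, y} : Set GG))} = 2 * (2 ^ (2 * m + 1)) ^ 2 * (2 ^ (2 * m + 1) - 1) := by
  classical
  haveI : Finite GG := finite_Sz
  obtain ⟨t, α, hα, hxt⟩ := split_of_order hF hm hx1 hord
  set a : OO := t • ptInf with ha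
  set b : OO := t • ptP 0 0 with hb
  have hab : a ≠ b := fun e => ptInf_ne hF hm 0 0 (smul_left_cancel t e)
  have hfa : x • a = a := by
    rw [ha, ← mul_smul]
    have e : x * t = t * sM hF α := by
      rw [hxt]
      group
    rw [e, mul_smul, M_fix_inf hF hm]
  have hfb : x • b = b := by
    rw [hb, ← mul_smul]
    have e : x * t = t * sM hF α := by
      rw [hxt]
      group
    rw [e, mul_smul, M_fix_zero hF hm]
  have hodd : Odd (orderOf x) := by
    rw [hxt, order_conj hF hm]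
    exact order_M hF hm α
  have hfix : ∀ p : OO, x • p = p → p = a ∨ p = b := fun p hp => fix_three hF hm hx1 hab hfa hfb hp
  have hset : {y : GG | Group.IsSolvable (Subgroup.closure ({x, y} : Set GG))} = ({y : GG | y • a = a} ∪ {y : GG | y • b = b}) ∪ {y : GG | y • a = b ∧ y • b = a} := by
    ext y
    simp only [Set.mem_ofPred_eq, Set.mem_union]
    rw [sol_iff hF hm hx1]
    constructor
    · rintro (⟨p, h1, h2⟩ | ⟨c, d, hcd, h1, h2⟩ | ⟨A, hA, h1, -⟩)
      · rcases hfix p h1 with rfl | rfl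
        · exact Or.inl (Or.inl h2)
        · exact Or.inl (Or.inr h2)
      · have h3 := odd_mem_of_sq_mem _ hodd (Dp_sq_mem h1)
        obtain ⟨h4, h5⟩ := mem_Tp.1 h3
        rcases hfix c h4 with rfl | rfl <;> rcases hfix d h5 with rfl | rfl
        · exact absurd rfl hcd
        · rcases mem_Dp.1 h2 with ⟨h6, -⟩ | h6
          · exact Or.inl (Or.inl h6)
          · exact Or.inr h6
        · rcases mem_Dp.1 h2 with ⟨h6, h7⟩ | ⟨h6, h7⟩
          · exact Or.inl (Or.inl h7)
          · exact Or.inr ⟨h7, h6⟩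
        · exact absurd rfl hcd
      · have h3 := odd_mem_of_four_mem _ hodd (torus_pow_four hF hm hA h1)
        exact absurd hfa ((torus_mem_eq hF hm hA h3 hx1).1 a)
    · rintro ((h | h) | h)
      · exact Or.inl ⟨a, hfa, h⟩
      · exact Or.inl ⟨b, hfb, h⟩
      · exact Or.inr (Or.inl ⟨a, b, hab, Or.inl ⟨hfa, hfb⟩, Or.inr h⟩)
  have hfin : ∀ s : Set GG, s.Finite := fun s => s.toFinite
  have hBa : {y : GG | y • a = a}.ncard = Fintype.card F ^ 2 * (Fintype.card F - 1) := by
    rw [← card_stab_eq hF hm a, ← Nat.card_coe_set_eq]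
    rfl
  have hBb : {y : GG | y • b = b}.ncard = Fintype.card F ^ 2 * (Fintype.card F - 1) := by
    rw [← card_stab_eq hF hm b, ← Nat.card_coe_set_eq]
    rfl
  have hT : ({y : GG | y • a = a} ∩ {y : GG | y • b = b}).ncard = Fintype.card F - 1 := by
    rw [← Tp_card hF hm hab, ← Nat.card_coe_set_eq]
    rfl
  have hsw : {y : GG | y • a = b ∧ y • b = a}.ncard = Fintype.card F - 1 := by
    obtain ⟨h1, h2⟩ := Dp_card_aux hF hm hab
    have h3 : {y : GG | y • a = b ∧ y • b = a} = (Dp a b : Set GG) \ (Tp a b : Set GG) := by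
      ext y
      simp only [Set.mem_ofPred_eq, Set.mem_sdiff, SetLike.mem_coe]
      constructor
      · intro h
        refine ⟨Or.inr h, fun h4 => ?_⟩
        have h8 := (mem_Tp.1 h4).1
        rw [h.1] at h8
        exact hab h8.symm
      · rintro ⟨h5, h6⟩
        rcases mem_Dp.1 h5 with h7 | h7
        · exact absurd h7 h6
        · exact h7
    have h4 := Set.ncard_diff_add_ncard_of_subset (s := (Tp a b : Set GG)) (t := (Dp a b : Set GG)) (Tp_le_Dp a b)
    have h5 : (Tp a b : Set GG).ncard = Fintype.card F - 1 := by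
      rw [← Nat.card_coe_set_eq]
      exact Tp_card hF hm hab
    have h6 : (Dp a b : Set GG).ncard = 2 * (Fintype.card F - 1) := by
      rw [← Nat.card_coe_set_eq]
      exact h2
    rw [h3]
    omega
  have hdisj : Disjoint ({y : GG | y • a = a} ∪ {y : GG | y • b = b}) {y : GG | y • a = b ∧ y • b = a} := by
    rw [Set.disjoint_left]
    rintro y (h | h) ⟨h1, h2⟩
    · exact hab (h.symm.trans h1)
    · exact hab (h2.symm.trans h)
  have hu := Set.ncard_union_add_ncard_inter {y : GG | y • a = a} {y : GG | y • b = b} (hfin _) (hfin _)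
  show Nat.card ↥{y : GG | Group.IsSolvable (Subgroup.closure ({x, y} : Set GG))} = _
  rw [Nat.card_coe_set_eq, hset, Set.ncard_union_eq hdisj (hfin _) (hfin _), hsw]
  rw [hBa, hBb, hT] at hu
  rw [← hF]
  have e : 2 * Fintype.card F ^ 2 * (Fintype.card F - 1) = Fintype.card F ^ 2 * (Fintype.card F - 1) + Fintype.card F ^ 2 * (Fintype.card F - 1) := by ring
  omega

end

end CfsgLib.Sz
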