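/-
The solubilisers of two-elements of the Suzuki groups: preparation.
-/
import Cfsg.Agent.Lib.Sz.SolB

set_option autoImplicit false

namespace CfsgLib.Sz

open Matrix Cfsg
open scoped Pointwise

section

variable {F : Type*} [Field F] [Fintype F] {m : ℕ}

local notation "θm" => (2 ^ (m + 1) : ℕ)

local notation "∞'" => suzukiPointInfinity F

set_option quotPrecheck false in
local notation "GG" => ↥(Sz F m)

set_option quotPrecheck false in
local notation "OO" => ↥(suzukiOvoid F m)

variable (hF : Fintype.card F = 2 ^ (2 * m + 1)) (hm : 1 ≤ m)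

include hF hm

lemma two_elem_cases {u : GG} (hu : u ≠ 1) (h4 : u ^ 4 = 1) : ∃ (x : GG) (a b : F), (a ≠ 0 ∨ b ≠ 0) ∧ u = x * sS hF a b * x⁻¹ := by
  rcases elem_cases hF hm u with h | ⟨x, a, b, h⟩ | ⟨x, α, h⟩
  · exact absurd (eq_one_of_odd_of_four hF hm (order_fpf hF hm h) h4) hu
  · refine ⟨x, a, b, ?_, h⟩
    by_contra hcon
    push Not at hcon
    rw [hcon.1, hcon.2, sS_zero hF hm] at h
    exact hu (by rw [h]; group)
  · refine absurd (eq_one_of_odd_of_four hF hm ?_ h4) hu
    rw [h, order_conj hF hm]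
    exact order_M hF hm α

lemma fix_inf_two {u : GG} (hu : u ≠ 1) (h4 : u ^ 4 = 1) (hfix : u • (ptInf : OO) = ptInf) :
    ∃ a b : F, (a ≠ 0 ∨ b ≠ 0) ∧ u = sS hF a b := by
  obtain ⟨x, c, d, hcd, h⟩ := two_elem_cases hF hm hu h4
  have h1 : sS hF c d • (x⁻¹ • (ptInf : OO)) = x⁻¹ • ptInf := by
    rw [← mul_smul]
    have e : sS hF c d * x⁻¹ = x⁻¹ * u := by
      rw [h]
      group
    rw [e, mul_smul, hfix]
  have h2 := S_unique_fix hF hm hcd h1
  have h3 : x • (ptInf : OO) = ptInf := by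
    have h7 : x • (x⁻¹ • (ptInf : OO)) = ptInf := smul_inv_smul x _
    rwa [h2] at h7
  have h5 : x ∈ Subgroup.normalizer ((Usub hF hm : Subgroup GG) : Set GG) := (fix_inf_iff hF hm x).1 (congrArg Subtype.val h3)
  have h6 : u ∈ Usub hF hm := by
    rw [h]
    exact (Subgroup.mem_normalizer_iff.1 h5 _).1 (sS_mem_Q hF hm c d)
  obtain ⟨a, b, e⟩ := (mem_Q hF hm _).1 h6
  refine ⟨a, b, ?_, e⟩
  by_contra hcon
  push Not at hcon
  rw [hcon.1, hcon.2, sS_zero hF hm] at e
  exact hu e

lemma order_S_zero {b : F} (hb : b ≠ 0) : orderOf (sS hF (0 : F) b) = 2 := by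
  haveI : Fact (Nat.Prime 2) := ⟨Nat.prime_two⟩
  refine orderOf_eq_prime ?_ (sS_ne_one hF hm (Or.inr hb))
  rw [pow_two, sS_sq hF hm, zero_pow (by positivity), sS_zero hF hm]

lemma order_S_ne {a : F} (b : F) (ha : a ≠ 0) : orderOf (sS hF a b) = 4 := by
  have h2 : sS hF a b ^ 2 = sS hF 0 (a ^ (θm + 1)) := by
    rw [pow_two, sS_sq hF hm]
  have h3 : a ^ (θm + 1) ≠ 0 := pow_ne_zero _ ha
  have h := orderOf_eq_prime_pow (p := 2) (n := 1) (x := sS hF a b) (by
    show ¬ sS hF a b ^ 2 ^ 1 = 1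
    rw [pow_one, h2]
    exact sS_ne_one hF hm (Or.inr h3)) (by
    have e : (2 : ℕ) ^ (1 + 1) = 2 * 2 := by norm_num
    rw [e, pow_mul, h2, pow_two, sS_sq hF hm, zero_pow (by positivity), sS_zero hF hm])
  rw [h]
  norm_num

/-- All involutions are conjugate. -/
lemma invol_conj {u : GG} (hu : orderOf u = 2) : ∃ h : GG, u = h * sS hF (0 : F) 1 * h⁻¹ := by
  have hu1 : u ≠ 1 := by
    rintro rfl
    rw [orderOf_one] at hu
    omega
  have h2 : u ^ 4 = 1 := orderOf_dvd_iff_pow_eq_one.1 (by rw [hu]; norm_num)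
  obtain ⟨x, a, b, hab, rfl⟩ := two_elem_cases hF hm hu1 h2
  rw [order_conj hF hm] at hu
  have ha : a = 0 := by
    by_contra ha
    rw [order_S_ne hF hm b ha] at hu
    omega
  subst ha
  have hb : b ≠ 0 := hab.resolve_left (fun h => h rfl)
  obtain ⟨c, hc⟩ := pow_succ_surj hF hm b
  simp only at hc
  have hc0 : c ≠ 0 := by
    rintro rfl
    rw [zero_pow (by positivity)] at hc
    exact hb hc.symm
  refine ⟨x * sM hF (Units.mk0 c hc0), ?_⟩
  have e : x * sM hF (Units.mk0 c hc0) * sS hF (0 : F) 1 * (x * sM hF (Units.mk0 c hc0))⁻¹ = x * (sM hF (Units.mk0 c hc0) * sS hF (0 : F) 1 * (sM hF (Units.mk0 c hc0))⁻¹) * x⁻¹ := by group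
  rw [e, sM_conj hF hm]
  simp only [Units.val_mk0, mul_zero, mul_one, hc]

omit hm in
/-- The image of the map `z ↦ z^θ + z` is half of the field. -/
lemma trace_cover (b : F) : (∃ z : F, z ^ θm + z = b) ∨ (∃ z : F, z ^ θm + z = b + 1) := by
  classical
  have C := ctx_of_card (m := m) hF
  set τ : F → F := fun z => z ^ θm + z with hτ
  have hadd : ∀ y z : F, τ (y + z) = τ y + τ z := by
    intro y z
    simp only [hτ, C.add]
    ring
  have hker : ∀ w : F, τ w = 0 → w = 0 ∨ w = 1 := by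
    intro w hw
    have h1 : w ^ θm = w := by
      have h0 : w ^ θm + w = 0 := hw
      linear_combination h0 - (add_self C w)
    have h2 := C.sq w
    rw [h1, h1] at h2
    have h4 : w * (w - 1) = 0 := by
      linear_combination -h2
    rcases mul_eq_zero.1 h4 with h5 | h5
    · exact Or.inl h5
    · exact Or.inr (sub_eq_zero.1 h5)
  set W : Finset F := Finset.univ.image τ with hW
  have hfib : (Finset.univ : Finset F).card ≤ 2 * W.card := by
    apply Finset.card_le_mul_card_image
    intro a ha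
    obtain ⟨z₀, -, hz₀⟩ := Finset.mem_image.1 ha
    have hsub : Finset.univ.filter (fun z => τ z = a) ⊆ {z₀, z₀ + 1} := by
      intro z hz
      have h1 : τ z = a := (Finset.mem_filter.1 hz).2
      have h2 : τ (z + z₀) = 0 := by
        rw [hadd, h1, ← hz₀]
        exact add_self C _
      rcases hker _ h2 with h3 | h3
      · have h4 : z = z₀ := by linear_combination h3 - (add_self C z₀)
        simp [h4]
      · have h4 : z = z₀ + 1 := by linear_combination h3 - (add_self C z₀)
        simp [h4]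
    refine (Finset.card_le_card hsub).trans ?_
    exact Finset.card_insert_le _ _
  set W' : Finset F := W.image (fun z => z + 1) with hW'
  have hcW' : W'.card = W.card := Finset.card_image_of_injective _ (add_left_injective 1)
  have hdisj : Disjoint W W' := by
    rw [Finset.disjoint_left]
    intro a ha ha'
    obtain ⟨z, -, hz⟩ := Finset.mem_image.1 ha
    obtain ⟨c, hc, hc'⟩ := Finset.mem_image.1 ha'
    obtain ⟨z', -, hz'⟩ := Finset.mem_image.1 hc
    apply no_trace_one hF (z + z')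
    have e1 := hadd z z'
    simp only [hτ] at e1 hz hz' 
    rw [e1, hz, hz', ← hc']
    linear_combination add_self C c
  have hall : W ∪ W' = Finset.univ := by
    have h1 : (W ∪ W').card = W.card + W.card := by rw [Finset.card_union_of_disjoint hdisj, hcW']
    have h2 : (W ∪ W').card ≤ Fintype.card F := Finset.card_le_univ _
    have h3 : Fintype.card F ≤ 2 * W.card := by rwa [Finset.card_univ] at hfib
    apply Finset.eq_univ_of_card
    omega
  have hb : b ∈ W ∪ W' := by
    rw [hall]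
    exact Finset.mem_univ b
  rcases Finset.mem_union.1 hb with h | h
  · obtain ⟨z, -, hz⟩ := Finset.mem_image.1 h
    exact Or.inl ⟨z, hz⟩
  · obtain ⟨c, hc, hc'⟩ := Finset.mem_image.1 h
    obtain ⟨z, -, hz⟩ := Finset.mem_image.1 hc
    refine Or.inr ⟨z, ?_⟩
    have e : z ^ θm + z = c := hz
    rw [e, ← hc']
    linear_combination -(add_self C (1 : F))

/-- Elements of order four are conjugate to a fixed one or its inverse. -/
lemma ord4_conj {u : GG} (hu : orderOf u = 4) : ∃ h : GG, u = h * sS hF (1 : F) 0 * h⁻¹ ∨ u = h * (sS hF (1 : F) 0)⁻¹ * h⁻¹ := by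
  have C := ctx_of_card (m := m) hF
  have hu1 : u ≠ 1 := by
    rintro rfl
    rw [orderOf_one] at hu
    omega
  have h2 : u ^ 4 = 1 := orderOf_dvd_iff_pow_eq_one.1 (by rw [hu])
  obtain ⟨x, a, b, hab, rfl⟩ := two_elem_cases hF hm hu1 h2
  rw [order_conj hF hm] at hu
  have ha : a ≠ 0 := by
    rintro rfl
    have hb : b ≠ 0 := hab.resolve_left (fun h => h rfl)
    rw [order_S_zero hF hm hb] at hu
    omega
  set α : Fˣ := Units.mk0 a ha with hα
  set b' : F := (α⁻¹ : Fˣ) ^ (θm + 1) * b with hb'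
  have e1 : sS hF a b = sM hF α * sS hF 1 b' * (sM hF α)⁻¹ := by
    rw [sM_conj hF hm, hb', ← mul_assoc, ← Units.val_pow_eq_pow_val, ← Units.val_pow_eq_pow_val, ← Units.val_mul, ← mul_pow, mul_inv_cancel, one_pow, Units.val_one, one_mul, hα, Units.val_mk0, mul_one]
  have hsw : ∀ z : F, sS hF z 0 * sS hF 1 b' * (sS hF z 0)⁻¹ = sS hF 1 (b' + (z ^ θm + z)) := by
    intro z
    rw [mul_inv_eq_iff_eq_mul, sS_mul hF hm, sS_mul hF hm, one_pow, one_mul, mul_one]
    congr 1
    · exact add_comm _ _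
    · linear_combination -(add_self C z)
  rcases trace_cover hF b' with ⟨z, hz⟩ | ⟨z, hz⟩
  · refine ⟨x * sM hF α * (sS hF z 0)⁻¹, Or.inl ?_⟩
    have e2 : sS hF (1 : F) 0 = sS hF z 0 * sS hF 1 b' * (sS hF z 0)⁻¹ := by
      rw [hsw, hz, add_self C]
    rw [e1, e2]
    group
  · refine ⟨x * sM hF α * (sS hF z 0)⁻¹, Or.inr ?_⟩
    have e2 : (sS hF (1 : F) 0)⁻¹ = sS hF z 0 * sS hF 1 b' * (sS hF z 0)⁻¹ := by
      rw [hsw, hz, sS_inv' hF hm, one_pow, zero_add]
      congr 1
      linear_combination -(add_self C b')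
    rw [e1, e2]
    group

/-- The number of elements in a class of two-elements, from those fixing the point at infinity. -/
theorem card_S_of_B (S : Set GG) (hS : ∀ u h, u ∈ S → h * u * h⁻¹ ∈ S) (h1 : ∀ u ∈ S, u ≠ 1 ∧ u ^ 4 = 1) :
    S.ncard = (Fintype.card F ^ 2 + 1) * (S ∩ {u : GG | u • (ptInf : OO) = ptInf}).ncard := by
  classical
  haveI : Finite GG := finite_Sz
  haveI : Fintype GG := Fintype.ofFinite _
  haveI : Finite OO := inferInstance
  haveI : Fintype OO := Fintype.ofFinite _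
  set sS' : Finset GG := Finset.univ.filter (· ∈ S) with hsS
  have hcS : S.ncard = sS'.card := ncard_eq_filter' S
  have hdc := Finset.sum_card_bipartiteAbove_eq_sum_card_bipartiteBelow (s := sS') (t := (Finset.univ : Finset OO)) (fun u p => u • p = p)
  have hl : ∀ u ∈ sS', (Finset.bipartiteAbove (fun (u : GG) (p : OO) => u • p = p) (Finset.univ : Finset OO) u).card = 1 := by
    intro u hu
    have hu' : u ∈ S := (Finset.mem_filter.1 hu).2
    obtain ⟨p, hp, huniq⟩ := two_elem_fix hF hm (h1 u hu').1 (h1 u hu').2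
    rw [Finset.card_eq_one]
    refine ⟨p, ?_⟩
    ext p'
    simp only [Finset.mem_bipartiteAbove, Finset.mem_univ, true_and, Finset.mem_singleton]
    constructor
    · exact huniq p'
    · rintro rfl
      exact hp
  have hr : ∀ p ∈ (Finset.univ : Finset OO), (Finset.bipartiteBelow (fun (u : GG) (p : OO) => u • p = p) sS' p).card = (S ∩ {u : GG | u • (ptInf : OO) = ptInf}).ncard := by
    intro p _
    rw [ncard_eq_filter' (S ∩ {u : GG | u • (ptInf : OO) = ptInf})]
    obtain ⟨t, ht⟩ := exists_transport hF hm p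
    apply Finset.card_bij (fun u _ => t⁻¹ * u * t)
    · intro u hu
      simp only [Finset.mem_bipartiteBelow, hsS, Finset.mem_filter, Finset.mem_univ, true_and] at hu
      simp only [Finset.mem_filter, Finset.mem_univ, true_and]
      refine ⟨?_, ?_⟩
      · have := hS u t⁻¹ hu.1
        rwa [inv_inv] at this
      · show (t⁻¹ * u * t) • (ptInf : OO) = ptInf
        rw [mul_smul, mul_smul, ht, hu.2, ← ht, inv_smul_smul]
    · intro u _ w _ e
      exact mul_left_cancel (mul_right_cancel e)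
    · intro w hw
      simp only [Finset.mem_filter, Finset.mem_univ, true_and] at hw
      refine ⟨t * w * t⁻¹, ?_, by group⟩
      simp only [Finset.mem_bipartiteBelow, hsS, Finset.mem_filter, Finset.mem_univ, true_and]
      refine ⟨hS w t hw.1, ?_⟩
      have h5 : w • (ptInf : OO) = ptInf := hw.2
      rw [← ht, mul_smul, mul_smul, inv_smul_smul, h5]
  rw [Finset.sum_congr rfl hl, Finset.sum_congr rfl hr, Finset.sum_const, Finset.sum_const, smul_eq_mul, smul_eq_mul, mul_one, Finset.card_univ, ← Nat.card_eq_fintype_card, card_ovoid] at hdc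
  rw [hcS, hdc]

/-- The number of involutions. -/
theorem card_inv : Set.ncard {u : GG | orderOf u = 2} = (Fintype.card F ^ 2 + 1) * (Fintype.card F - 1) := by
  classical
  haveI : Finite GG := finite_Sz
  have h := card_S_of_B hF hm {u : GG | orderOf u = 2} (fun u h hu => by
      show orderOf (h * u * h⁻¹) = 2
      rw [order_conj hF hm]
      exact hu) (fun u hu => by
      have hu' : orderOf u = 2 := hu
      refine ⟨?_, ?_⟩
      · rintro rfl
        rw [orderOf_one] at hu'
        omega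
      · exact orderOf_dvd_iff_pow_eq_one.1 (by rw [hu']; norm_num))
  rw [h]
  congr 1
  have e : {u : GG | orderOf u = 2} ∩ {u : GG | u • (ptInf : OO) = ptInf} = (fun b : F => sS hF (0 : F) b) '' {b : F | b ≠ 0} := by
    ext u
    simp only [Set.mem_inter_iff, Set.mem_ofPred_eq, Set.mem_image]
    constructor
    · rintro ⟨h1, h2⟩
      have hu1 : u ≠ 1 := by
        rintro rfl
        rw [orderOf_one] at h1
        omega
      have h4 : u ^ 4 = 1 := orderOf_dvd_iff_pow_eq_one.1 (by rw [h1]; norm_num)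
      obtain ⟨a, b, hab, rfl⟩ := fix_inf_two hF hm hu1 h4 h2
      have ha : a = 0 := by
        by_contra ha
        rw [order_S_ne hF hm b ha] at h1
        omega
      subst ha
      exact ⟨b, hab.resolve_left (fun h => h rfl), rfl⟩
    · rintro ⟨b, hb, rfl⟩
      exact ⟨order_S_zero hF hm hb, S_fix_inf hF hm _ _⟩
  rw [e, Set.ncard_image_of_injective _ (fun b b' h => (sS_inj hF hm h).2)]
  have h5 := Set.ncard_add_ncard_compl ({0} : Set F)
  rw [Set.ncard_singleton, Nat.card_eq_fintype_card] at h5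
  have e2 : {b : F | b ≠ 0} = ({0} : Set F)ᶜ := by
    ext b
    simp
  rw [e2]
  omega

/-- The number of elements of order four. -/
theorem card_ord4 : Set.ncard {u : GG | orderOf u = 4} = (Fintype.card F ^ 2 + 1) * ((Fintype.card F - 1) * Fintype.card F) := by
  classical
  haveI : Finite GG := finite_Sz
  have h := card_S_of_B hF hm {u : GG | orderOf u = 4} (fun u h hu => by
      show orderOf (h * u * h⁻¹) = 4
      rw [order_conj hF hm]
      exact hu) (fun u hu => by
      have hu' : orderOf u = 4 := hu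
      refine ⟨?_, ?_⟩
      · rintro rfl
        rw [orderOf_one] at hu'
        omega
      · exact orderOf_dvd_iff_pow_eq_one.1 (by rw [hu']))
  rw [h]
  congr 1
  have e : {u : GG | orderOf u = 4} ∩ {u : GG | u • (ptInf : OO) = ptInf} = (fun c : F × F => sS hF c.1 c.2) '' ({a : F | a ≠ 0} ×ˢ Set.univ) := by
    ext u
    simp only [Set.mem_inter_iff, Set.mem_ofPred_eq, Set.mem_image]
    constructor
    · rintro ⟨h1, h2⟩
      have hu1 : u ≠ 1 := by
        rintro rfl
        rw [orderOf_one] at h1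
        omega
      have h4 : u ^ 4 = 1 := orderOf_dvd_iff_pow_eq_one.1 (by rw [h1])
      obtain ⟨a, b, hab, rfl⟩ := fix_inf_two hF hm hu1 h4 h2
      have ha : a ≠ 0 := by
        rintro rfl
        have hb : b ≠ 0 := hab.resolve_left (fun h => h rfl)
        rw [order_S_zero hF hm hb] at h1
        omega
      exact ⟨(a, b), ⟨ha, Set.mem_univ _⟩, rfl⟩
    · rintro ⟨⟨a, b⟩, ⟨ha, -⟩, rfl⟩
      exact ⟨order_S_ne hF hm b ha, S_fix_inf hF hm _ _⟩
  rw [e, Set.ncard_image_of_injective _ (fun c c' h => Prod.ext (sS_inj hF hm h).1 (sS_inj hF hm h).2), Set.ncard_prod]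
  have h5 := Set.ncard_add_ncard_compl ({0} : Set F)
  rw [Set.ncard_singleton, Nat.card_eq_fintype_card] at h5
  have e2 : {b : F | b ≠ 0} = ({0} : Set F)ᶜ := by
    ext b
    simp
  rw [e2, Set.ncard_univ, Nat.card_eq_fintype_card]
  congr 1
  omega

/-- Conjugate tori. -/
def cT (g : GG) (A : Subgroup GG) : Subgroup GG := A.map (MulAut.conj g).toMonoidHom

omit hF hm in
lemma mem_cT {g y : GG} {A : Subgroup GG} : y ∈ cT g A ↔ g⁻¹ * y * g ∈ A := by
  unfold cT
  constructor
  · rintro ⟨z, hz, rfl⟩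
    simpa [MulAut.conj_apply, mul_assoc] using hz
  · intro h
    exact ⟨_, h, by simp [MulAut.conj_apply, mul_assoc]⟩

omit hF hm in
lemma cT_torus (g : GG) {A : Subgroup GG} (hA : IsTorus A) : IsTorus (cT g A) := by
  obtain ⟨u, hu, rfl⟩ := hA
  refine ⟨g * u * g⁻¹, Fpf_of_conj (x := g) ?_, ?_⟩
  · have e : g⁻¹ * (g * u * g⁻¹) * g = u := by group
    rwa [e]
  · ext y
    rw [mem_cT, Subgroup.mem_centralizer_singleton_iff, Subgroup.mem_centralizer_singleton_iff]
    constructor
    · intro h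
      have e1 : y * (g * u * g⁻¹) = g * ((g⁻¹ * y * g) * u) * g⁻¹ := by group
      have e2 : g * u * g⁻¹ * y = g * (u * (g⁻¹ * y * g)) * g⁻¹ := by group
      rw [e1, e2, h]
    · intro h
      have e1 : (g⁻¹ * y * g) * u = g⁻¹ * (y * (g * u * g⁻¹)) * g := by group
      have e2 : u * (g⁻¹ * y * g) = g⁻¹ * (g * u * g⁻¹ * y) * g := by group
      rw [e1, e2, h]

omit hF hm in
lemma mem_N_cT {g y : GG} {A : Subgroup GG} : g⁻¹ * y * g ∈ Subgroup.normalizer (A : Set GG) ↔ y ∈ Subgroup.normalizer (cT g A : Set GG) := by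
  rw [Subgroup.mem_normalizer_iff, Subgroup.mem_normalizer_iff]
  constructor
  · intro h z
    rw [mem_cT, mem_cT]
    have e : g⁻¹ * (y * z * y⁻¹) * g = (g⁻¹ * y * g) * (g⁻¹ * z * g) * (g⁻¹ * y * g)⁻¹ := by group
    rw [e]
    exact h _
  · intro h z
    have h1 := h (g * z * g⁻¹)
    rw [mem_cT, mem_cT] at h1
    have e1 : g⁻¹ * (g * z * g⁻¹) * g = z := by group
    have e : g⁻¹ * (y * (g * z * g⁻¹) * y⁻¹) * g = (g⁻¹ * y * g) * z * (g⁻¹ * y * g)⁻¹ := by group
    rw [e1, e] at h1
    exact h1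

omit hF hm in
lemma card_cT (g : GG) (A : Subgroup GG) : Nat.card (cT g A) = Nat.card A :=
  Subgroup.card_map_of_injective (MulAut.conj g).injective

omit hF hm in
lemma mem_conj_Dp (g y : GG) (a b : OO) : g⁻¹ * y * g ∈ Dp a b ↔ y ∈ Dp (g • a) (g • b) := by
  rw [mem_Dp, mem_Dp, mul_smul, mul_smul, mul_smul, mul_smul, inv_smul_eq_iff, inv_smul_eq_iff, inv_smul_eq_iff, inv_smul_eq_iff]

/-- Tori of the same order are conjugate. -/
theorem torus_conj_of_card {A A' : Subgroup GG} (hA : IsTorus A) (hA' : IsTorus A') (h : Nat.card A = Nat.card A') :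
    ∃ g : GG, A' = cT g A := by
  have h5 := torus_five_le hF hm hA
  obtain ⟨p, hp, hpd⟩ := Nat.exists_prime_and_dvd (n := Nat.card A) (by omega)
  have hc := torus_card_dvd hF hm hA
  obtain ⟨A'', -, -, hconj⟩ := prime_torus hF hm hp (hpd.trans hc)
  obtain ⟨g, hg⟩ := (hconj A hA hpd).symm.trans (hconj A' hA' (h ▸ hpd))
  refine ⟨g, ?_⟩
  ext y
  rw [mem_cT]
  exact hg y

/-- A 2-group fixes a point. -/
lemma two_group_fix (H : Subgroup GG) (h4 : ∀ z ∈ H, z ^ 4 = 1) : ∃ p : OO, ∀ z ∈ H, z • p = p := by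
  haveI : Finite GG := finite_Sz
  haveI : Fact (Nat.Prime 2) := ⟨Nat.prime_two⟩
  have hP : IsPGroup 2 H := by
    intro z
    refine ⟨2, ?_⟩
    apply Subtype.ext
    simpa using h4 z z.2
  obtain ⟨P, hP'⟩ := hP.exists_le_sylow
  obtain ⟨x, hx⟩ := exists_sylow_conj hF hm P
  refine ⟨x • ptInf, fun z hz => ?_⟩
  obtain ⟨a, b, e⟩ := (mem_Q hF hm _).1 ((hx z).1 (hP' hz))
  rw [← mul_smul]
  have e2 : z * x = x * sS hF a b := by
    rw [← e]
    group
  rw [e2, mul_smul, S_fix_inf hF hm]

/-- An intersection which is a 2-group. -/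
lemma inter_fix {x : GG} {p : OO} (huniq : ∀ p' : OO, x • p' = p' → p' = p) (H : Subgroup GG) (hxH : x ∈ H) (h4 : ∀ z ∈ H, z ^ 4 = 1)
    {y : GG} (hy : y ∈ H) : y • p = p := by
  obtain ⟨p', hp'⟩ := two_group_fix hF hm H h4
  have h1 := huniq p' (hp' x hxH)
  rw [← h1]
  exact hp' y hy

/-- Dihedral subgroups with a common element of large order. -/
lemma core_DD {a b c d : OO} (hab : a ≠ b) (hcd : c ≠ d) {z : GG} (h1 : z ∈ Dp a b) (h2 : z ∈ Dp c d) (h4 : z ^ 4 ≠ 1) :
    (c = a ∧ d = b) ∨ (c = b ∧ d = a) := by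
  have e : z ^ 4 = (z ^ 2) ^ 2 := by
    rw [← pow_mul]
  have h3 := Dp_sq_mem ((Tp_le_Dp a b) (Dp_sq_mem h1))
  have h5 := Dp_sq_mem ((Tp_le_Dp c d) (Dp_sq_mem h2))
  rw [← e] at h3 h5
  obtain ⟨h6, h7⟩ := mem_Tp.1 h3
  obtain ⟨h8, h9⟩ := mem_Tp.1 h5
  rcases fix_three hF hm h4 hab h6 h7 h8 with rfl | rfl <;> rcases fix_three hF hm h4 hab h6 h7 h9 with rfl | rfl
  · exact absurd rfl hcd
  · exact Or.inl ⟨rfl, rfl⟩
  · exact Or.inr ⟨rfl, rfl⟩
  · exact absurd rfl hcd

/-- Normalisers of tori with a common element of large order. -/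
lemma core_AA {A A' : Subgroup GG} (hA : IsTorus A) (hA' : IsTorus A') {z : GG} (h1 : z ∈ Subgroup.normalizer (A : Set GG))
    (h2 : z ∈ Subgroup.normalizer (A' : Set GG)) (h4 : z ^ 4 ≠ 1) : A = A' := by
  have h3 := torus_pow_four hF hm hA h1
  have h5 := torus_pow_four hF hm hA' h2
  rw [← (torus_mem_eq hF hm hA h3 h4).2, (torus_mem_eq hF hm hA' h5 h4).2]

/-- A dihedral subgroup and the normaliser of a torus. -/
lemma core_DA {a b : OO} {A : Subgroup GG} (hA : IsTorus A) {z : GG} (h1 : z ∈ Dp a b) (h2 : z ∈ Subgroup.normalizer (A : Set GG)) : z ^ 4 = 1 := by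
  by_contra h4
  have e : z ^ 4 = (z ^ 2) ^ 2 := by
    rw [← pow_mul]
  have h3 := Dp_sq_mem ((Tp_le_Dp a b) (Dp_sq_mem h1))
  rw [← e] at h3
  exact (torus_mem_eq hF hm hA (torus_pow_four hF hm hA h2) h4).1 a (mem_Tp.1 h3).1

/-- The dihedral subgroup containing an involution meets the stabiliser in two elements. -/
lemma Dp_fix_card {a b p : OO} (hab : a ≠ b) {x : GG} (hxD : x ∈ Dp a b) (hx2 : orderOf x = 2) (hp : x • p = p)
    (huniq : ∀ p' : OO, x • p' = p' → p' = p) : {y : GG | y ∈ Dp a b ∧ y • p = p}.ncard = 2 := by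
  classical
  have hx1 : x ≠ 1 := by
    rintro rfl
    rw [orderOf_one] at hx2
    omega
  have hxx : x * x = 1 := by
    rw [← pow_two, ← hx2]
    exact pow_orderOf_eq_one x
  obtain ⟨h1, h2⟩ : x • a = b ∧ x • b = a := by
    rcases mem_Dp.1 hxD with ⟨h1, h2⟩ | h
    · exact absurd ((huniq a h1).trans (huniq b h2).symm) hab
    · exact h
  have hap : a ≠ p := by
    rintro rfl
    exact hab (hp.symm.trans h1)
  have hbp : b ≠ p := by
    rintro rfl
    exact hab (h2.symm.trans hp)
  have e : {y : GG | y ∈ Dp a b ∧ y • p = p} = {1, x} := by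
    ext y
    simp only [Set.mem_ofPred_eq, Set.mem_insert_iff, Set.mem_singleton_iff]
    constructor
    · rintro ⟨h3, h4⟩
      have key : ∀ z : GG, z • a = a → z • b = b → z • p = p → z = 1 := by
        intro z hz1 hz2 hz3
        by_contra hne
        rcases fix_three hF hm hne hab hz1 hz2 hz3 with h | h
        · exact hap h.symm
        · exact hbp h.symm
      rcases mem_Dp.1 h3 with ⟨h5, h6⟩ | ⟨h5, h6⟩
      · exact Or.inl (key y h5 h6 h4)
      · right
        have h7 := key (y * x) (by rw [mul_smul, h1, h6]) (by rw [mul_smul, h2, h5]) (by rw [mul_smul, hp, h4])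
        calc y = y * (x * x) := by rw [hxx, mul_one]
          _ = (y * x) * x := by group
          _ = x := by rw [h7, one_mul]
    · rintro (rfl | rfl)
      · exact ⟨one_mem _, one_smul _ _⟩
      · exact ⟨hxD, hp⟩
  rw [e, Set.ncard_pair (Ne.symm hx1)]

/-- The normaliser of a torus containing a two-element meets the stabiliser in four elements. -/
lemma torus_fix_card {A : Subgroup GG} (hA : IsTorus A) {x : GG} {p : OO} (hxN : x ∈ Subgroup.normalizer (A : Set GG)) (hx1 : x ≠ 1) (h4 : x ^ 4 = 1)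
    (hp : x • p = p) (huniq : ∀ p' : OO, x • p' = p' → p' = p) :
    {y : GG | y ∈ Subgroup.normalizer (A : Set GG) ∧ y • p = p}.ncard = 4 := by
  classical
  haveI : Finite GG := finite_Sz
  haveI : Fact (Nat.Prime 2) := ⟨Nat.prime_two⟩
  set N := Subgroup.normalizer (A : Set GG) with hN
  set R : Subgroup GG := N ⊓ MulAction.stabilizer GG p with hR
  have hcardN : Nat.card N = 4 * Nat.card A := torus_four hF hm hA
  have hodd := torus_odd hF hm hA
  have hcop4 : Nat.Coprime 4 (Nat.card A) := Nat.Coprime.symm (Nat.Coprime.pow_right 2 (Nat.coprime_two_right.2 hodd))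
  have hRc : {y : GG | y ∈ N ∧ y • p = p}.ncard = Nat.card R := by
    rw [show Nat.card R = (R : Set GG).ncard from Nat.card_coe_set_eq _]
    rfl
  rw [hRc]
  have hR4 : ∀ z ∈ R, z ^ 4 = 1 := by
    rintro z ⟨hz1, hz2⟩
    by_contra hne
    have h1 := torus_pow_four hF hm hA hz1
    have h2 := (torus_mem_eq hF hm hA h1 hne).1 p
    apply h2
    exact (MulAction.stabilizer GG p).pow_mem hz2 4
  have hRP : IsPGroup 2 R := by
    intro z
    exact ⟨2, Subtype.ext (by simpa using hR4 z z.2)⟩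
  obtain ⟨j, hj⟩ := hRP.exists_card_eq
  have hdvd : Nat.card R ∣ 4 := by
    have h1 : Nat.card R ∣ Nat.card N := Subgroup.card_dvd_of_le inf_le_left
    rw [hcardN] at h1
    have h2 : Nat.Coprime (Nat.card R) (Nat.card A) := by
      rw [hj]
      exact Nat.Coprime.pow_left j (Nat.coprime_two_left.2 hodd)
    exact h2.dvd_of_dvd_mul_right h1
  have hge : 4 ≤ Nat.card R := by
    let x' : N := ⟨x, hxN⟩
    have hzp : IsPGroup 2 (Subgroup.zpowers x') := by
      rintro ⟨w, hw⟩
      obtain ⟨k, rfl⟩ := Subgroup.mem_zpowers_iff.1 hw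
      refine ⟨2, ?_⟩
      apply Subtype.ext
      apply Subtype.ext
      have e : ((x' ^ k) ^ (2 ^ 2) : N) = (x' ^ 4) ^ k := by
        rw [← zpow_natCast, ← _root_.zpow_mul, ← zpow_natCast, ← _root_.zpow_mul]
        congr 1
        push_cast
        ring
      have e2 : x' ^ 4 = 1 := Subtype.ext h4
      simp only [SubmonoidClass.mk_pow]
      show (((x' ^ k) ^ (2 ^ 2) : N) : GG) = 1
      rw [e, e2, _root_.one_zpow]
      rfl
    obtain ⟨S, hS⟩ := hzp.exists_le_sylow
    have hidx : ¬ 2 ∣ (S : Subgroup N).index := S.not_dvd_index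
    have hcS : Nat.card S * (S : Subgroup N).index = Nat.card N := Subgroup.card_mul_index _
    have h4dvd : 4 ∣ Nat.card S := by
      have h1 : 4 ∣ Nat.card S * (S : Subgroup N).index := by
        rw [hcS, hcardN]
        exact dvd_mul_right _ _
      have h2 : Nat.Coprime 4 (S : Subgroup N).index := by
        have h3 : Odd (S : Subgroup N).index := Nat.odd_iff.2 (by omega)
        exact Nat.Coprime.symm (Nat.Coprime.pow_right 2 (Nat.coprime_two_right.2 h3))
      exact h2.dvd_of_dvd_mul_right h1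
    set S' : Subgroup GG := (S : Subgroup N).map N.subtype with hS'
    have hS'c : Nat.card S' = Nat.card S := Subgroup.card_map_of_injective N.subtype_injective
    have hS'4 : ∀ z ∈ S', z ^ 4 = 1 := by
      rintro z ⟨w, hw, rfl⟩
      obtain ⟨i, hi⟩ := (IsPGroup.iff_orderOf.1 S.isPGroup') ⟨w, hw⟩
      have h1 : orderOf ((w : N) : GG) = 2 ^ i := by
        rw [← hi]
        simp
      have h2 := torus_pow_four hF hm hA w.2
      have h3 := torus_elem_odd hF hm hA h2
      have h5 : orderOf (((w : N) : GG) ^ 4) ∣ 2 ^ i := by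
        rw [← h1]
        exact orderOf_pow_dvd 4
      have h6 : Nat.Coprime (orderOf (((w : N) : GG) ^ 4)) (2 ^ i) := Nat.Coprime.pow_right i (Nat.coprime_two_right.2 h3)
      have h7 := Nat.Coprime.eq_one_of_dvd h6 h5
      exact orderOf_eq_one_iff.1 h7
    have hxS' : x ∈ S' := ⟨x', hS (Subgroup.mem_zpowers x'), rfl⟩
    have hle : S' ≤ R := by
      intro z hz
      refine ⟨?_, inter_fix hF hm huniq S' hxS' hS'4 hz⟩
      obtain ⟨w, -, rfl⟩ := hz
      exact w.2
    have h5 := Subgroup.card_le_of_le hle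
    have h6 : 4 ≤ Nat.card S := Nat.le_of_dvd Nat.card_pos h4dvd
    omega
  exact le_antisymm (Nat.le_of_dvd (by norm_num) hdvd) hge

end

end CfsgLib.Sz
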